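import Mathlib
import Cfsg.Agent.H27.SolRad
import Cfsg.Agent.H27.ClassSize
import Cfsg.Agent.H21.Height
import Cfsg.Agent.H21.Blk
import Cfsg.Agent.H05.Burnside
import Cfsg.Agent.H05.RepEquiv
import Cfsg.Agent.H03.Frobenius
import Cfsg.Agent.H01.Coprime

/-!
Kazarin's theorem on conjugacy classes of prime power size.
* `H27.exists_nonlinear_mem_charCenter` (principal block argument).
* `H27.mem_pCore_of_cs_dvd` (Wielandt: a `p`-element with class of `p`-power size lies in `O_p(G)`).
* `H27.kazarin : cs x ∣ p ^ k → x ∈ solvableRadical G`.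
* `H27.cent_of_cs_dvd` (`x` centralizes normal `p'`-subgroups), `H27.mem_fitting_of_cs_dvd` (if `O_p(G) = 1`),
  `H27.commutator_mem_pCore_of_cs_dvd`.
-/

open scoped Pointwise commutatorElement ComplexConjugate
open Subgroup Cfsg H05

namespace H27

universe u

variable {G : Type*} [Group G]

open Classical in
theorem exists_nonlinear_mem_charCenter [Finite G] {p q k : ℕ} (hp : p.Prime) [hq : Fact q.Prime]
    (hpq : p ≠ q) {g y : G} (hg : cs g ∣ p ^ k) (hy : y ∈ commutator G) (hqy : q ∣ orderOf y)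
    (hi : ¬ p ∣ (commutator G).index) :
    ∃ χ : G → ℂ, IsIrrCharacter G χ ∧ χ 1 ≠ 1 ∧ g ∈ charCenter χ := by
  by_contra H
  push Not at H
  obtain ⟨M, hM⟩ := H21.exists_isPModular hq.out
  haveI := hM.2.1
  have horth := H21.block_orth hM (H21.ring_blockCoeff (H21.isPBlock_principal (M := M) (G := G)))
    (g := y) (h := 1) (by
      rw [H21.pPart_one, isConj_one_left, H21.pPart_eq_one_iff]; exact fun h => h hqy)
  set B := principalBlock M G with hB
  have hne : ∀ χ ∈ B, (χ : G → ℂ) g ≠ 0 := by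
    intro χ hχ h0
    have h1 := hχ g
    simp only [centralChar, h0, mul_zero, zero_div, sub_zero, mul_one, div_one] at h1
    have h2 := ((H21.ideal_natCast_iff hM).1 h1).trans hg
    exact hpq ((Nat.prime_dvd_prime_iff_eq hq.out hp).1 (hq.out.dvd_of_dvd_pow h2)).symm
  have hdvd : ∀ χ ∈ B, (χ : G → ℂ) 1 ≠ 1 → p ∣ charDegree (χ : G → ℂ) := by
    intro χ hχ h1
    by_contra hd
    refine H χ χ.2 h1 (χ.2.mem_charCenter.2 ((χ.2.eq_zero_or_norm_eq_of_coprime g ?_).resolve_left (hne χ hχ)))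
    exact (((Nat.Prime.coprime_iff_not_dvd hp).2 hd).symm.pow_right k).coprime_dvd_right hg
  let L : Subgroup (G →* ℂˣ) :=
    { carrier := {φ | ∀ x : G, MemLocalIdeal M ((cs x : ℂ) - cs x * φ x)}
      one_mem' := fun x => by simpa using H21.ideal_zero
      mul_mem' := fun {φ ψ} hφ hψ x => by
        have := H21.ideal_add (hφ x) (H21.ideal_mul_left (H21.ring_of_isIntegral
          ((isIrrCharacter_monoidHom φ).isIntegral x)) (hψ x))
        convert this using 1
        simp only [MonoidHom.mul_apply, Units.val_mul]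
        ring
      inv_mem' := fun {φ} hφ x => by
        have := H21.ideal_neg (H21.ideal_mul_left (H21.ring_of_isIntegral
          ((isIrrCharacter_monoidHom φ⁻¹).isIntegral x)) (hφ x))
        convert this using 1
        simp only [MonoidHom.inv_apply, Units.val_inv_eq_inv_val]
        field_simp
        ring }
  have hL : (Finset.univ.filter fun χ : IrrCharacter G => χ ∈ B ∧ (χ : G → ℂ) 1 = 1).card = Nat.card L := by
    rw [← Fintype.card_subtype, ← Nat.card_eq_fintype_card]
    refine Nat.card_congr (Equiv.ofBijective (fun φ : L =>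
      (⟨⟨fun x => (φ.1 x : ℂ), isIrrCharacter_monoidHom φ.1⟩, fun x => ?_, by simp⟩ :
        {χ : IrrCharacter G // χ ∈ B ∧ (χ : G → ℂ) 1 = 1})) ⟨fun φ ψ h => ?_, fun χ => ?_⟩).symm
    · simpa [centralChar] using φ.2 x
    · exact Subtype.ext (monoidHom_coe_injective (congrArg (fun x => x.1.1) h))
    · obtain ⟨φ, hφ⟩ := χ.1.2.isCharacter.exists_monoidHom χ.2.2
      refine ⟨⟨φ, fun x => ?_⟩, Subtype.ext (Subtype.ext hφ.symm)⟩
      have := χ.2.1 x
      rw [hφ] at this
      simpa [centralChar] using this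
  have hLd : Nat.card L ∣ (commutator G).index := by
    rw [← card_monoidHom_units]; exact card_subgroup_dvd_card L
  rw [← Finset.sum_filter_add_sum_filter_not _ (fun χ : IrrCharacter G => (χ : G → ℂ) 1 = 1),
    Finset.filter_filter, Finset.filter_filter] at horth
  have h1 : ∑ χ : IrrCharacter G with χ ∈ B ∧ (χ : G → ℂ) 1 = 1,
      (χ : G → ℂ) y * conj ((χ : G → ℂ) 1) = Nat.card L := by
    rw [← hL, Finset.card_eq_sum_ones]
    push_cast
    refine Finset.sum_congr rfl fun χ hχ => ?_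
    have h2 := (Finset.mem_filter.1 hχ).2.2
    obtain ⟨φ, hφ⟩ := χ.2.isCharacter.exists_monoidHom h2
    rw [h2, hφ]
    simp [H03.map_eq_one_of_mem_commutator φ hy]
  rw [h1] at horth
  have hp0 : (p : ℂ) ≠ 0 := by exact_mod_cast hp.ne_zero
  have h2 : IsIntegral ℤ (∑ χ : IrrCharacter G with χ ∈ B ∧
      ¬ (χ : G → ℂ) 1 = 1, (χ : G → ℂ) y * conj ((χ : G → ℂ) 1) / p) := by
    refine IsIntegral.sum _ fun χ hχ => ?_
    obtain ⟨c, hc⟩ := hdvd χ (Finset.mem_filter.1 hχ).2.1 (Finset.mem_filter.1 hχ).2.2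
    rw [← χ.2.charDegree_eq, hc, map_natCast]
    push_cast
    rw [mul_left_comm, mul_div_cancel_left₀ _ hp0]
    exact (χ.2.isIntegral y).mul (isIntegral_algebraMap (x := (c : ℤ)))
  rw [← Finset.sum_div, eq_neg_of_add_eq_zero_right horth] at h2
  have h3 := h2.neg
  rw [neg_div, neg_neg] at h3
  exact hi ((nat_dvd_of_isIntegral_div hp.ne_zero h3).trans hLd)

theorem mem_pCore_of_cs_dvd [Finite G] {p k : ℕ} [hp : Fact p.Prime] {x : G} (hx : ∃ m, orderOf x = p ^ m)
    (h : cs x ∣ p ^ k) : x ∈ pCore p G := by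
  obtain ⟨P, hP⟩ := (H21.isPGroup_zpowers hx).exists_le_sylow
  have hxP : x ∈ (P : Subgroup G) := hP (mem_zpowers x)
  have h1 : normalClosure {x} ≤ (P : Subgroup G) := by
    rw [normalClosure, closure_le]
    intro y hy
    obtain ⟨a, ha, hc⟩ := Group.mem_conjugatesOfSet_iff.1 hy
    rw [Set.mem_singleton_iff.1 ha] at hc
    obtain ⟨g, rfl⟩ := isConj_iff.1 hc
    obtain ⟨u, hu, c, hc', rfl⟩ := exists_mul_of_coprime_index (H := (P : Subgroup G)) (K := cent x)
      ((((Nat.Prime.coprime_iff_not_dvd hp.out).2 P.not_dvd_index).symm.pow_right k).coprime_dvd_right h) g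
    have e : u * c * x * (u * c)⁻¹ = u * x * u⁻¹ := by
      rw [mul_assoc u c x, mem_cent.1 hc']; group
    rw [e]
    exact mul_mem (mul_mem hu hxP) (inv_mem hu)
  exact H02.le_pCore (P.2.to_le h1) (subset_normalClosure rfl)

theorem kazarin_aux {p : ℕ} (hp : p.Prime) (k n : ℕ) : ∀ (G : Type u) [Group G] [Finite G],
    Nat.card G = n → ∀ x : G, cs x ∣ p ^ k → x ∈ solvableRadical G := by
  induction n using Nat.strong_induction_on with
  | _ n ih =>
  intro G _ _ hn x hx
  by_cases hR : solvableRadical G = ⊥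
  swap
  · rw [← comap_solRad_quotient (solvableRadical G)]
    exact ih _ (hn ▸ H02.card_quotient_lt hR) _ rfl _ ((cs_mk_dvd _ x).trans hx)
  refine H03.mem_of_forall_prime_pow fun r hr _ u hu hur => ?_
  replace hx := (cs_dvd_of_mem_zpowers hu).trans hx
  clear hu
  by_contra hu
  have hsub : ∀ N : Subgroup G, N.Normal → Group.IsSolvable N → N = ⊥ := fun N _ _ =>
    eq_bot_iff.2 (hR ▸ le_solRad N)
  have hlt : ∀ H : Subgroup G, H ≠ ⊤ → Nat.card H < n := fun H hH => by
    rw [← hn, ← card_top (G := G)]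
    exact H03.card_lt_card_of_lt (lt_top_iff_ne_top.2 hH)
  haveI := Fact.mk hp
  have hrp : r ≠ p := by
    rintro rfl
    haveI := (H02.pCore_isPGroup (p := r) (G := G)).isNilpotent
    exact hu (le_solRad _ (mem_pCore_of_cs_dvd hur hx))
  have hZ : center G = ⊥ := hsub _ inferInstance
    (Group.isSolvable_of_comm fun a b => Subtype.ext (mem_center_iff.1 b.2 a))
  have key : ∀ N : Subgroup G, N.Normal → N ≠ ⊥ → N ⊔ zpowers u = ⊤ := by
    intro N hN hN0
    by_contra hne
    set H := N ⊔ zpowers u with hH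
    have huH : u ∈ H := mem_sup_right (mem_zpowers u)
    have h1 : cs (⟨u, huH⟩ : H) ∣ p ^ k := by
      refine Dvd.dvd.trans ?_ ((relIndex_dvd_index_of_normal_right (cent u) N).trans hx)
      rw [cs_coe_eq_relIndex]
      have h2 := H01.card_sup_mul_card_inf (cent u ⊓ H) N
      have h3 : cent u ⊓ H ⊔ N = H := le_antisymm (sup_le inf_le_right le_sup_left)
        (sup_le le_sup_right ((le_inf (zpowers_le.2 (self_mem_cent u)) le_sup_right).trans le_sup_left))
      have h4 : cent u ⊓ H ⊓ N = cent u ⊓ N := by rw [inf_assoc, inf_eq_right.2 (le_sup_left : N ≤ H)]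
      rw [h3, h4, ← H01.card_mul_relIndex (inf_le_right : cent u ⊓ H ≤ H),
        ← H01.card_mul_relIndex (inf_le_right : cent u ⊓ N ≤ N), inf_relIndex_right, inf_relIndex_right,
        mul_assoc, mul_comm (Nat.card (cent u ⊓ N : Subgroup G))] at h2
      have h5 := Nat.eq_of_mul_eq_mul_left Nat.card_pos h2
      exact (Nat.eq_of_mul_eq_mul_right Nat.card_pos h5).dvd
    have h2 := ih _ (hlt H hne) H rfl _ h1
    have h3 : u ∈ centralizer (N : Set G) := by
      let K : Subgroup N := ((solvableRadical H).map H.subtype).subgroupOf N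
      haveI : K.Normal := ⟨fun a ha g => by
        obtain ⟨b, hb, e⟩ := ha
        exact ⟨⟨g, mem_sup_left g.2⟩ * b * ⟨g, mem_sup_left g.2⟩⁻¹, solRad_normal.conj_mem b hb _, by
          change (g : G) * b * g⁻¹ = g * a * g⁻¹
          rw [show (b : G) = a from e]⟩⟩
      haveI := H02.isSolvable_map H.subtype (solvableRadical H)
      haveI : Group.IsSolvable K := H02.isSolvable_subgroupOf _ _
      intro a ha
      have h4 : (⟨a * u * a⁻¹ * u⁻¹, by
          rw [mul_assoc, mul_assoc, ← mul_assoc u]; exact mul_mem ha (hN.conj_mem _ (inv_mem ha) u)⟩ : N) ∈ K :=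
        ⟨⟨a, mem_sup_left ha⟩ * ⟨u, huH⟩ * ⟨a, mem_sup_left ha⟩⁻¹ * ⟨u, huH⟩⁻¹,
          mul_mem (solRad_normal.conj_mem _ h2 _) (inv_mem h2), rfl⟩
      have h5 := solRad_map_subtype_le N (mem_map_of_mem _ (le_solRad K h4))
      rw [hR, mem_bot] at h5
      change a * u * a⁻¹ * u⁻¹ = 1 at h5
      rwa [mul_inv_eq_one, mul_inv_eq_iff_eq_mul] at h5
    have h4 : centralizer (N : Set G) ≠ ⊤ := by
      intro h
      rw [centralizer_eq_top_iff_subset, hZ] at h
      exact hN0 (eq_bot_iff.2 h)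
    exact hu (solRad_map_subtype_le _ (mem_map_of_mem _ (ih _ (hlt _ h4) _ rfl ⟨u, h3⟩
      ((cs_coe_dvd _ _).trans hx))))
  have hcomm : ∀ N : Subgroup G, N.Normal → N ≠ ⊥ → commutator G ≤ N := by
    intro N hN hN0
    have h1 : zpowers (QuotientGroup.mk' N u) = ⊤ := by
      rw [← MonoidHom.map_zpowers, ← map_top_of_surjective _ (QuotientGroup.mk'_surjective N), ← key N hN hN0,
        Subgroup.map_sup, (Subgroup.map_eq_bot_iff N).2 (QuotientGroup.ker_mk' N).ge, bot_sup_eq]
    haveI : IsCyclic (G ⧸ N) := isCyclic_iff_exists_zpowers_eq_top.2 ⟨_, h1⟩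
    exact Normal.quotient_commutative_iff_commutator_le.1 inferInstance
  have hc0 : commutator G ≠ ⊥ := by
    intro h
    apply hu
    have : center G = ⊤ := (commutator_eq_bot_iff_center_eq_top G).1 h
    rw [hR, ← hZ, this]; trivial
  have hi : ¬ p ∣ (commutator G).index := by
    intro hd
    obtain ⟨m, hm⟩ := hur
    have h1 : (commutator G).index ∣ r ^ m := by
      rw [← relIndex_top_right, ← key _ inferInstance hc0, relIndex_sup_left, ← hm, ← Nat.card_zpowers]
      exact relIndex_dvd_card _ _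
    exact hrp ((Nat.prime_dvd_prime_iff_eq hp hr).1 (hp.dvd_of_dvd_pow (hd.trans h1))).symm
  obtain ⟨q, hq, hqd, hqp⟩ : ∃ q : ℕ, q.Prime ∧ q ∣ Nat.card (commutator G) ∧ q ≠ p := by
    by_contra hc
    push Not at hc
    have h1 : IsPGroup p (commutator G) := IsPGroup.of_card
      (Nat.eq_prime_pow_of_unique_prime_dvd Nat.card_pos.ne' fun hq hd => hc _ hq hd)
    haveI := h1.isNilpotent
    exact hc0 (hsub _ inferInstance inferInstance)
  haveI := Fact.mk hq
  obtain ⟨y, hy⟩ := exists_prime_orderOf_dvd_card' q hqd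
  obtain ⟨χ, hχ, h1, h2⟩ := exists_nonlinear_mem_charCenter hp hqp.symm hx y.2
    (by rw [orderOf_coe, hy]) hi
  by_cases hk : charKer χ = ⊥
  · rw [charCenter_eq_center_of_charKer_eq_bot hk, hZ, ← hR] at h2
    exact hu h2
  · obtain ⟨ψ, hψ, e⟩ := hχ.exists_quotient (commutator G) fun a ha =>
      hχ.isCharacter.mem_charKer.1 (hcomm _ inferInstance hk ha)
    haveI : IsMulCommutative (G ⧸ commutator G) := Normal.quotient_commutative_iff_commutator_le.2 le_rfl
    apply h1
    rw [e]
    exact hψ.apply_one_of_comm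

/-- Kazarin's theorem -/
theorem kazarin [Finite G] {p k : ℕ} (hp : p.Prime) {x : G} (hx : cs x ∣ p ^ k) :
    x ∈ solvableRadical G := kazarin_aux hp k _ G rfl x hx

theorem cent_of_cs_dvd [Finite G] {p k : ℕ} {x : G} (hx : cs x ∣ p ^ k) (N : Subgroup G) [N.Normal]
    (hN : (Nat.card N).Coprime p) : x ∈ centralizer (N : Set G) := by
  have h1 : (cent x).relIndex N = 1 := Nat.eq_one_of_dvd_coprimes (hN.pow_right k) (relIndex_dvd_card _ _)
    ((relIndex_dvd_index_of_normal_right _ _).trans hx)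
  exact fun a ha => mem_cent.1 (relIndex_eq_one.1 h1 ha)

theorem mem_fitting_of_cs_dvd [Finite G] {p k : ℕ} [hp : Fact p.Prime] (h0 : pCore p G = ⊥) {x : G}
    (hx : cs x ∣ p ^ k) : x ∈ fittingSubgroup G ∧ x ∈ centralizer (fittingSubgroup G : Set G) := by
  have h1 : fittingSubgroup G ≤ pPrimeCore p G := by
    simpa [h0] using H02.fitting_le_pCore_sup_pPrimeCore (p := p) (G := G) hp.out
  have h2 : x ∈ centralizer (fittingSubgroup G : Set G) :=
    centralizer_le h1 (cent_of_cs_dvd hx _ (H02.pPrimeCore_coprime p G))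
  haveI : Group.IsSolvable (solvableRadical G ⊓ centralizer (fittingSubgroup G : Set G) : Subgroup G) :=
    H02.isSolvable_of_le inf_le_left
  exact ⟨H02.le_fitting_of_le_centralizer_fitting
    (solvableRadical G ⊓ centralizer (fittingSubgroup G : Set G)) inf_le_right ⟨kazarin hp.out hx, h2⟩, h2⟩

theorem commutator_mem_pCore_of_cs_dvd [Finite G] {p k l : ℕ} [hp : Fact p.Prime] {x y : G}
    (hx : cs x ∣ p ^ k) (hy : cs y ∣ p ^ l) : ⁅x, y⁆ ∈ pCore p G := by
  have h1 := mem_fitting_of_cs_dvd (H02.pCore_quotient_pCore p G) ((cs_mk_dvd (pCore p G) x).trans hx)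
  have h2 := mem_fitting_of_cs_dvd (H02.pCore_quotient_pCore p G) ((cs_mk_dvd (pCore p G) y).trans hy)
  rw [← QuotientGroup.eq_one_iff, ← QuotientGroup.mk'_apply, map_commutatorElement,
    commutatorElement_eq_one_iff_mul_comm]
  exact h2.2 _ h1.1

end H27
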