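import Cfsg.Agent.H27.MG2
import Cfsg.Agent.S1059

/-! `G₂(2)` on 63 points: `H27.G22.model`. -/

set_option autoImplicit false
set_option maxRecDepth 100000

namespace H27.G22
open H13 H14.PK H14.PK.TS H27.PKx H27.MG Cfsg

/-- numbering of the coordinates -/
def E0 : Lie.chevG2.Idx ≃ Fin 14 := finSumFinEquiv (m := 2) (n := 12)
def PT : ℕ := nat_lit 0x3dbdf403cfaf12fbdfeddba80e8977eedddf6f9d9b3182c42f085c002fbbbe0aeefbb7abf9af52aa5aa02555952245d912210d84020058001fd57e09f6d7cf9df776e1d4b74012bb4a9123f489108f420100b40001fa07d818e060815c055010804000bc02e0084020000c0020004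
def Ps : List (ℕ × ℕ) := [(nat_lit 0xc001000200060008001810200060008001000300040208001, nat_lit 0x1a5d961e6dd7155164d14123ea9e8a6eaecb649668e08627fae37e7ef3bf74db5cf0cb1bc51840c92881cd38c2c0042), (nat_lit 0x8001d002400500090810002e004000a001800200040008041, nat_lit 0x2287bf36d67a3ae6392dbb0bf1cabb259b7e29ab3d3ef607c92ca30d20e1d04d25544563d869b75c7995c20440c6140), (nat_lit 0x800100020004000800100420004020804100422006000a001, nat_lit 0x3dfbbf39eb7e35db3d31cafc2dbabb29aa7a259a392189f81c6de7585da6544d65503d244d38b3092872061440c2040), (nat_lit 0x800100060014000801d000200242028009002e00040008201, nat_lit 0x30bf2c76d74cfae78dfcefef6dbabb27a29aa48e69628607d55935124503dd79b71a6585cb30d3892881c40c6142040)]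
def Ls : List ℕ := [nat_lit 0x1a5d961e6dd7155164d14123ea9e8a6eaecb649668e08627fae37e7ef3bf74db5cf0cb1bc51840c92881cd38c2c0042, nat_lit 0x2287bf36d67a3ae6392dbb0bf1cabb259b7e29ab3d3ef607c92ca30d20e1d04d25544563d869b75c7995c20440c6140, nat_lit 0x3dfbbf39eb7e35db3d31cafc2dbabb29aa7a259a392189f81c6de7585da6544d65503d244d38b3092872061440c2040, nat_lit 0x30bf2c76d74cfae78dfcefef6dbabb27a29aa48e69628607d55935124503dd79b71a6585cb30d3892881c40c6142040]
def bs : List ℕ := [nat_lit 0, nat_lit 1, nat_lit 7, nat_lit 3, nat_lit 5]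

theorem model (F : Type*) [Field F] [Fintype F] (hF : Fintype.card F = 2) :
    ∃ S : TS (Lie.chevG2.group F) 6 63, Mdl S Ls bs 12096 := by
  let C := FC.prime F (p := 2) (s := 1) (by norm_num) hF (by norm_num)
  have hN : Nat.card (Lie.chevG2.group F) = 12096 := by
    rw [Cfsg.Agent.S1059.result hF]; norm_num
  obtain ⟨S, h, -⟩ := C.model E0 _ (MonoidHom.id _) (pj := true) (PT := PT) (w := 6)
    (n := 63) (by norm_num) (by norm_num) (by decide +kernel) (Ps := Ps)
    (List.forall_mem_cons.2 ⟨C.exists_chev (m1 := 1) (by decide +kernel) Lie.chevG2 E0 ⟨6, by decide⟩ 1 (M' := nat_lit 0xc001000200060008001810200060008001000300040208001) (by decide +kernel) (by decide +kernel),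
      List.forall_mem_cons.2 ⟨C.exists_chev (m1 := 1) (by decide +kernel) Lie.chevG2 E0 ⟨7, by decide⟩ 1 (M' := nat_lit 0x8001d002400500090810002e004000a001800200040008041) (by decide +kernel) (by decide +kernel),
      List.forall_mem_cons.2 ⟨C.exists_chev (m1 := 1) (by decide +kernel) Lie.chevG2 E0 ⟨0, by decide⟩ 1 (M' := nat_lit 0x800100020004000800100420004020804100422006000a001) (by decide +kernel) (by decide +kernel),
      List.forall_mem_cons.2 ⟨C.exists_chev (m1 := 1) (by decide +kernel) Lie.chevG2 E0 ⟨4, by decide⟩ 1 (M' := nat_lit 0x800100060014000801d000200242028009002e00040008201) (by decide +kernel) (by decide +kernel),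
      List.forall_mem_nil _⟩⟩⟩⟩)
    (allL_iff.1 (by decide +kernel)) hN (pr := [[nat_lit 0, nat_lit 1, nat_lit 3],
   [nat_lit 4, nat_lit 0, nat_lit 2, nat_lit 0, nat_lit 4, nat_lit 2],
   [nat_lit 1, nat_lit 0, nat_lit 4, nat_lit 0, nat_lit 4, nat_lit 1, nat_lit 4, nat_lit 0, nat_lit 5, nat_lit 2, nat_lit 1, nat_lit 5],
   [nat_lit 6, nat_lit 6, nat_lit 3, nat_lit 2],
   [nat_lit 0, nat_lit 0, nat_lit 5, nat_lit 1, nat_lit 1],
   [nat_lit 1, nat_lit 6, nat_lit 6, nat_lit 0, nat_lit 2, nat_lit 1],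
   [nat_lit 2, nat_lit 3, nat_lit 0, nat_lit 2, nat_lit 7, nat_lit 2, nat_lit 1],
   [nat_lit 2, nat_lit 2, nat_lit 2, nat_lit 4, nat_lit 8],
   [nat_lit 4, nat_lit 5, nat_lit 2, nat_lit 2],
   [nat_lit 2, nat_lit 1, nat_lit 1, nat_lit 0],
   [nat_lit 0, nat_lit 1, nat_lit 1]]) (lv := [(nat_lit 0, [nat_lit 11, nat_lit 12, nat_lit 13, nat_lit 14]), (nat_lit 1, [nat_lit 8, nat_lit 7]), (nat_lit 7, [nat_lit 3]), (nat_lit 3, [nat_lit 2]), (nat_lit 5, [nat_lit 0])]) (Ls := Ls) rfl (by decide +kernel)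
    (Or.inl Function.injective_id)
  exact ⟨S, h⟩

end H27.G22
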