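import Mathlib
import Cfsg.Agent.H27.PPrimeElt

/-!
A normal 2-complement criterion for Sylow 2-subgroups of class at most 2.

* `H27.hasNPC_two_of_class_two` : `P` Sylow 2 of class at most 2, `B` a group of odd-order automorphisms fixing `P`;
  if for each nontrivial `B`-invariant `D ⊴ P` the odd-order elements of `N(D)` centralise `P`, then `G` has a
  normal 2-complement.
-/

open scoped Pointwise commutatorElement
open Subgroup Cfsg

namespace H27
namespace ClassTwo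

variable {G : Type*} [Group G]

/-- centric subgroups of `P` with an odd-order automiser element -/
def Bad (P D : Subgroup G) : Prop :=
  D ≤ P ∧ P ⊓ centralizer (D : Set G) ≤ D ∧
    ∃ g ∈ normalizer (D : Set G), (orderOf g).Coprime 2 ∧ g ∉ centralizer (D : Set G)

/-- bad subgroups of largest order -/
def Good (P D : Subgroup G) : Prop :=
  Bad P D ∧ ∀ D', Bad P D' → Nat.card D' ≤ Nat.card D

/-- `[D, O²(N(D))]` -/
def V (D : Subgroup G) : Subgroup G :=
  closure {c | ∃ d ∈ D, ∃ g ∈ normalizer (D : Set G), (orderOf g).Coprime 2 ∧ c = ⁅g, d⁆}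

/-- `Ω₁(Z(D))` -/
def U (D : Subgroup G) : Subgroup G where
  carrier := {u | u ∈ D ∧ u ∈ centralizer (D : Set G) ∧ u * u = 1}
  one_mem' := ⟨D.one_mem, one_mem _, mul_one 1⟩
  mul_mem' := by
    rintro a b ⟨ha, ha', ha2⟩ ⟨hb, hb', hb2⟩
    refine ⟨D.mul_mem ha hb, mul_mem ha' hb', ?_⟩
    calc a * b * (a * b) = a * (b * a) * b := by group
      _ = (a * a) * (b * b) := by rw [ha' b hb]; group
      _ = 1 := by rw [ha2, hb2, mul_one]
  inv_mem' := by
    rintro a ⟨ha, ha', ha2⟩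
    exact ⟨D.inv_mem ha, inv_mem ha', by rw [← mul_inv_rev, ha2, inv_one]⟩

theorem comm_mem_of_normalizer {D : Subgroup G} {g d : G} (hg : g ∈ normalizer (D : Set G))
    (hd : d ∈ D) : ⁅g, d⁆ ∈ D :=
  D.mul_mem ((mem_normalizer_iff.1 hg d).1 hd) (D.inv_mem hd)

theorem comm_mem_V {D : Subgroup G} {g d : G} (hg : g ∈ normalizer (D : Set G))
    (hc : (orderOf g).Coprime 2) (hd : d ∈ D) : ⁅g, d⁆ ∈ V D :=
  subset_closure ⟨d, hd, g, hg, hc, rfl⟩

theorem V_le (D : Subgroup G) : V D ≤ D := by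
  rw [V, closure_le]
  rintro _ ⟨d, hd, g, hg, -, rfl⟩
  exact comm_mem_of_normalizer hg hd

theorem normalizer_le_V (D : Subgroup G) : normalizer (D : Set G) ≤ normalizer (V D : Set G) := by
  apply H01.le_normalizer_of_conj_mem
  intro a ha
  change V D ≤ (V D).comap (MulAut.conj a).toMonoidHom
  conv_lhs => rw [V]
  rw [closure_le]
  rintro _ ⟨d, hd, g, hg, hc, rfl⟩
  change (MulAut.conj a).toMonoidHom ⁅g, d⁆ ∈ V D
  rw [map_commutatorElement]
  refine comm_mem_V (mul_mem (mul_mem ha hg) (inv_mem ha)) ?_ ((mem_normalizer_iff.1 ha d).1 hd)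
  exact hc.coprime_dvd_left (orderOf_map_dvd _ g)

theorem normalizer_le_Z (D : Subgroup G) :
    normalizer (D : Set G) ≤ normalizer ((D ⊓ centralizer (D : Set G) : Subgroup G) : Set G) :=
  H01.le_normalizer_inf le_rfl (H01.le_normalizer_centralizer le_rfl)

theorem normalizer_le_U (D : Subgroup G) : normalizer (D : Set G) ≤ normalizer (U D : Set G) := by
  apply H01.le_normalizer_of_conj_mem
  rintro a ha u ⟨h1, h2, h3⟩
  obtain ⟨h4, h5⟩ := H01.conj_mem_of_le_normalizer (normalizer_le_Z D) ha ⟨h1, h2⟩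
  refine ⟨h4, h5, ?_⟩
  calc a * u * a⁻¹ * (a * u * a⁻¹) = a * (u * u) * a⁻¹ := by group
    _ = 1 := by rw [h3]; group

theorem coprime_of_mem {D : Subgroup G} (hD : IsPGroup 2 D) {g d : G} (hc : (orderOf g).Coprime 2)
    (hd : d ∈ D) : (orderOf g).Coprime (orderOf d) := by
  obtain ⟨k, hk⟩ := (IsPGroup.iff_orderOf.1 hD) ⟨d, hd⟩
  rw [← orderOf_coe] at hk
  rw [show orderOf d = 2 ^ k from hk]
  exact hc.pow_right k

theorem mem_centralizer_of_comm {D : Subgroup G} {g : G} (h : ∀ d ∈ D, ⁅g, d⁆ = 1) :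
    g ∈ centralizer (D : Set G) := fun d hd => (commutatorElement_eq_one_iff_mul_comm.1 (h d hd)).symm

variable [Finite G] {P : Sylow 2 G}
  (h2 : ∀ a ∈ (P : Subgroup G), ∀ b ∈ (P : Subgroup G), ∀ c ∈ (P : Subgroup G),
    ⁅a, b⁆ * c = c * ⁅a, b⁆)
  (hP : ∀ g ∈ normalizer ((P : Subgroup G) : Set G), (orderOf g).Coprime 2 →
    g ∈ centralizer ((P : Subgroup G) : Set G))

omit [Finite G] in
theorem comm_mem_P {a b : G} (ha : a ∈ (P : Subgroup G)) (hb : b ∈ (P : Subgroup G)) :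
    ⁅a, b⁆ ∈ (P : Subgroup G) := comm_mem_of_normalizer (le_normalizer ha) hb

include h2

omit [Finite G] in
theorem comm_mul_left {a b c : G} (ha : a ∈ (P : Subgroup G)) (hb : b ∈ (P : Subgroup G))
    (hc : c ∈ (P : Subgroup G)) : ⁅a * b, c⁆ = ⁅a, c⁆ * ⁅b, c⁆ := by
  calc ⁅a * b, c⁆ = a * ⁅b, c⁆ * a⁻¹ * ⁅a, c⁆ := by simp only [commutatorElement_def]; group
    _ = ⁅b, c⁆ * ⁅a, c⁆ := by rw [← h2 b hb c hc a ha]; group
    _ = _ := h2 b hb c hc _ (comm_mem_P ha hc)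

omit [Finite G] in
theorem comm_mul_right {a b c : G} (ha : a ∈ (P : Subgroup G)) (hb : b ∈ (P : Subgroup G))
    (hc : c ∈ (P : Subgroup G)) : ⁅a, b * c⁆ = ⁅a, b⁆ * ⁅a, c⁆ := by
  calc ⁅a, b * c⁆ = ⁅a, b⁆ * (b * ⁅a, c⁆ * b⁻¹) := by simp only [commutatorElement_def]; group
    _ = _ := by rw [← h2 a ha c hc b hb]; group

omit [Finite G] in
theorem Bad.comm_mem {D : Subgroup G} (hD : Bad P D) {a b : G} (ha : a ∈ (P : Subgroup G))
    (hb : b ∈ (P : Subgroup G)) : ⁅a, b⁆ ∈ D ⊓ centralizer (D : Set G) :=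
  have h : ⁅a, b⁆ ∈ centralizer (D : Set G) := fun c hc => (h2 a ha b hb c (hD.1 hc)).symm
  ⟨hD.2.1 ⟨comm_mem_P ha hb, h⟩, h⟩

omit [Finite G] in
theorem Bad.le_normalizer {D : Subgroup G} (hD : Bad P D) :
    (P : Subgroup G) ≤ normalizer (D : Set G) := by
  apply H01.le_normalizer_of_conj_mem
  intro a ha d hd
  have := D.mul_mem (hD.comm_mem h2 ha (hD.1 hd)).1 hd
  rwa [commutatorElement_def, inv_mul_cancel_right] at this

omit h2 in
theorem Good.cent {D D' : Subgroup G} (hD : Good P D) (h1 : D < D') (h3 : D' ≤ P) {g : G}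
    (hg : g ∈ normalizer (D' : Set G)) (hc : (orderOf g).Coprime 2) :
    g ∈ centralizer (D' : Set G) := by
  by_contra h
  refine (H01.card_lt_of_lt h1).not_ge (hD.2 D' ⟨h3, ?_, g, hg, hc, h⟩)
  exact ((inf_le_inf_left _ (centralizer_le h1.le)).trans hD.1.2.1).trans h1.le

include hP

theorem Bad.comm_mem_Z {D : Subgroup G} (hD : Bad P D) {g : G} (hg : g ∈ normalizer (D : Set G))
    (hc : (orderOf g).Coprime 2) : ∀ d ∈ D, ⁅g, d⁆ ∈ D ⊓ centralizer (D : Set G) :=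
  commutator_mem_of_sylow P (hD.le_normalizer h2) (normalizer_le_Z D) le_rfl hD.1 hP
    (fun a ha d hd => hD.comm_mem h2 ha (hD.1 hd)) hg hc

omit hP in
theorem Good.inf_centralizer_le {D W : Subgroup G} (hD : Good P D) (h1 : W ≤ D)
    (h3 : W ≤ centralizer (D : Set G)) (h4 : normalizer (D : Set G) ≤ normalizer (W : Set G))
    (h5 : ∃ g ∈ normalizer (D : Set G), (orderOf g).Coprime 2 ∧ g ∉ centralizer (W : Set G)) :
    (P : Subgroup G) ⊓ centralizer (W : Set G) ≤ D := by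
  by_contra h
  obtain ⟨g, hg, hc, hg'⟩ := h5
  have hPN := hD.1.le_normalizer h2
  have h6 : D ≤ (P : Subgroup G) ⊓ (normalizer (D : Set G) ⊓ centralizer (W : Set G)) :=
    le_inf hD.1.1 (le_inf le_normalizer (le_centralizer_iff.1 h3))
  refine hg' (mem_of_frattini P hPN (K := normalizer (D : Set G) ⊓ centralizer (W : Set G))
    inf_le_left (H01.le_normalizer_inf le_normalizer (H01.le_normalizer_centralizer h4)) ?_ hg hc).2
  intro x hx hx' hxc
  refine ⟨hx, centralizer_le (h1.trans h6) (hD.cent (lt_of_le_of_ne h6 ?_) inf_le_left hx' hxc)⟩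
  intro e
  exact h (e ▸ fun y hy => ⟨hy.1, hPN hy.1, hy.2⟩)

theorem Bad.exists_not_cent_U {D : Subgroup G} (hD : Bad P D) :
    ∃ g ∈ normalizer (D : Set G), (orderOf g).Coprime 2 ∧ g ∉ centralizer (U D : Set G) := by
  obtain ⟨g, hg, hc, hg'⟩ := hD.2.2
  refine ⟨g, hg, hc, fun h => hg' ?_⟩
  have hD2 : IsPGroup 2 D := P.isPGroup'.to_le hD.1
  have key : ∀ k : ℕ, ∀ v ∈ D ⊓ centralizer (D : Set G), v ^ 2 ^ k = 1 → ⁅g, v⁆ = 1 := by
    intro k
    induction k with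
    | zero => intro v _ e; rw [pow_zero, pow_one] at e; simp [e]
    | succ k ih =>
      intro v hv e
      have h3 := ih (v * v) (mul_mem hv hv) (by rw [← sq, ← pow_mul, ← pow_succ', e])
      have h4 := comm_mem_of_normalizer (normalizer_le_Z D hg) hv
      have h5 : ⁅g, v⁆ * ⁅g, v⁆ = 1 := by
        calc ⁅g, v⁆ * ⁅g, v⁆ = ⁅g, v⁆ * (v * ⁅g, v⁆ * v⁻¹) := by rw [h4.2 v hv.1]; group
          _ = ⁅g, v * v⁆ := by simp only [commutatorElement_def]; group
          _ = 1 := h3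
      exact commutator_eq_one_of_commute (h _ ⟨h4.1, h4.2, h5⟩).symm (coprime_of_mem hD2 hc h4.1)
  apply mem_centralizer_of_comm
  intro d hd
  have h3 := hD.comm_mem_Z h2 hP hg hc d hd
  obtain ⟨k, hk⟩ := hD2 ⟨_, h3.1⟩
  exact commutator_eq_one_of_commute
    (commutatorElement_eq_one_iff_commute.1 (key k _ h3 (congrArg Subtype.val hk)))
    (coprime_of_mem hD2 hc h3.1)

theorem Good.inf_centralizer_U {D : Subgroup G} (hD : Good P D) :
    (P : Subgroup G) ⊓ centralizer (U D : Set G) ≤ D :=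
  hD.inf_centralizer_le h2 (fun _ h => h.1) (fun _ h => h.2.1) (normalizer_le_U D)
    (hD.1.exists_not_cent_U h2 hP)

theorem Good.sq_mem {D : Subgroup G} (hD : Good P D) {t : G} (ht : t ∈ (P : Subgroup G)) :
    t * t ∈ D := by
  refine hD.inf_centralizer_U h2 hP ⟨mul_mem ht ht, mem_centralizer_of_comm fun u hu => ?_⟩
  have hu' := hD.1.1 hu.1
  rw [comm_mul_left h2 ht ht hu', ← comm_mul_right h2 ht hu' hu', hu.2.2, commutatorElement_one_right]

theorem Good.V_le_U {D : Subgroup G} (hD : Good P D) : V D ≤ U D := by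
  rw [V, closure_le]
  rintro _ ⟨d, hd, g, hg, hc, rfl⟩
  have h3 := hD.1.comm_mem_Z h2 hP hg hc d hd
  refine commutator_mem_of_coprime (normalizer_le_U D hg) (normalizer_le_U D (le_normalizer hd)) ?_
    (coprime_of_mem (P.isPGroup'.to_le hD.1.1) hc h3.1)
  refine commutator_mem_of_sylow P (hD.1.le_normalizer h2) (normalizer_le_U D) (normalizer_le_Z D)
    (inf_le_left.trans hD.1.1) hP ?_ hg hc _ h3
  intro a ha v hv
  have h4 := hD.1.comm_mem h2 ha (hD.1.1 hv.1)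
  refine ⟨h4.1, h4.2, ?_⟩
  rw [← comm_mul_left h2 ha ha (hD.1.1 hv.1), commutatorElement_eq_one_iff_mul_comm]
  exact hv.2 _ (hD.sq_mem h2 hP ha)

omit h2 hP in
theorem Bad.exists_not_cent_V {D : Subgroup G} (hD : Bad P D) :
    ∃ g ∈ normalizer (D : Set G), (orderOf g).Coprime 2 ∧ g ∉ centralizer (V D : Set G) := by
  obtain ⟨g, hg, hc, hg'⟩ := hD.2.2
  refine ⟨g, hg, hc, fun h => hg' (mem_centralizer_of_comm fun d hd => ?_)⟩
  exact commutator_eq_one_of_commute (h _ (comm_mem_V hg hc hd)).symm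
    (coprime_of_mem (P.isPGroup'.to_le hD.1) hc (comm_mem_of_normalizer hg hd))

theorem Good.inf_centralizer_V {D : Subgroup G} (hD : Good P D) :
    (P : Subgroup G) ⊓ centralizer (V D : Set G) ≤ D :=
  hD.inf_centralizer_le h2 (V_le D) (fun _ h => (hD.V_le_U h2 hP h).2.1) (normalizer_le_V D)
    hD.1.exists_not_cent_V

theorem Good.mul_mem {D : Subgroup G} (hD : Good P D) {t t' : G} (ht : t ∈ (P : Subgroup G))
    (ht' : t' ∈ (P : Subgroup G)) (h1 : t ∉ D) (h1' : t' ∉ D) : t * t' ∈ D := by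
  have hPN := hD.1.le_normalizer h2
  set L := normalizer (D : Set G) with hL
  haveI : ((centralizer (U D : Set G)).subgroupOf L).Normal := by
    rw [← inf_subgroupOf_left, normal_subgroupOf_iff_le_normalizer inf_le_left]
    exact H01.le_normalizer_inf le_normalizer (H01.le_normalizer_centralizer (normalizer_le_U D))
  let π := QuotientGroup.mk' ((centralizer (U D : Set G)).subgroupOf L)
  have hπ : Function.Surjective π := QuotientGroup.mk'_surjective _
  have hk : ∀ y : L, π y = 1 ↔ (y : G) ∈ centralizer (U D : Set G) := fun y => by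
    rw [QuotientGroup.mk'_apply, QuotientGroup.eq_one_iff, mem_subgroupOf]
  have hk' : ∀ y : L, (y : G) ∈ (P : Subgroup G) → (π y = 1 ↔ (y : G) ∈ D) := fun y hy =>
    (hk y).trans ⟨fun h => hD.inf_centralizer_U h2 hP ⟨hy, h⟩, fun h u hu => (hu.2.1 y h).symm⟩
  let S := (P.subtype hPN).mapSurjective hπ
  have hS : ∀ y : L, (y : G) ∈ (P : Subgroup G) → π y ∈ (S : Subgroup _) := fun y hy => ⟨y, hy, rfl⟩
  obtain ⟨g, hg, hc, hg'⟩ := hD.1.exists_not_cent_U h2 hP
  rw [← hk' ⟨t * t', hPN (Subgroup.mul_mem _ ht ht')⟩ (Subgroup.mul_mem _ ht ht')]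
  refine (map_mul π ⟨t, hPN ht⟩ ⟨t', hPN ht'⟩).trans (mul_eq_one_of_involutions S ?_ ?_
    (x := π ⟨g, hg⟩) (fun e => hg' ((hk _).1 e))
    (hc.coprime_dvd_left ((orderOf_map_dvd π _).trans (by rw [← orderOf_coe])))
    (hS _ ht) (hS _ ht') (fun e => h1 ((hk' _ ht).1 e)) (fun e => h1' ((hk' _ ht').1 e)) ?_ ?_)
  · rintro _ ⟨a, ha, rfl⟩ _ ⟨b, hb, rfl⟩
    rw [← commutatorElement_eq_one_iff_mul_comm, ← map_commutatorElement,
      hk' _ (comm_mem_P (P := P) ha hb)]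
    exact (hD.1.comm_mem h2 ha hb).1
  · intro T hT hT1 y hy hyc
    have h3 := H17.isSyl_inf_comap π (H26.isSyl_top (P.subtype hPN)) hT
    rw [← H17.normalizer_map_of_isSyl hπ (S.isPGroup'.to_le hT) h3] at hy
    obtain ⟨x, hx, hxc, rfl⟩ := exists_coprime_lift π hy hyc
    set D' := (((P.subtype hPN : Sylow 2 L) : Subgroup L) ⊓ T.comap π).map L.subtype with hD'
    have h4 : D ≤ D' := fun d hd => ⟨⟨d, le_normalizer hd⟩, ⟨hD.1.1 hd, by
      change π _ ∈ T
      rw [(hk' _ (hD.1.1 hd)).2 hd]; exact T.one_mem⟩, rfl⟩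
    have h5 : D ≠ D' := by
      intro e
      apply hT1
      rw [eq_bot_iff]
      intro z hz
      obtain ⟨a, ha, rfl⟩ := hT hz
      exact (hk' a ha).2 (e ▸ ⟨a, ⟨ha, hz⟩, rfl⟩)
    have h6 := hD.cent (lt_of_le_of_ne h4 h5) (by rintro _ ⟨a, ha, rfl⟩; exact ha.1)
      (le_normalizer_map L.subtype ⟨x, hx, rfl⟩) (by rwa [← orderOf_coe] at hxc)
    exact (hk x).2 (centralizer_le (fun u hu => h4 hu.1) h6)
  · rw [← map_mul, hk' _ (Subgroup.mul_mem _ ht ht)]; exact hD.sq_mem h2 hP ht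
  · rw [← map_mul, hk' _ (Subgroup.mul_mem _ ht' ht')]; exact hD.sq_mem h2 hP ht'

theorem Good.comm_eq_one {D : Subgroup G} (hD : Good P D) {w d : G} (hw : w ∈ V D) (hd : d ∈ D) :
    ⁅w, d⁆ = 1 := commutatorElement_eq_one_iff_mul_comm.2 ((hD.V_le_U h2 hP hw).2.1 d hd).symm

theorem Good.comm_eq_one' {D : Subgroup G} (hD : Good P D) {w d : G} (hw : w ∈ V D) (hd : d ∈ D) :
    ⁅d, w⁆ = 1 := commutatorElement_eq_one_iff_mul_comm.2 ((hD.V_le_U h2 hP hw).2.1 d hd)

theorem Good.symm {D E : Subgroup G} (hD : Good P D) (hE : Good P E) (h : V D ≤ E) : V E ≤ D :=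
  fun v hv => hD.inf_centralizer_V h2 hP ⟨hE.1.1 (V_le E hv),
    mem_centralizer_of_comm fun _ hw => hE.comm_eq_one h2 hP hv (h hw)⟩

theorem Good.edge {D E : Subgroup G} (hD : Good P D) (hE : Good P E) {v u : G} (hv : v ∈ V D)
    (hv' : v ∉ E) (hu : u ∈ V E) (hu' : u ∉ D) {w a : G} (hw : w ∈ V D)
    (ha : a ∈ (P : Subgroup G)) : ⁅a, w⁆ = 1 ∨ ⁅a, w⁆ = ⁅u, v⁆ := by
  have hvP := hD.1.1 (V_le D hv)
  have huP := hE.1.1 (V_le E hu)
  have hwP := hD.1.1 (V_le D hw)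
  by_cases h1 : a ∈ D
  · exact Or.inl (hD.comm_eq_one' h2 hP hw h1)
  have h3 : ⁅a, w⁆ = ⁅u, w⁆ := by
    have : a = u * (u * a) := by rw [← mul_assoc, (hE.V_le_U h2 hP hu).2.2, one_mul]
    rw [this, comm_mul_left h2 huP (Subgroup.mul_mem _ huP ha) hwP,
      hD.comm_eq_one' h2 hP hw (hD.mul_mem h2 hP huP ha hu' h1), mul_one]
  rw [h3]
  by_cases h4 : w ∈ E
  · exact Or.inl (hE.comm_eq_one h2 hP hu h4)
  right
  have : w = v * (v * w) := by rw [← mul_assoc, (hD.V_le_U h2 hP hv).2.2, one_mul]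
  rw [this, comm_mul_right h2 huP hvP (Subgroup.mul_mem _ hvP hwP),
    hE.comm_eq_one h2 hP hu (hE.mul_mem h2 hP hvP hwP hv' h4), mul_one]

theorem Good.edge_ne {D E : Subgroup G} (hD : Good P D) (hE : Good P E) {v u : G} (hv : v ∈ V D)
    (hv' : v ∉ E) (hu : u ∈ V E) (hu' : u ∉ D) :
    ∃ g ∈ normalizer (D : Set G), (orderOf g).Coprime 2 ∧ ⁅u, v⁆ * g ≠ g * ⁅u, v⁆ := by
  by_contra h
  push Not at h
  have hvP := hD.1.1 (V_le D hv)
  have huP := hE.1.1 (V_le E hu)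
  have h3 : normalizer (D : Set G) ≤ centralizer ((zpowers ⁅u, v⁆ : Subgroup G) : Set G) := by
    apply le_of_sylow_le_of_coprime P (hD.1.le_normalizer h2)
    · rintro a ha _ ⟨m, rfl⟩
      exact (Commute.zpow_left (h2 u huP v hvP a ha) m).eq
    · rintro a ha hc _ ⟨m, rfl⟩
      exact (Commute.zpow_left (h a ha hc) m).eq
  obtain ⟨g, hg, hc, hg'⟩ := hD.1.exists_not_cent_V
  refine hg' (mem_centralizer_of_comm fun w hw => ?_)
  have h4 := commutator_mem_of_sylow P (hD.1.le_normalizer h2) (h3.trans (centralizer_le_normalizer _))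
    (normalizer_le_V D) ((V_le D).trans hD.1.1) hP (fun a ha d hd => by
      rcases hD.edge h2 hP hE hv hv' hu hu' hd ha with e | e <;> rw [e]
      · exact one_mem _
      · exact mem_zpowers _) hg hc w hw
  exact commutator_eq_one_of_commute (h3 hg _ h4).symm
    (coprime_of_mem P.isPGroup' hc (zpowers_le.2 (comm_mem_P huP hvP) h4))

theorem Good.mem_of_comm {D E : Subgroup G} (hD : Good P D) (hE : Good P E) {v u : G} (hv : v ∈ V D)
    (hv' : v ∉ E) (hu : u ∈ V E) (hu' : u ∉ D) {a : G} (ha : a ∈ (P : Subgroup G))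
    (h : ⁅u, a⁆ = 1) : a ∈ E := by
  by_contra h1
  have hvP := hD.1.1 (V_le D hv)
  obtain ⟨g, -, -, hg⟩ := hD.edge_ne h2 hP hE hv hv' hu hu'
  have h3 := hE.comm_eq_one h2 hP hu (hE.mul_mem h2 hP ha hvP h1 hv')
  rw [comm_mul_right h2 (hE.1.1 (V_le E hu)) ha hvP, h, one_mul] at h3
  exact hg (by rw [h3, one_mul, mul_one])

theorem Good.unique {D E F : Subgroup G} (hD : Good P D) (hE : Good P E) (hF : Good P F)
    (h1 : ¬ V E ≤ D) (h3 : ¬ V F ≤ D) : E ≤ F := by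
  obtain ⟨u, hu, hu'⟩ := SetLike.not_le_iff_exists.1 h1
  obtain ⟨s, hs, hs'⟩ := SetLike.not_le_iff_exists.1 h3
  obtain ⟨v, hv, hv'⟩ := SetLike.not_le_iff_exists.1 (fun h => h1 (hD.symm h2 hP hE h))
  obtain ⟨w, hw, hw'⟩ := SetLike.not_le_iff_exists.1 (fun h => h3 (hD.symm h2 hP hF h))
  have hvP := hD.1.1 (V_le D hv)
  have hwP := hD.1.1 (V_le D hw)
  have huP := hE.1.1 (V_le E hu)
  have hsP := hF.1.1 (V_le F hs)
  obtain ⟨g, hg, hc, hg'⟩ := hD.edge_ne h2 hP hE hv hv' hu hu'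
  have hz2 : ⁅u, v⁆ * ⁅u, v⁆ = 1 := by
    rw [← comm_mul_left h2 huP huP hvP, (hE.V_le_U h2 hP hu).2.2, commutatorElement_one_left]
  have hzi : ⁅v, u⁆ = ⁅u, v⁆ := by
    rw [← commutatorElement_inv, inv_eq_iff_mul_eq_one, hz2]
  have hz : ⁅s, w⁆ = ⁅u, v⁆ := by
    refine (hD.edge h2 hP hE hv hv' hu hu' hw hsP).resolve_left fun e => ?_
    obtain ⟨g, -, -, hg⟩ := hD.edge_ne h2 hP hF hw hw' hs hs'
    exact hg (by rw [e, one_mul, mul_one])
  have hzi' : ⁅w, s⁆ = ⁅u, v⁆ := by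
    rw [← commutatorElement_inv, hz, inv_eq_iff_mul_eq_one, hz2]
  have h4 : ∀ a ∈ (P : Subgroup G), ⁅a, u * s⁆ = 1 ∨ ⁅a, u * s⁆ = ⁅u, v⁆ := by
    intro a ha
    rw [comm_mul_right h2 ha huP hsP]
    rcases hE.edge h2 hP hD hu hu' hv hv' hu ha with e | e <;>
      rcases hF.edge h2 hP hD hs hs' hw hw' hs ha with e' | e' <;> simp [e, e', hzi, hzi', hz2]
  have husD := hD.mul_mem h2 hP huP hsP hu' hs'
  have h5 : ∀ d ∈ D, ∃ c ∈ U D, g * d * g⁻¹ = c * d := fun d hd =>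
    ⟨_, hD.V_le_U h2 hP (comm_mem_V hg hc hd), by rw [commutatorElement_def, inv_mul_cancel_right]⟩
  obtain ⟨c, hc1, hc2⟩ := h5 _ husD
  have h6 : ∀ d ∈ D, ⁅d, u * s⁆ = 1 := by
    intro d hd
    refine (h4 d (hD.1.1 hd)).resolve_right fun e => hg' ?_
    obtain ⟨c', hc1', hc2'⟩ := h5 _ hd
    have hcP := hD.1.1 hc1.1
    have hcP' := hD.1.1 hc1'.1
    have hdP := hD.1.1 hd
    have : g * ⁅d, u * s⁆ * g⁻¹ = ⁅d, u * s⁆ := by
      calc g * ⁅d, u * s⁆ * g⁻¹ = ⁅g * d * g⁻¹, g * (u * s) * g⁻¹⁆ := by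
            simp only [commutatorElement_def]; group
        _ = _ := by
            rw [hc2, hc2', comm_mul_left h2 hcP' hdP (hD.1.1 (D.mul_mem hc1.1 husD)),
              comm_mul_right h2 hdP hcP (hD.1.1 husD),
              commutatorElement_eq_one_iff_mul_comm.2 (hc1'.2.1 _ (D.mul_mem hc1.1 husD)).symm,
              commutatorElement_eq_one_iff_mul_comm.2 (hc1.2.1 _ hd), one_mul, one_mul]
    rw [← e, ← mul_inv_eq_iff_eq_mul.1 this]
  have h7 : ⁅u, u * s⁆ = 1 := by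
    refine (h4 u huP).resolve_right fun e => hg' ?_
    have h8 : ⁅u, u * s⁆ = (u * s) * (u * s) := by
      have e1 : u⁻¹ = u := inv_eq_iff_mul_eq_one.2 (hE.V_le_U h2 hP hu).2.2
      have e2 : s⁻¹ = s := inv_eq_iff_mul_eq_one.2 (hF.V_le_U h2 hP hs).2.2
      calc ⁅u, u * s⁆ = u * (u * s * u⁻¹ * s⁻¹) * u⁻¹ := by
            simp only [commutatorElement_def]; group
        _ = u * s * u⁻¹ * s⁻¹ := by
            rw [← commutatorElement_def, ← h2 u huP s hsP u huP, mul_inv_cancel_right]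
        _ = _ := by rw [e1, e2]; group
    have : g * (u * s * (u * s)) * g⁻¹ = u * s * (u * s) := by
      calc g * (u * s * (u * s)) * g⁻¹ = g * (u * s) * g⁻¹ * (g * (u * s) * g⁻¹) := by group
        _ = c * (u * s * c) * (u * s) := by rw [hc2]; group
        _ = (c * c) * (u * s * (u * s)) := by rw [hc1.2.1 _ husD]; group
        _ = _ := by rw [hc1.2.2, one_mul]
    rw [← e, h8, ← mul_inv_eq_iff_eq_mul.1 this]
  intro a ha
  have haP := hE.1.1 ha
  apply hD.mem_of_comm h2 hP hF hw hw' hs hs' haP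
  have h8 : ⁅a, u * s⁆ = 1 := by
    by_cases h9 : a ∈ D
    · exact h6 a h9
    · have := h6 _ (hD.mul_mem h2 hP huP haP hu' h9)
      rwa [comm_mul_left h2 huP haP (hD.1.1 husD), h7, one_mul] at this
  rw [comm_mul_right h2 haP huP hsP, hE.comm_eq_one' h2 hP hu ha, one_mul] at h8
  rw [← commutatorElement_inv, h8, inv_one]

omit h2 hP

omit [Finite G] in
theorem mem_normalizer_comap (e : MulAut G) {D : Subgroup G} {g : G} :
    g ∈ normalizer ((D.comap e.toMonoidHom : Subgroup G) : Set G) ↔ e g ∈ normalizer (D : Set G) := by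
  rw [mem_normalizer_iff, mem_normalizer_iff, e.surjective.forall (p := fun h => h ∈ D ↔ _)]
  simp

omit [Finite G] in
theorem mem_centralizer_comap (e : MulAut G) {D : Subgroup G} {g : G} :
    g ∈ centralizer ((D.comap e.toMonoidHom : Subgroup G) : Set G) ↔ e g ∈ centralizer (D : Set G) := by
  rw [mem_centralizer_iff, mem_centralizer_iff, e.surjective.forall (p := fun h => h ∈ (D : Set G) → _)]
  simp [← map_mul]

omit [Finite G] in
theorem V_comap (e : MulAut G) {D : Subgroup G} {w : G} (h : w ∈ V (D.comap e.toMonoidHom)) :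
    e w ∈ V D := by
  have : V (D.comap e.toMonoidHom) ≤ (V D).comap e.toMonoidHom := by
    rw [V, closure_le]
    rintro _ ⟨d, hd, g, hg, hc, rfl⟩
    change e.toMonoidHom ⁅g, d⁆ ∈ V D
    rw [map_commutatorElement]
    exact comm_mem_V ((mem_normalizer_comap e).1 hg)
      (hc.coprime_dvd_left (orderOf_map_dvd e.toMonoidHom g)) hd
  exact this h

omit [Finite G] in
theorem Bad.comap {Q D : Subgroup G} (hD : Bad Q D) (e : MulAut G) (h1 : ∀ x ∈ Q, e x ∈ Q)
    (h3 : ∀ x ∈ Q, e⁻¹ x ∈ Q) : Bad Q (D.comap e.toMonoidHom) := by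
  obtain ⟨h4, h5, g, hg, hc, hg'⟩ := hD
  refine ⟨fun x hx => by simpa using h3 _ (h4 hx), fun x hx => h5 ⟨h1 x hx.1,
    (mem_centralizer_comap e).1 hx.2⟩, e⁻¹ g, (mem_normalizer_comap e).2 (by simpa using hg),
    hc.coprime_dvd_left (orderOf_map_dvd e⁻¹.toMonoidHom g),
    fun h => hg' (by simpa using (mem_centralizer_comap e).1 h)⟩

omit [Finite G] in
theorem card_comap (e : MulAut G) (D : Subgroup G) :
    Nat.card (D.comap e.toMonoidHom) = Nat.card D :=
  Nat.card_congr (e.toEquiv.subtypeEquiv fun _ => Iff.rfl)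

omit [Finite G] in
theorem Good.comap {Q D : Subgroup G} (hD : Good Q D) (e : MulAut G) (h1 : ∀ x ∈ Q, e x ∈ Q)
    (h3 : ∀ x ∈ Q, e⁻¹ x ∈ Q) : Good Q (D.comap e.toMonoidHom) :=
  ⟨hD.1.comap e h1 h3, fun D' h => by rw [card_comap]; exact hD.2 D' h⟩

end ClassTwo

open ClassTwo in
theorem hasNPC_two_of_class_two {G : Type*} [Group G] [Finite G] (P : Sylow 2 G)
    (h2 : ∀ a ∈ (P : Subgroup G), ∀ b ∈ (P : Subgroup G), ∀ c ∈ (P : Subgroup G),
      ⁅a, b⁆ * c = c * ⁅a, b⁆) (B : Subgroup (MulAut G)) (hodd : ∀ e ∈ B, Odd (orderOf e))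
    (hB : ∀ e ∈ B, ∀ x ∈ (P : Subgroup G), e x ∈ (P : Subgroup G))
    (h : ∀ D : Subgroup G, D ≤ P → D ≠ ⊥ → (P : Subgroup G) ≤ normalizer (D : Set G) →
      (∀ e ∈ B, ∀ x ∈ D, e x ∈ D) → ∀ g ∈ normalizer (D : Set G), (orderOf g).Coprime 2 →
      g ∈ centralizer ((P : Subgroup G) : Set G)) : HasNormalPComplement 2 G := by
  apply H03.hasNPC_of_local_centric P
  intro D0 hD0 hD1 hcent _ _ g0 hg0 hco
  by_contra hg0'
  have hP := h P le_rfl (fun e => hD1 (eq_bot_iff.2 (e ▸ hD0))) le_normalizer hB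
  obtain ⟨D, hD⟩ : ∃ D, Good (P : Subgroup G) D := by
    obtain ⟨D, h1, h3⟩ := Set.exists_max_image {D | Bad (P : Subgroup G) D} (fun D => Nat.card D)
      (Set.toFinite _) ⟨D0, hD0, hcent, g0, hg0, hco, hg0'⟩
    exact ⟨D, h1, h3⟩
  have hG : ∀ e ∈ B, Good (P : Subgroup G) (D.comap e.toMonoidHom) := fun e he =>
    hD.comap e (hB e he) (hB _ (B.inv_mem he))
  have key : ∀ e ∈ B, V (D.comap e.toMonoidHom) ≤ D := by
    intro e he
    by_contra h1
    have h3 : ¬ V (D.comap e⁻¹.toMonoidHom) ≤ D := by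
      intro h3
      have h4 := (hG _ (B.inv_mem he)).symm h2 hP hD h3
      exact h1 fun w hw => by simpa using h4 (V_comap e hw)
    have h4 := hD.unique h2 hP (hG _ (B.inv_mem he)) (hG e he) h3 h1
    have h5 : ∀ n : ℕ, ∀ x ∈ D, (e ^ (2 * n)) x ∈ D := by
      intro n
      induction n with
      | zero => intro x hx; simpa using hx
      | succ n ih =>
        intro x hx
        rw [mul_add, pow_add, MulAut.mul_apply]
        apply ih
        have : e x ∈ D.comap e⁻¹.toMonoidHom := by simpa using hx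
        simpa [sq] using h4 this
    obtain ⟨k, hk⟩ := hodd e he
    have h6 : e ^ (2 * k) = e⁻¹ := by
      rw [eq_inv_iff_mul_eq_one, ← pow_succ, ← hk, pow_orderOf_eq_one]
    refine h1 ((V_le _).trans fun x hx => ?_)
    have := h5 k _ hx
    rw [h6] at this
    simpa using this
  obtain ⟨g, hg, hc, hg'⟩ := hD.1.exists_not_cent_V
  set W : Subgroup G := ⨆ e : B, V (D.comap (e : MulAut G).toMonoidHom) with hW
  have hWD : W ≤ D := iSup_le fun e => key e e.2
  have hVW : V D ≤ W := le_iSup_of_le (1 : B) le_rfl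
  refine hg' (centralizer_le ((V_le D).trans hD.1.1) (h W (hWD.trans hD.1.1) ?_ ?_ ?_ g ?_ hc))
  · intro e
    exact hg' fun w hw => by rw [mem_bot.1 (e.le (hVW hw)), one_mul, mul_one]
  · apply H01.le_normalizer_of_conj_mem
    intro a ha
    change W ≤ W.comap (MulAut.conj a).toMonoidHom
    refine iSup_le fun e w hw => ?_
    exact le_iSup (fun e : B => V (D.comap (e : MulAut G).toMonoidHom)) e
      (H01.conj_mem_of_le_normalizer (((hG e e.2).1.le_normalizer h2).trans (normalizer_le_V _)) ha hw)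
  · intro f hf
    change W ≤ W.comap f.toMonoidHom
    refine iSup_le fun e w hw => ?_
    exact le_iSup (fun e : B => V (D.comap (e : MulAut G).toMonoidHom)) (e * ⟨f, hf⟩⁻¹)
      (V_comap f (by
        convert hw using 2
        ext x
        simp))
  · refine H01.le_normalizer_of_conj_mem (A := zpowers g) (fun a ha w hw => ?_) (mem_zpowers g)
    have := W.mul_mem (hVW (comm_mem_V (zpowers_le.2 hg ha)
      (hc.coprime_dvd_left (orderOf_dvd_of_mem_zpowers ha)) (hWD hw))) hw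
    rwa [commutatorElement_def, inv_mul_cancel_right] at this

end H27
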