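import Mathlib
import Cfsg.Agent.H02.Thompson
import Cfsg.Agent.H27.Act
import Cfsg.Agent.H27.ClassTwo

/-!
Nilpotent maximal invariant subgroups.

* `H27.MaxInv φ M` : `M` is maximal among the proper `A`-invariant subgroups.
* `H27.MaxInv.normalizer_eq`, `H27.MaxInv.exists_sylow`, `H27.MaxInv.hasNPC_odd` : core-free nilpotent `M`.
* `H27.MaxInv.quot` : passing to a quotient.
* `H27.isSolvable_of_maxInv_nilpotent` : coprime action of a solvable `A`, `M` nilpotent with Sylow 2-subgroup of class at most 2: `G` is solvable.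
* `H27.isSolvable_of_coatom_nilpotent` : the case of trivial action.
-/

open scoped Pointwise commutatorElement
open Subgroup Cfsg

namespace H27

variable {G A : Type*} [Group G] [Group A]

/-- `M` is maximal among the proper invariant subgroups -/
structure MaxInv (φ : A →* MulAut G) (M : Subgroup G) : Prop where
  ne : M ≠ ⊤
  inv : Inv φ M
  max : ∀ H : Subgroup G, M ≤ H → H ≠ ⊤ → Inv φ H → H = M

variable {φ : A →* MulAut G} {M : Subgroup G}

theorem MaxInv.quot (hM : MaxInv φ M) {N : Subgroup G} [N.Normal] (hN : Inv φ N) (h : N ≤ M) :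
    MaxInv (quotAct φ N hN) (M.map (QuotientGroup.mk' N)) := by
  have h1 : (M.map (QuotientGroup.mk' N)).comap (QuotientGroup.mk' N) = M := by
    rw [comap_map_eq, QuotientGroup.ker_mk', sup_eq_left.2 h]
  refine ⟨fun e => hM.ne (by rw [← h1, e, comap_top]), hN.quot hM.inv, fun H h2 h3 h4 => ?_⟩
  rw [← hM.max (H.comap (QuotientGroup.mk' N)) (map_le_iff_le_comap.1 h2) (fun e => h3 ?_)
    (hN.comap_quot h4), map_comap_eq_self_of_surjective (QuotientGroup.mk'_surjective N)]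
  rw [← map_comap_eq_self_of_surjective (QuotientGroup.mk'_surjective N) H, e,
    map_top_of_surjective _ (QuotientGroup.mk'_surjective N)]

theorem MaxInv.normalizer_eq (hM : MaxInv φ M) (hc : M.normalCore = ⊥) {D : Subgroup G}
    (h0 : Inv φ D) (h1 : D ≠ ⊥) (h2 : D ≤ M) (h3 : M ≤ normalizer (D : Set G)) :
    normalizer (D : Set G) = M := by
  refine hM.max _ h3 (fun h => ?_) h0.normalizer
  haveI := normalizer_eq_top_iff.1 h
  exact absurd (eq_bot_iff.2 (hc ▸ normal_le_normalCore.2 h2)) h1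

variable [Finite G]

theorem le_normalizer_of_isSyl_nilpotent [Group.IsNilpotent M] {p : ℕ} [Fact p.Prime]
    {T : Subgroup G} (h : H26.IsSyl p T M) : M ≤ normalizer (T : Set G) := by
  obtain ⟨S, -, rfl⟩ := h.exists_sylow
  exact H01.le_normalizer_map_subtype _

theorem MaxInv.exists_sylow (hM : MaxInv φ M) (hc : M.normalCore = ⊥) [Group.IsNilpotent M] {p : ℕ}
    [Fact p.Prime] {T : Subgroup G} (h : H26.IsSyl p T M) (hd : p ∣ Nat.card M) :
    ∃ P : Sylow p G, (P : Subgroup G) = T ∧ Inv φ T ∧ normalizer (T : Set G) = M := by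
  have h1 := le_normalizer_of_isSyl_nilpotent h
  have h2 := hM.inv.of_isSyl h h1
  have h3 := hM.normalizer_eq hc h2 (h.ne_bot hd) h.le h1
  obtain ⟨P, hP⟩ := (H26.isSyl_of_normalizer (H := ⊤) (by rwa [top_inf_eq, h3])).exists_sylow_top
  exact ⟨P, hP, h2, h3⟩

theorem MaxInv.hasNPC_odd (hM : MaxInv φ M) (hc : M.normalCore = ⊥) [hn : Group.IsNilpotent M]
    {p : ℕ} [Fact p.Prime] (hp : p ≠ 2) (hd : p ∣ Nat.card M) : HasNormalPComplement p G := by
  obtain ⟨T, hT⟩ := H26.exists_isSyl p M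
  obtain ⟨P, rfl, h1, h2⟩ := hM.exists_sylow hc hT hd
  have h3 := hT.ne_bot hd
  refine (Cfsg.Agent.S0108.result hp P).2 ⟨?_, ?_⟩
  · rw [hM.normalizer_eq hc (inv_of_map_eq fun a => by
        rw [← H17.thompsonOf_map _ (φ a).injective.injOn, h1.map_eq])
      (H02.thompsonOf_ne_bot (H26.dvd_card_of_isPGroup hT.pg h3 le_rfl))
      ((H17.thompsonOf_le _ _).trans hT.le) (h2.ge.trans (H17.normalizer_le_normalizer_thompsonOf _ _))]
    exact H03.hasNPC_of_isNilpotent
  · have h4 := hM.normalizer_eq hc (h1.inf h1.centralizer) (H02.inf_centralizer_ne_bot' hT.pg h3)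
      (inf_le_left.trans hT.le) (h2.ge.trans (ClassTwo.normalizer_le_Z _))
    have h5 := (centralizer_le_normalizer _).trans h4.le
    exact H03.hasNPC_of_isNilpotent (hG := Group.nilpotent_of_mulEquiv (subgroupOfEquivOfLe h5))

theorem MaxInv.hasNPC_two [Finite A] (hM : MaxInv φ M) (hc : M.normalCore = ⊥) [Group.IsNilpotent M]
    (hA : Odd (Nat.card A)) (hd : 2 ∣ Nat.card M) {S : Subgroup G} (hS : H26.IsSyl 2 S M)
    (h2 : ∀ a ∈ S, ∀ b ∈ S, ∀ c ∈ S, ⁅a, b⁆ * c = c * ⁅a, b⁆) : HasNormalPComplement 2 G := by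
  obtain ⟨P, rfl, h1, h3⟩ := hM.exists_sylow hc hS hd
  refine hasNPC_two_of_class_two P h2 φ.range ?_ ?_ ?_
  · rintro _ ⟨a, rfl⟩
    exact hA.of_dvd_nat ((orderOf_map_dvd φ a).trans (orderOf_dvd_natCard a))
  · rintro _ ⟨a, rfl⟩
    exact h1 a
  · intro D hD hD1 hD2 hD3 g hg hgc
    rw [hM.normalizer_eq hc (fun a => hD3 _ ⟨a, rfl⟩) hD1 (hD.trans hS.le)
      (le_normalizer_of_sylow_le P hS.le h3.ge hD hD2)] at hg
    exact centralizer_of_coprime_of_nilpotent P.isPGroup' hS.le hg hgc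

theorem MaxInv.isSolvable_of_hasNPC [Finite A] [Group.IsSolvable A] (hM : MaxInv φ M)
    (hc : M.normalCore = ⊥) [Group.IsNilpotent M] (hA : (Nat.card A).Coprime (Nat.card G))
    (h : ∀ p : ℕ, p.Prime → p ∣ Nat.card M → HasNormalPComplement p G) : Group.IsSolvable G := by
  have hH : (Nat.card M).Coprime M.index := by
    apply Nat.coprime_of_dvd
    intro p hp h1 h2
    haveI := Fact.mk hp
    obtain ⟨T, hT⟩ := H26.exists_isSyl p M
    obtain ⟨P, rfl, -⟩ := hM.exists_sylow hc hT h1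
    exact P.not_dvd_index (h2.trans (index_dvd_of_le hT.le))
  obtain ⟨N, hN, hNM⟩ := H03.exists_normal_complement_of_hall M hH h
  have h1 : Nat.card N = M.index := hNM.index_eq_card.symm
  have h1' : N.index = Nat.card M := hNM.symm.index_eq_card
  have hNi : Inv φ N := by
    intro a x hx
    rw [← QuotientGroup.eq_one_iff, ← orderOf_eq_one_iff]
    refine Nat.eq_one_of_dvd_coprimes hH ?_ ?_
    · rw [← h1']; exact orderOf_dvd_natCard _
    · rw [← h1]
      exact (orderOf_map_dvd (QuotientGroup.mk' N) _).trans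
        ((orderOf_map_dvd (φ a).toMonoidHom x).trans (N.orderOf_dvd_natCard hx))
  have h2 : Nat.card N ≠ 1 := by rw [h1]; exact fun e => hM.ne (index_eq_one.1 e)
  obtain ⟨q, hq, hd⟩ := Nat.exists_prime_and_dvd h2
  haveI := Fact.mk hq
  obtain ⟨Q, hQ, hQ4, hQ5⟩ : ∃ Q, H26.IsSyl q Q N ∧ M ≤ normalizer (Q : Set G) ∧ Inv φ Q := by
    by_cases hM1 : M = ⊥
    · obtain ⟨Q, h3, h4, -⟩ := exists_inv_isSyl (hA.coprime_dvd_right (card_subgroup_dvd_card N))
        (Or.inl inferInstance) hNi inv_bot (IsPGroup.of_bot (p := q)) bot_le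
      exact ⟨Q, h3, hM1 ▸ bot_le, h4⟩
    obtain ⟨Q, hQ1, hQ2, hQ3, hQ4⟩ := H01.exists_invariant_sylow (H01.le_normalizer_of_normal M N)
      (h1 ▸ hH) (Or.inl inferInstance) q
    refine ⟨Q, H26.isSyl_of_not_dvd hQ1 hQ2 hQ3, hQ4, inv_of_map_eq fun a => ?_⟩
    obtain ⟨c, hc1, hc2⟩ := H01.invariant_sylow_conj (H01.le_normalizer_of_normal M N)
      (h1 ▸ hH) (Or.inl inferInstance) hQ1 hQ2 hQ3 (Q := Q.map (φ a).toMonoidHom)
      ((map_mono hQ1).trans (hNi.map_eq a).le) (hQ2.map _)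
      (by
        conv_rhs => rhs; rw [← hNi.map_eq a]
        rwa [relIndex_map_map_of_injective _ _ (φ a).injective]) hQ4
      ((hM.inv.map_eq a).ge.trans (H26.le_normalizer_map _ hQ4))
    have h5 : c ∈ M := (hM.normalizer_eq hc hM.inv hM1 le_rfl le_normalizer).le
      (centralizer_le_normalizer _ hc1.2)
    rw [← hc2, H01.conj_smul_eq_iff_mem_normalizer.2 (hQ4 h5)]
  have h3 : ¬ Q ≤ M := fun hle =>
    hQ.ne_bot hd (eq_bot_iff.2 (hNM.disjoint.eq_bot ▸ le_inf hQ.le hle))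
  have h4 : M ⊔ Q = ⊤ := by
    by_contra h4
    exact h3 (le_sup_right.trans (hM.max _ le_sup_left h4 (hM.inv.sup hQ5)).le)
  haveI : Q.Normal := normalizer_eq_top_iff.1 (top_le_iff.1 (h4 ▸ sup_le hQ4 le_normalizer))
  haveI := hQ.pg.isNilpotent
  haveI : Group.IsSolvable (G ⧸ Q) := by
    apply Group.isSolvable_of_surjective (f := (QuotientGroup.mk' Q).comp M.subtype)
    rw [← MonoidHom.range_eq_top, MonoidHom.range_comp, range_subtype, eq_top_iff,
      ← map_top_of_surjective _ (QuotientGroup.mk'_surjective Q), ← h4, Subgroup.map_sup,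
      (map_eq_bot_iff Q).2 (by rw [QuotientGroup.ker_mk']), sup_bot_eq]
  exact H02.isSolvable_of_normal_of_quotient Q

theorem isSolvable_of_maxInv_nilpotent [Finite A] [Group.IsSolvable A] (hM : MaxInv φ M)
    [Group.IsNilpotent M] (hA : (Nat.card A).Coprime (Nat.card G)) {S : Subgroup G}
    (hS : H26.IsSyl 2 S M) (h2 : ∀ a ∈ S, ∀ b ∈ S, ∀ c ∈ S, ⁅a, b⁆ * c = c * ⁅a, b⁆) :
    Group.IsSolvable G := by
  apply isSolvable_of_quotient_normalCore (M := M)
  have h1 := hM.quot hM.inv.normalCore M.normalCore_le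
  have h3 := normalCore_map_mk'_eq_bot M
  haveI := isNilpotent_map (QuotientGroup.mk' M.normalCore) M
  have hA' : (Nat.card A).Coprime (Nat.card (G ⧸ M.normalCore)) :=
    hA.coprime_dvd_right (card_quotient_dvd_card _)
  apply h1.isSolvable_of_hasNPC h3 hA'
  intro p hp hd
  haveI := Fact.mk hp
  by_cases hp2 : p = 2
  · subst hp2
    refine h1.hasNPC_two h3 ?_ hd (hS.map _) ?_
    · exact Nat.coprime_two_right.1 (hA'.coprime_dvd_right (hd.trans (card_subgroup_dvd_card _)))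
    · rintro _ ⟨a, ha, rfl⟩ _ ⟨b, hb, rfl⟩ _ ⟨c, hc, rfl⟩
      rw [← map_commutatorElement, ← map_mul, ← map_mul, h2 a ha b hb c hc]
  · exact h1.hasNPC_odd h3 hp2 hd

theorem isSolvable_of_coatom_nilpotent (hM : IsCoatom M) [Group.IsNilpotent M] {S : Subgroup G}
    (hS : H26.IsSyl 2 S M) (h2 : ∀ a ∈ S, ∀ b ∈ S, ∀ c ∈ S, ⁅a, b⁆ * c = c * ⁅a, b⁆) :
    Group.IsSolvable G :=
  isSolvable_of_maxInv_nilpotent (A := Unit) (φ := 1) ⟨hM.1, fun _ _ h => h, fun H h1 h3 _ => by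
    by_contra h4
    exact h3 (hM.2 H (lt_of_le_of_ne h1 (Ne.symm h4)))⟩ (by simp) hS h2

end H27
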