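import Cfsg.Agent.H27.MG2
import Cfsg.Agent.S0293

/-! `PΩ⁺(8,2)` on 120 points: `H27.O8p2.model`. -/

set_option autoImplicit false
set_option maxRecDepth 100000

namespace H27.O8p2
open H13 H14.PK H14.PK.TS H27.PKx H27.MG Cfsg

def B0 : ℕ := nat_lit 0x80402010
/-- the matrix of the form -/
def qB (i j : Fin 4 ⊕ Fin 4) : ℕ := Matrix.fromBlocks 0 1 0 0 i j
theorem hB : ∀ i j, get 1 B0 ((finSumFinEquiv i).val * 8 + (finSumFinEquiv j).val) = qB i j := by decide +kernel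
def PT : ℕ := nat_lit 0xfefdfbf8f7f4f2f1efeee9e8e5e4e3e2dfdddad8d6d4d3d1cbcac9c8c7c6c5c4bfbcbbb8b6b5b2b1adaca9a8a7a6a3a29e9c9a98979593918f8e8d8c8b8a89887f7c7a79777472716d6c6b6a656463625e5c5b59565453514f4e4d4c474645443e3d3a39363532312f2e2b2a272623221f1d1b1917151311
def Ps : List (ℕ × ℕ) := [(nat_lit 0x3828d282afedaee6, nat_lit 0x7f51e553ad4f34123c185c79746e38ccfb27d49ed3d3bf262103820295026c754856a62c40897b962ddf569d620971a641bb678f7b57bb70aceebb8626581a1634087dbaf3606e61b1ba0ea8b9c39f66a0c0050c85222cf4ab91292848995e7d7a7246bd22889261ce), (nat_lit 0xffe19fc0b3f03366, nat_lit 0xd1266ec99b74c8947271a9e6e59db6b9e0b7a2ad2fb8214b9ba25438cd19b16878c9b3c845a41c2518c4e885271a2100d4ac8c1f60dce9a6e54abf744083a7e017a8041552d0c0d62906194ac084dcbe2259e3b2bee960d5a32f3b7eac7581f65f2adc64fea3daf798)]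
def Ls : List ℕ := [nat_lit 0x7f51e553ad4f34123c185c79746e38ccfb27d49ed3d3bf262103820295026c754856a62c40897b962ddf569d620971a641bb678f7b57bb70aceebb8626581a1634087dbaf3606e61b1ba0ea8b9c39f66a0c0050c85222cf4ab91292848995e7d7a7246bd22889261ce, nat_lit 0xd1266ec99b74c8947271a9e6e59db6b9e0b7a2ad2fb8214b9ba25438cd19b16878c9b3c845a41c2518c4e885271a2100d4ac8c1f60dce9a6e54abf744083a7e017a8041552d0c0d62906194ac084dcbe2259e3b2bee960d5a32f3b7eac7581f65f2adc64fea3daf798]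
def bs : List ℕ := [nat_lit 0, nat_lit 1, nat_lit 2, nat_lit 4, nat_lit 8, nat_lit 9, nat_lit 24]

theorem model (F : Type*) [Field F] [Fintype F] (hF : Fintype.card F = 2) :
    ∃ S : TS (POmega F (quadFormPlus 4 F)) 7 120, Mdl S Ls bs 174182400 := by
  let C := FC.prime F (p := 2) (s := 1) (by norm_num) hF (by norm_num)
  have hN : Nat.card (POmega F (quadFormPlus 4 F)) = 174182400 := by
    have := Cfsg.Agent.S0293.result hF 4 (by norm_num)
    simp [Finset.prod_range_succ] at this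
    omega
  obtain ⟨S, h, -⟩ := C.model finSumFinEquiv _ (QuotientGroup.mk' (Subgroup.center (Omega F (quadFormPlus 4 F)))) (pj := true) (PT := PT) (w := 7)
    (n := 120) (by norm_num) (by norm_num) (by decide +kernel) (Ps := Ps)
    (List.forall_mem_cons.2 ⟨C.exists_Omega finSumFinEquiv (C.quadPlus finSumFinEquiv (B := B0) hB) (A := nat_lit 0x7d8241c0021cd255) (A' := nat_lit 0x4858a41a253b0878) (X := nat_lit 0x67813f863ccce0fc) (X' := nat_lit 0xd2db0b0e7578ba92) (by decide +kernel),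
      List.forall_mem_cons.2 ⟨C.exists_Omega finSumFinEquiv (C.quadPlus finSumFinEquiv (B := B0) hB) (A := nat_lit 0x81e07d9b0ba4a0a1) (A' := nat_lit 0x8342819b7d067603) (X := nat_lit 0x30670f37f50cd0fc) (X' := nat_lit 0x52d70787b0b49db9) (by decide +kernel),
      List.forall_mem_nil _⟩⟩)
    (allL_iff.1 (by decide +kernel)) hN (pr := [[nat_lit 1, nat_lit 0, nat_lit 0, nat_lit 0, nat_lit 0],
   [nat_lit 1, nat_lit 2, nat_lit 2, nat_lit 1, nat_lit 1, nat_lit 0, nat_lit 0, nat_lit 0],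
   [nat_lit 1, nat_lit 3],
   [nat_lit 0, nat_lit 1, nat_lit 1, nat_lit 0],
   [nat_lit 0, nat_lit 2, nat_lit 0, nat_lit 1, nat_lit 2, nat_lit 0, nat_lit 0, nat_lit 1, nat_lit 1],
   [nat_lit 1, nat_lit 3, nat_lit 1, nat_lit 1],
   [nat_lit 0, nat_lit 0, nat_lit 0, nat_lit 1, nat_lit 0],
   [nat_lit 2, nat_lit 1, nat_lit 2, nat_lit 0, nat_lit 2, nat_lit 2],
   [nat_lit 2, nat_lit 2, nat_lit 2],
   [nat_lit 3, nat_lit 4, nat_lit 4, nat_lit 2],
   [nat_lit 2, nat_lit 2, nat_lit 2, nat_lit 0],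
   [nat_lit 3, nat_lit 2, nat_lit 1, nat_lit 3, nat_lit 2, nat_lit 1],
   [nat_lit 4, nat_lit 4, nat_lit 3, nat_lit 4, nat_lit 3, nat_lit 2],
   [nat_lit 4, nat_lit 3, nat_lit 5, nat_lit 3, nat_lit 3, nat_lit 3, nat_lit 3, nat_lit 4, nat_lit 5, nat_lit 5, nat_lit 3],
   [nat_lit 5, nat_lit 5, nat_lit 4, nat_lit 5, nat_lit 4, nat_lit 6],
   [nat_lit 7, nat_lit 7, nat_lit 6, nat_lit 7, nat_lit 5, nat_lit 6],
   [nat_lit 4, nat_lit 2, nat_lit 5, nat_lit 4, nat_lit 4]]) (lv := [(nat_lit 0, [nat_lit 17, nat_lit 18]), (nat_lit 1, [nat_lit 15, nat_lit 14]), (nat_lit 2, [nat_lit 12, nat_lit 11]), (nat_lit 4, [nat_lit 9, nat_lit 8, nat_lit 7]), (nat_lit 8, [nat_lit 5, nat_lit 4, nat_lit 2]), (nat_lit 9, [nat_lit 1, nat_lit 6]), (nat_lit 24, [nat_lit 0])]) (Ls := Ls) rfl (by decide +kernel)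
    (Or.inr ⟨(QuotientGroup.ker_mk' _).le, [[nat_lit 1, nat_lit 0, nat_lit 0, nat_lit 0, nat_lit 0],
   [nat_lit 1, nat_lit 2, nat_lit 2, nat_lit 1, nat_lit 1, nat_lit 0, nat_lit 0, nat_lit 0],
   [nat_lit 1, nat_lit 3],
   [nat_lit 0, nat_lit 1, nat_lit 1, nat_lit 0]], nat_lit 0, [nat_lit 2, nat_lit 1, nat_lit 0], by decide +kernel⟩)
  exact ⟨S, h⟩

end H27.O8p2
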