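import Mathlib
import Cfsg.Agent.H27.CentRing

/-!
# Isotypic projectors (helper27)

* `H27.proj ρ χ` : the projector onto the `χ`-isotypic component; `proj_comm`, `proj_apply_irr`,
  `proj_mul_self`, `trace_proj_mul`, `exists_mul_proj`, `sum_proj`, `proj_eq_zero`.
* `H27.InvM G T` : `G`-invariant matrices; `projMat G Ω χ` and its properties (`projMat_inv`, `projMat_mul_self`,
  `projMat_trace`, `exists_mul_projMat`, `projMat_row`, `projMat_apply`, `sum_projMat`),
  `projMat_mul_card` (entry on an orbital), `isIntegral_of_mul_eq`.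
-/

open Cfsg H05 Module
open scoped ComplexConjugate

namespace H27

variable {G : Type*} [Group G] {V : Type*} [AddCommGroup V] [Module ℂ V]

theorem sum_inv_mul [Fintype G] {π χ : G → ℂ} (hπ : IsCharacter G π)
    (hχ : IsIrrCharacter G χ) (x : G) :
    ∑ g, χ g⁻¹ * π (g * x) = Nat.card G * classInner π χ * χ x / χ 1 := by
  classical
  simp only [hπ.isClassFunction.apply_eq_sum (_ * x), Finset.mul_sum]
  rw [Finset.sum_comm, Finset.sum_eq_single ⟨χ, hχ⟩]
  · simp only [mul_left_comm (χ _) (classInner π χ), ← Finset.mul_sum]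
    rw [hχ.sum_inv_mul_apply_mul hχ.isGeneralizedCharacter, hχ.classInner_self]
    ring
  · intro ψ _ h
    simp only [mul_left_comm (χ _) (classInner π ψ), ← Finset.mul_sum]
    rw [ψ.2.sum_inv_mul_apply_mul hχ.isGeneralizedCharacter,
      ψ.2.classInner_of_ne hχ (fun h' => h (Subtype.ext h'))]
    simp
  · simp

/-- the projector onto the `χ`-isotypic component -/
noncomputable def proj [Fintype G] (ρ : Representation ℂ G V) (χ : G → ℂ) : Module.End ℂ V :=
  (χ 1 / Nat.card G) • ∑ g, χ g⁻¹ • ρ g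

variable [Fintype G] {χ : G → ℂ}

theorem proj_comm (ρ : Representation ℂ G V) (hχ : IsIrrCharacter G χ) (g : G) :
    proj ρ χ * ρ g = ρ g * proj ρ χ := by
  rw [proj, smul_mul_assoc, mul_smul_comm]
  exact congrArg _ (sum_smul_rep_comm ρ hχ.isClassFunction.inv_comp g)

theorem mul_proj_comm (ρ : Representation ℂ G V) (χ : G → ℂ) {T : Module.End ℂ V}
    (hT : ∀ g, T * ρ g = ρ g * T) : T * proj ρ χ = proj ρ χ * T := by
  simp only [proj, mul_smul_comm, smul_mul_assoc, Finset.mul_sum, Finset.sum_mul, hT]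

variable [FiniteDimensional ℂ V]

open Classical in
theorem proj_apply_irr {ρ : Representation ℂ G V} (hχ : IsIrrCharacter G χ) (W : Subrepresentation ρ)
    [W.toRepresentation.IsIrreducible] {w : V} (hw : w ∈ W.toSubmodule) :
    proj ρ χ w = if W.toRepresentation.character = χ then w else 0 := by
  have h4 := congrArg (fun T : Module.End ℂ W.toSubmodule => (T ⟨w, hw⟩ : V))
    (sum_smul_rep_eq W.toRepresentation hχ.isClassFunction.inv_comp)
  have h5 : (∑ g, χ g⁻¹ • ρ g) w = ((∑ g, χ g⁻¹ * W.toRepresentation.character g) /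
      W.toRepresentation.character 1) • w := by
    refine Eq.trans ?_ h4
    simp only [LinearMap.sum_apply, LinearMap.smul_apply, Submodule.coe_sum, Submodule.coe_smul]
    rfl
  have h7 := sum_inv_mul (isCharacter_character W.toRepresentation) hχ 1
  simp only [mul_one] at h7
  rw [proj, LinearMap.smul_apply, h5, h7, smul_smul]
  split_ifs with h6
  · have := hχ.apply_one_ne_zero
    have := card_ne_zero_complex (G := G)
    rw [h6, hχ.classInner_self]
    convert one_smul ℂ w
    field_simp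
  · rw [(isIrrCharacter_character W.toRepresentation).classInner_of_ne hχ h6]
    simp

theorem proj_mul_self (ρ : Representation ℂ G V) (hχ : IsIrrCharacter G χ) :
    proj ρ χ * proj ρ χ = proj ρ χ := by
  rw [← sub_eq_zero]
  apply eq_zero_of_irr ρ
  · intro g
    rw [sub_mul, mul_sub, mul_assoc, proj_comm ρ hχ, ← mul_assoc, proj_comm ρ hχ, mul_assoc]
  intro W hW w hw
  rw [LinearMap.sub_apply, Module.End.mul_apply, proj_apply_irr hχ W hw]
  split_ifs with h
  · rw [proj_apply_irr hχ W hw, if_pos h, sub_self]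
  · rw [map_zero, sub_self]

theorem trace_proj_mul (ρ : Representation ℂ G V) (hχ : IsIrrCharacter G χ) (x : G) :
    LinearMap.trace ℂ V (proj ρ χ * ρ x) = classInner ρ.character χ * χ x := by
  have h7 := sum_inv_mul (isCharacter_character ρ) hχ x
  simp only [proj, smul_mul_assoc, Finset.sum_mul, map_smul, map_sum, smul_eq_mul, ← map_mul]
  change _ * ∑ g, χ g⁻¹ * ρ.character (g * x) = _
  have := hχ.apply_one_ne_zero
  have := card_ne_zero_complex (G := G)
  rw [h7]; field_simp

theorem exists_mul_proj (ρ : Representation ℂ G V) (hχ : IsIrrCharacter G χ)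
    (h1 : classInner ρ.character χ = 1) {T : Module.End ℂ V} (hT : ∀ g, T * ρ g = ρ g * T) :
    ∃ c : ℂ, T * proj ρ χ = c • proj ρ χ := by
  obtain ⟨c, hc⟩ := exists_scalar_of_mult_one ρ hχ h1 T hT
  refine ⟨c, ?_⟩
  rw [← sub_eq_zero]
  apply eq_zero_of_irr ρ
  · intro g
    rw [sub_mul, mul_sub, mul_assoc, proj_comm ρ hχ, ← mul_assoc, hT, mul_assoc, smul_mul_assoc,
      proj_comm ρ hχ, mul_smul_comm]
  intro W hW w hw
  rw [LinearMap.sub_apply, Module.End.mul_apply, LinearMap.smul_apply, proj_apply_irr hχ W hw]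
  split_ifs with h
  · rw [hc W h w hw, sub_self]
  · simp

theorem proj_eq_zero (ρ : Representation ℂ G V) (hχ : IsIrrCharacter G χ)
    (h0 : classInner ρ.character χ = 0) : proj ρ χ = 0 := by
  apply eq_zero_of_irr ρ _ (proj_comm ρ hχ)
  intro W hW w hw
  rw [proj_apply_irr hχ W hw, if_neg]
  rintro rfl
  exact classInner_subrep_ne_zero W hχ.isCharacter (by rw [hχ.classInner_self]; exact one_ne_zero) h0

theorem sum_proj (ρ : Representation ℂ G V) : ∑ ψ : IrrCharacter G, proj ρ ψ = 1 := by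
  classical
  rw [← sub_eq_zero]
  apply eq_zero_of_irr ρ
  · intro g
    simp only [sub_mul, mul_sub, Finset.sum_mul, Finset.mul_sum, one_mul, mul_one,
      fun ψ : IrrCharacter G => proj_comm ρ ψ.2 g]
  intro W hW w hw
  rw [LinearMap.sub_apply, LinearMap.sum_apply,
    Finset.sum_eq_single ⟨_, isIrrCharacter_character W.toRepresentation⟩]
  · rw [proj_apply_irr (isIrrCharacter_character W.toRepresentation) W hw, if_pos rfl]; simp
  · intro ψ _ h
    rw [proj_apply_irr ψ.2 W hw, if_neg fun h' => h (Subtype.ext h'.symm)]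
  · simp

variable {Ω : Type*} [MulAction G Ω]

/-- `G`-invariant matrices -/
def InvM (G : Type*) [Group G] [MulAction G Ω] (T : Matrix Ω Ω ℂ) : Prop :=
  ∀ (g : G) x y, T (g • x) (g • y) = T x y

omit [Fintype G] in
theorem InvM.transpose {T : Matrix Ω Ω ℂ} (h : InvM G T) : InvM G T.transpose := fun g x y => h g y x

omit [Fintype G] in
theorem InvM.smul_left {T : Matrix Ω Ω ℂ} (h : InvM G T) (g : G) (x y : Ω) :
    T (g • x) y = T x (g⁻¹ • y) := by rw [← h g x, smul_inv_smul]

/-- the orbital matrix over `ℂ` -/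
noncomputable def orbC (G : Type*) [Group G] [MulAction G Ω] (a b : Ω) : Matrix Ω Ω ℂ :=
  (orbMat G a b).map (Int.castRingHom ℂ)

omit [Fintype G] in
theorem orbC_apply (a b x y : Ω) : orbC G a b x y = orbMat G a b x y := rfl

omit [Fintype G] in
theorem orbC_inv (a b : Ω) : InvM G (orbC G a b) := fun g x y => by
  rw [orbC_apply, orbC_apply, orbMat_smul]

omit [Fintype G] in
theorem orbMat_cases (a b x y : Ω) : (orbMat G a b x y = 0 ∧ ¬ ∃ g : G, g • a = x ∧ g • b = y) ∨
    (orbMat G a b x y = 1 ∧ ∃ g : G, g • a = x ∧ g • b = y) := by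
  unfold orbMat
  split_ifs with h
  · exact Or.inr ⟨rfl, h⟩
  · exact Or.inl ⟨rfl, h⟩

variable [Fintype Ω] [DecidableEq Ω]

omit [Fintype G] in
theorem InvM.comm {T : Matrix Ω Ω ℂ} (h : InvM G T) (g : G) :
    Matrix.toLin' T * permRep ℂ G Ω g = permRep ℂ G Ω g * Matrix.toLin' T := by
  apply LinearMap.ext; intro v; funext x
  show ∑ y, T x y * v (g⁻¹ • y) = ∑ y, T (g⁻¹ • x) y * v y
  exact Fintype.sum_equiv (MulAction.toPerm g⁻¹) _ _ fun y => by rw [← h g⁻¹ x y]; rfl

/-- the matrix of the isotypic projector in a permutation representation -/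
noncomputable def projMat (G : Type*) [Group G] [Fintype G] (Ω : Type*) [MulAction G Ω] [Fintype Ω]
    [DecidableEq Ω] (χ : G → ℂ) : Matrix Ω Ω ℂ :=
  LinearMap.toMatrix' (proj (permRep ℂ G Ω) χ)

theorem projMat_apply (χ : G → ℂ) (x y : Ω) : projMat G Ω χ x y =
    χ 1 / Nat.card G * ∑ g : G, if g • y = x then χ g⁻¹ else 0 := by
  simp only [projMat, proj, LinearMap.toMatrix'_apply, LinearMap.smul_apply, LinearMap.sum_apply,
    Pi.smul_apply, Finset.sum_apply, smul_eq_mul]
  congr 1
  refine Finset.sum_congr rfl fun g _ => ?_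
  show χ g⁻¹ * (Pi.single y (1 : ℂ) : Ω → ℂ) (g⁻¹ • x) = _
  rw [Pi.single_apply, mul_ite, mul_one, mul_zero]
  exact if_congr (by rw [inv_smul_eq_iff, eq_comm]) rfl rfl

theorem projMat_inv (hχ : IsIrrCharacter G χ) : InvM G (projMat G Ω χ) := by
  intro h x y
  rw [projMat_apply, projMat_apply]
  congr 1
  refine (Fintype.sum_equiv (MulAut.conj h).toEquiv _ _ fun g => ?_).symm
  show _ = if (h * g * h⁻¹) • h • y = h • x then χ (h * g * h⁻¹)⁻¹ else 0
  rw [mul_smul, mul_smul, inv_smul_smul, show χ (h * g * h⁻¹)⁻¹ = χ g⁻¹ from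
    hχ.isClassFunction.inv_comp g h]
  simp only [smul_left_cancel_iff]

theorem projMat_mul_self (hχ : IsIrrCharacter G χ) :
    projMat G Ω χ * projMat G Ω χ = projMat G Ω χ := by
  rw [projMat, ← LinearMap.toMatrix'_mul, proj_mul_self _ hχ]

theorem projMat_trace (hχ : IsIrrCharacter G χ) (g : G) : ∑ x, projMat G Ω χ x (g • x) =
    classInner (fun g : G => (Nat.card (MulAction.fixedBy Ω g) : ℂ)) χ * χ g := by
  rw [← character_permRep, ← trace_proj_mul _ hχ, trace_pi]
  refine Finset.sum_congr rfl fun x _ => ?_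
  rw [projMat, LinearMap.toMatrix'_apply, Module.End.mul_apply]
  refine congrArg (fun v => proj (permRep ℂ G Ω) χ v x) ?_
  funext z
  show _ = (Pi.single x (1 : ℂ) : Ω → ℂ) (g⁻¹ • z)
  simp only [Pi.single_apply, inv_smul_eq_iff]

theorem exists_mul_projMat (hχ : IsIrrCharacter G χ)
    (h1 : classInner (fun g : G => (Nat.card (MulAction.fixedBy Ω g) : ℂ)) χ = 1)
    {T : Matrix Ω Ω ℂ} (hT : InvM G T) :
    ∃ c : ℂ, T * projMat G Ω χ = c • projMat G Ω χ ∧ projMat G Ω χ * T = c • projMat G Ω χ := by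
  rw [← character_permRep] at h1
  obtain ⟨c, hc⟩ := exists_mul_proj _ hχ h1 hT.comm
  have h2 := congrArg LinearMap.toMatrix' hc
  have h3 := congrArg LinearMap.toMatrix' (mul_proj_comm _ χ hT.comm)
  rw [LinearMap.toMatrix'_mul, LinearMap.toMatrix'_toLin'] at h2 h3
  rw [LinearMap.toMatrix'_mul, LinearMap.toMatrix'_toLin'] at h3
  rw [map_smul] at h2
  exact ⟨c, h2, h3.symm.trans h2⟩

theorem projMat_row (hχ : IsIrrCharacter G χ) (h1 : χ ≠ 1) (x : Ω) : ∑ y, projMat G Ω χ x y = 0 := by
  simp only [projMat_apply, ← Finset.mul_sum]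
  rw [Finset.sum_comm]
  have : ∀ g : G, (∑ y, if g • y = x then χ g⁻¹ else 0) = χ g⁻¹ := fun g => by
    simp only [smul_eq_iff_eq_inv_smul, Finset.sum_ite_eq', Finset.mem_univ, if_true]
  simp only [this]
  rw [← Fintype.sum_equiv (Equiv.inv G) χ (fun g => χ g⁻¹) (fun g => by simp), hχ.sum_eq_zero h1, mul_zero]

theorem projMat_col (hχ : IsIrrCharacter G χ) (h1 : χ ≠ 1) (y : Ω) : ∑ x, projMat G Ω χ x y = 0 := by
  simp only [projMat_apply, ← Finset.mul_sum]
  rw [Finset.sum_comm]
  simp only [Finset.sum_ite_eq, Finset.mem_univ, if_true]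
  rw [← Fintype.sum_equiv (Equiv.inv G) χ (fun g => χ g⁻¹) (fun g => by simp), hχ.sum_eq_zero h1, mul_zero]

theorem sum_projMat : ∑ ψ : IrrCharacter G, projMat G Ω ψ = 1 := by
  simp only [projMat]
  rw [← map_sum, sum_proj, LinearMap.toMatrix'_one]

theorem projMat_eq_zero (hχ : IsIrrCharacter G χ)
    (h0 : classInner (fun g : G => (Nat.card (MulAction.fixedBy Ω g) : ℂ)) χ = 0) :
    projMat G Ω χ = 0 := by
  rw [projMat, proj_eq_zero _ hχ (by rwa [character_permRep]), map_zero]

omit [Fintype G] in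
theorem trace_orbC_transpose_mul [MulAction.IsPretransitive G Ω] {E : Matrix Ω Ω ℂ} (hE : InvM G E)
    (a b : Ω) : ((orbC G a b).transpose * E).trace =
      Fintype.card Ω * Nat.card (MulAction.orbit (MulAction.stabilizer G a) b) * E a b := by
  have : ∀ x y, orbC G a b y x * E y x = orbMat G a b y x * E a b := fun x y => by
    rcases orbMat_cases (G := G) a b y x with ⟨h, -⟩ | ⟨h, g, rfl, rfl⟩
    · rw [orbC_apply, h]; simp
    · rw [orbC_apply, hE]
  simp only [Matrix.trace, Matrix.diag, Matrix.mul_apply, Matrix.transpose_apply, this]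
  rw [Finset.sum_comm]
  simp only [← Finset.sum_mul, ← Int.cast_sum, sum_orbMat]
  simp

omit [Fintype G] in
theorem isIntegral_of_mul_eq {M : Matrix Ω Ω ℤ} {E : Matrix Ω Ω ℂ} (hE : E ≠ 0) {c : ℂ}
    (h : M.map (Int.castRingHom ℂ) * E = c • E) : IsIntegral ℤ c := by
  apply isIntegral_root_intOp M
  obtain ⟨x, y, hxy⟩ : ∃ x y, E x y ≠ 0 := by
    by_contra h0
    push Not at h0
    exact hE (Matrix.ext h0)
  rw [Polynomial.mem_roots (LinearMap.charpoly_monic _).ne_zero, ← Module.End.hasEigenvalue_iff_isRoot_charpoly]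
  refine Module.End.hasEigenvalue_of_hasEigenvector (x := fun z => E z y)
    ⟨Module.End.mem_eigenspace_iff.2 ?_, fun h0 => hxy (congrFun h0 x)⟩
  funext z
  exact congrFun (congrFun h z) y

end H27
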