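import Cfsg.Agent.L.COM

/-! Recognition of the first Conway group: the Suzuki side. `sg` (images of the letters), `sig_ev`, `low`, `low3`, `stab`, `cover`. -/

set_option autoImplicit false
set_option maxRecDepth 100000

namespace H27.CoS
open H13 H14.PK H14.PK.TS H27.PKx H27.MG L.DC L.CO Subgroup Cfsg

def TU : ℕ := nat_lit 0x77644a17e8f187e032c1ec145041c49110d91eca8e3281c38db4a5e6582759070a8259c33f1548c704302170e40b602fe34195347784aa1f715747925941d00c4863a6a43528af045e5ac12e975c9385202410e309265383229894c4862030999dc4706082159268c6059a2cc8a805c856513297306ba3db299879c4b259213e8904d966cc34116dcca24a62a316e864c2fa25097cccec53f1191290c143aa22013548b049b31c98b87b430e15f16389b04d718b8b14cf056136b9a8cc5647a3379b7c82c5d52ad9314ace68535d1a64c664472ed16f891043233f8cbc99247e2408cf053c3021b612e04a630a1990df878220f18297648121b929714a8c4e6e421b18a062c5ef1db9740d4236a2d78e94ab036e25f1684a485403239098d7e64416b8f8445622c211986854e31e1751570d1e6dd2679334b4046033a986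4c186b52931a386542b13408aa0bca65632c96b8d7c6bd1908c8c96c6bc14f918ca465311c118f8c6455f24e8e84bac47435d91c46a24de201179c5346312299a546566b81ce097cc022081051508c0a3f413a10386a03bf2e392f07d23eb13a97506023cf34d0ccc6f63d232a081c8cc20b13d8bc09f21f8307176cc5227221792bc7683772798b546e85bc2f319cccbc5593631854cf85f62c290807a06522c00ff88ba6ae2cc12e8ab41df2fd95f86524a71df14ec51246129a99c89885dc2dd9a786984bb3510becb6a44628b942c9ac6d9327989848e6c82580b104c2260148921090e4e725f9538c9463516f94749b26e01739ad0d665cb2cb165c6ce6d012b1aa08d24681081a289a22b81558aa86b84861f012e4ba626a23c930c82e5cf26717188ae544224155898e46e1450cd86fe37d28d07d0ad82b71cb884ca0057111c8b0053a44233c901cd6046c1478f88d0825a30c08a0da463a33d9724bb064d16095e84d637529b9b786b04802199688dac3432650c809fa4fe3749a7c94a57c1cf1808dc264834c0d787665152e10ef4a366c02a99428b7e2903558cfcc38419372996c87052521a996886e30624f98bca5864930e8de89326c41581370b3c51c29c95cc4cc3b02d9934ca786ee22192547ce2b41d58abc9903d42d914d88ce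4721a7892459046d16610e472c56d1171520a9231f2148bd4bd22011fb11387363b12ef91709982702600ce08923b23718ab89644342d20b189663341230b4c78023f22f184070851e1c68e4cb3a68934416c4d242d828b1248b1a1bb31b95fcc6c4f11c2952ccda50d2bc8eb4cf45bd2c10f3079a4ef2d1992c7d45fa2dc1728b0c6661f918846362bd27293a46185ab2f111cc4ce4ab2561b507343992e21a80a8a69620f0dd8d36206293878cc2e6c53481ad8a4242c1f60d64a243893609348dd84242260a704242e11f40fbc36e6712d296207a25a61d49b0ccd65501f999b05e43223751a00b0624b1aa89286ca6142571420c241d911895e0a085641d20970b2259028497b467c3a730f0c68b806341fd137cb9a4f220a8f4c5086912be915858e2e830588543c22231a093d889a48f17c1bd09da57b33a16d067241f28995a039c6931c7093835c3601f20ed4a0452d294995ca564e82a799c07f66dc2f19b6c6b649835b8c709f627c149991852849031f8f7c5de5d2222128c6d26e21ca085ca603192c099f48b63790f588d45943d918a17f84a43c21028cc4cba3622b30a1c6802b51b0983c57638819e97386d021c218917c61221a0e493dc6c660023f92dc5106f12451b4c61a4972fc12f4bf248b2888a3470c43b1549588c845872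110c3c3aa24d3561a348206ef17e0f5844050c22d17c090a5d12fa0cdc9824c21e38f28da22d21e59bc860e3c31e21030cc24e12fe170ca746d537a8e2c67435f3298b808745e129e93b09e851812c0ad898c3572879a509062252320b70c9c46b1a50910c2c6cf134950c5dc60727a92a49503252b7940448041b26d089c3826da1b310fc9b66c21dd0cec9284003738f949964dd176986c4dc26f2ba9988ae81e82f894888282832f01288aa85dd17607346303530f71930dcc667174994083a3fd2ca8e3c8ea2d61fa902080643c1dc14f8d5a58921688a892c5511d60bdc8ee2221b807c8c225fd2838b2c5c45b91530e8c5bc28c18888cc3d42262a60b5089e40529911947fe66a1c50ee488a4ee1e715d83a04e42f9198c8141ec3370c0c6086f030498b4b8a6e81619a7473020331111f0c4654a27e18f0d9a42a25a918883037134399545e840f0e31b3868e2f91ef1a307da4b10f699907f23081e294a0cbe32d19719a0bea1f71509b60de63d72db1a7062044b1ab0bd89f431514291f44e25ea2108e7470637311a18ec6d64542cd89405ca6b110c0d349183b62cf8d244843a614909cc4b64d43218d90bbc3422710f205302820ec074c4ec5031a7104450c50522a9398d0c5aa19387d4aae56a1459a2c9686ca2008ae457458c2b80e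b88085100e588c0c5851f28713a83f62002c596287c662a31e8d2c52e29610c8a545fe6b230f99a4ad248e12a98343ca2d11528a905444252138b6cb4e5342b188107cc34815f95dcb823f12030b245e64591bc0b403ba26311b0884d4e4282f588f849e2111060b34bee5ff16d17905e24f01c00e0442c2242aa961073e1cc2569464d5e23d14007d8b525a830306fcd8e46a16c9580d523af12b964c5361ff33290344042e613c90f87b824c23c11d8a0c1b52d6938c4283a211e0b74d4c39527009e84c824311d08ecad66b910689fc8242eb1a31a5c8de2b236493fc3cc6403208d6838855e1c90d1075026c2280d504fc3d510f87f83e23fc3758fe05462e320d09b48a42452b712344f058f3301bb446e2772f6180c38e6042f7128081628e19209449f02ac12a08783941fc15686c43f25e818009885845720eb0d4843a1e20f48dbc6163302098d143de37c35508b45321af24f07c08a21b02e407685021dc0ed87788e02cf0d587cc7ba1a516706d83a23350d311046e426815987f47ee1c21048c4c3642290d687207221a312f06903701a126806b0cb81bd24487484901a70d987143f41e00f210f43861ba0eb86a03441aa0da073c3a81be0e006a43780d404d807003a02c016856411615f049850c1ba05709681443220370c183bc0f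a11001c02602f20f5063846c17a1700c785bc27a10a05885d414a14e05e039c3120f003b81602fc0890a4005809e1840c100f80760b70a2048803216807c845828009c05202e02a20700cc01582b60490ae840c3340c80ab84640cc06408582a02c203106c05f029a04109c843422a173019037025816b0cb01b41c416505903943020a3092848c29604a09a04d817213704804c80f011307000a032614508784a821207e07e803427608a09d05a81f802607d03540dc0d10c303c82ac0be07f8598292076098014008818c09580b82940da0a9860025202104d00300280cf0ad017c1920ce08b829c24e121002047c2ce0ed01e03d03100f6014846818c1780c701ac1f008100401801280e10bd017827c05d07185041d012f01182ec32a146050843010e14f01a827c23c1a005a8348238080082040013206504301182021580c383c413a062061830802a00b00f046030a17b06f024426a1620b602d81a606f05004fc2fe0af05802b80fe04d01282a802e15207f01ec2fa16309e02541b60b306b023018a1640cf841c19a18a034016c1440e90cb8114174133018023810a09e0cc84902e808806c832c11a084012009c1d80d005684a031a06c05301e80861310bb8450014018035003806616005a047428407c07701cc07e09701a055419815403183100c20ea08103981c801104b016808e1760ca05780aa05400280e43241120b880d815804801e84e02b804c02c832812411103c810829804003485b80960f70b6801c0a418b0c801381ae067038851c2a008f00d043833619c01580241e612e041048015608306f808821000100182fc33a19e00d80bc2d207405485c818210500980480b801000301c824c10606001d40540eb01d003c0a60fb00f8008040000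

/-- the tables of the images of the fifteen letters -/
noncomputable def T15 : List ℕ := apd L.SZ.T13 [idv 13 1782, TU]

theorem tu_ok : Nat.beq (tw 13 1782 L.SZ.Ts L.SZ.wu) TU = true := by decide +kernel

theorem tu_in : H27.Suz.S.In ⊤ TU := Nat.eq_of_beq_eq_true tu_ok ▸ In.tw L.SZ.inT _

theorem in15 : ∀ t ∈ T15, H27.Suz.S.In ⊤ t := fun t ht => by
  rw [T15, apd_eq] at ht
  rcases List.mem_append.1 ht with h | h
  · exact L.SZ.inT t (by rw [L.SZ.Ts, apd_eq]; exact List.mem_append_left _ h)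
  · simp only [List.mem_cons, List.not_mem_nil, or_false] at h
    rcases h with rfl | rfl
    exacts [In.one, tu_in]

/-- the images of the letters in the Suzuki group -/
noncomputable abbrev sg : ℕ → Spor.Suz := gn H27.Suz.S T15

theorem sg_lt {i : ℕ} (h : i < 13) : sg i = L.SZ.g0 i := by
  refine congrArg H27.Suz.S.el ?_
  rw [nd_eq, nd_eq, T15, L.SZ.Ts, apd_eq, apd_eq, List.getD_append _ _ _ _ h, List.getD_append _ _ _ _ h]

theorem sg13 : sg 13 = 1 := el_idv

theorem sg14 : sg 14 = evalW L.SZ.g0 L.SZ.wu := by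
  rw [← el_tw L.SZ.inT, Nat.eq_of_beq_eq_true tu_ok]; rfl

theorem e_ge {i : ℕ} (h : 15 ≤ i) : e i = 1 := by
  rw [e, ge, H14.genM, List.getD_eq_default _ _ (by rw [List.length_map]; exact h)]; rfl

theorem e_in (i : ℕ) : e i ∈ H0 := (Nat.lt_or_ge i 15).elim e_H0 fun h => e_ge h ▸ one_mem _

theorem ev_in (w : List ℕ) : evalW e w ∈ H0 := evalW_mem fun i _ => e_in i

variable {σ : H0 →* Spor.Suz}

theorem ev_map (σ : H0 →* Spor.Suz) (w : List ℕ) : σ ⟨evalW e w, ev_in w⟩ = evalW (fun i => σ ⟨e i, e_in i⟩) w := by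
  induction w with
  | nil => exact map_one σ
  | cons i w ih => rw [evalW_cons (gen := fun i => σ ⟨e i, e_in i⟩), ← ih, ← map_mul]; rfl

theorem ev_congr {G : Type*} [Group G] {g g' : ℕ → G} {w : List ℕ} (h : ∀ i ∈ w, g i = g' i) : evalW g w = evalW g' w :=
  congrArg List.prod (List.map_congr_left h)

theorem sig_e (s : Sig σ) (i : ℕ) : σ ⟨e i, e_in i⟩ = sg i := by
  rcases Nat.lt_or_ge i 13 with h | h
  · exact (s.let' i h).trans (sg_lt h).symm
  rcases Nat.lt_or_ge i 15 with k | k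
  · interval_cases i
    · exact ((s.ker _).2 (mem_zpowers _)).trans sg13.symm
    · rw [sg14, show (⟨e 14, e_in 14⟩ : H0) = ⟨_, ev_in L.SZ.wu⟩ from Subtype.ext u_eq, ev_map]
      exact ev_congr fun i hi => s.let' i ((by decide +kernel : ∀ i ∈ L.SZ.wu, i < 13) i hi)
  · rw [show (⟨e i, e_in i⟩ : H0) = 1 from Subtype.ext (e_ge k), map_one]
    exact (gn_of_le (Ts := T15) i k).symm

theorem sig_ev (s : Sig σ) (w : List ℕ) : σ ⟨evalW e w, ev_in w⟩ = evalW sg w :=
  (ev_map σ w).trans (ev_congr fun i _ => sig_e s i)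

/-- the tables of words, passed to `k` -/
noncomputable def tabK (ws : List (List ℕ)) : (List ℕ → Bool) → Bool :=
  List.rec (fun k => k []) (fun u _ ih k => force (tw 13 1782 T15 u) fun x => ih fun l => k (x :: l)) ws

theorem tabK_spec {ws : List (List ℕ)} {k : List ℕ → Bool} (h : tabK ws k = true) {K : Subgroup Spor.Suz} (hK : ∀ w ∈ ws, evalW sg w ∈ K) :
    ∃ Ls, (∀ t ∈ Ls, H27.Suz.S.In K t) ∧ k Ls = true := by
  induction ws generalizing k with
  | nil => exact ⟨[], by simp, h⟩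
  | cons u ws ih =>
    obtain ⟨a, b⟩ := List.forall_mem_cons.1 hK
    obtain ⟨Ls, c, d⟩ := ih (show tabK ws (fun l => k (tw 13 1782 T15 u :: l)) = true from h) b
    exact ⟨_, List.forall_mem_cons.2 ⟨(In.tw in15 u).of_el ((el_tw in15 u).symm ▸ a), c⟩, d⟩

/-- the images of the words generate a group of order at least `N` -/
noncomputable def lowW (N : ℕ) (pr ws : List (List ℕ)) (lv : Ch) : Bool := tabK ws fun Ls => lowOk 13 1782 N pr Ls lv

theorem lowS {N : ℕ} {pr ws : List (List ℕ)} {lv : Ch} (h : lowW N pr ws lv = true) {K : Subgroup Spor.Suz}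
    (hK : ∀ w ∈ ws, evalW sg w ∈ K) : N ≤ Nat.card K :=
  let ⟨_, a, b⟩ := tabK_spec h hK; le_of_ok b a

/-- the image of a subgroup -/
def im (σ : H0 →* Spor.Suz) (T : Subgroup Spor.Co1) : Subgroup Spor.Suz := (T.subgroupOf H0).map σ

theorem mem_im (s : Sig σ) {T : Subgroup Spor.Co1} {w : List ℕ} (h : evalW e w ∈ T) : evalW sg w ∈ im σ T := ⟨_, h, sig_ev s w⟩

theorem finCo : Finite Spor.Co1 := Nat.finite_of_card_ne_zero (by rw [H14.card_Co1]; decide)

theorem card_sub (T : Subgroup Spor.Co1) : Nat.card (T.subgroupOf H0) ≤ Nat.card T :=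
  have := finCo
  Nat.card_le_card_of_injective (fun x => ⟨x.1.1, x.2⟩) fun _ _ h => Subtype.ext (Subtype.ext (congrArg (fun x : T => x.1) h))

theorem low (s : Sig σ) {N : ℕ} {pr ws : List (List ℕ)} {lv : Ch} (h : lowW N pr ws lv = true) {T : Subgroup Spor.Co1}
    (hT : ∀ w ∈ ws, evalW e w ∈ T) : N ≤ Nat.card T :=
  have := finCo
  (lowS h fun w hw => mem_im s (hT w hw)).trans ((Nat.card_le_card_of_surjective _ (σ.subgroupMap_surjective _)).trans (card_sub T))

theorem y_ne : e 13 ≠ 1 := by simpa only [evalW_cons, evalW_nil, mul_one] using nM_spec MI_ok DI_ok (u := [13]) (v := []) (by decide +kernel)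

theorem low3' (s : Sig σ) {N : ℕ} {T : Subgroup Spor.Co1} (h : N ≤ Nat.card (im σ T)) (hy : e 13 ∈ T) : 3 * N ≤ Nat.card T := by
  have := finCo
  have : Fact (Nat.Prime 3) := ⟨by decide⟩
  refine le_trans ?_ (card_sub T)
  rw [← L.SZ.card_split σ (T.subgroupOf H0)]
  refine Nat.mul_le_mul ?_ h
  rw [← orderOf_eq_prime y3 y_ne, ← Nat.card_zpowers]
  exact Nat.card_le_card_of_injective (fun x => ⟨⟨⟨x.1, zpowers_le.2 (e_in 13) x.2⟩, zpowers_le.2 hy x.2⟩, (s.ker _).2 x.2⟩)
    fun _ _ h => Subtype.ext (congrArg (·.1.1.1) h)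

theorem low3 (s : Sig σ) {N : ℕ} {pr ws : List (List ℕ)} {lv : Ch} (h : lowW N pr ws lv = true) {T : Subgroup Spor.Co1}
    (hT : ∀ w ∈ ws, evalW e w ∈ T) (hy : e 13 ∈ T) : 3 * N ≤ Nat.card T := low3' s (lowS h fun w hw => mem_im s (hT w hw)) hy

/-- the whole centraliser of `y` -/
theorem lowH (s : Sig σ) {T : Subgroup Spor.Co1} (hT : H0 ≤ T) : 1345036492800 ≤ Nat.card T :=
  low3' s (N := 448345497600) (by
    rw [show im σ T = ⊤ from eq_top_iff.2 fun x _ => let ⟨a, h⟩ := s.surj x; ⟨a, hT a.2, h⟩, card_top, H27.Suz.model.card]) (hT (e_in 13))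

theorem card_st {p : ℕ} (hp : p < 1782) (h : Nat.beq (orbN 13 1782 T15 p) 1782 = true) : Nat.card (H27.Suz.S.st p) ≤ 251596800 := by
  have := H27.Suz.S.finite
  obtain ⟨ts, a, b, c⟩ := orbN_spec hp in15
  have := Nat.card_le_card_of_injective _ (step_inj hp a b)
  rw [Nat.card_prod, Nat.card_fin, c, Nat.eq_of_beq_eq_true h, top_inf_eq, card_top, H27.Suz.model.card] at this
  omega

/-- the words fix `p` and generate its stabiliser -/
noncomputable def stabOk (p : ℕ) (pr ws : List (List ℕ)) (lv : Ch) : Bool :=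
  band (band (Nat.blt p 1782) (Nat.beq (orbN 13 1782 T15 p) 1782))
    (band (allL (fun w => Nat.beq (apV 13 1782 T15 w p) p) ws) (lowW 251596800 pr ws lv))

theorem stab {p : ℕ} {pr ws : List (List ℕ)} {lv : Ch} (h : stabOk p pr ws lv = true) {K : Subgroup Spor.Suz}
    (hK : ∀ w ∈ ws, evalW sg w ∈ K) : H27.Suz.S.st p ≤ K := by
  have := H27.Suz.S.finite
  simp only [stabOk, band_eq_true, Nat.blt_eq, allL_iff] at h
  have a : clW sg ws ≤ H27.Suz.S.st p := clW_le fun w hw _ => (apV_spec in15 w p h.1.1).symm.trans (Nat.eq_of_beq_eq_true (h.2.1 w hw))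
  exact (eq_of_le_of_card_ge a ((card_st h.1.1 h.1.2).trans (lowS h.2.2 fun w => evalW_mem_clW))).ge.trans (clW_le hK)

/-- every point is carried to `p` by an element of the group of the words `ws` followed by one of the words of `rs` -/
noncomputable def covOk (p : ℕ) (ws : List (List ℕ)) (rs : List (List ℕ × ℕ)) : Bool :=
  band (allL (fun r => band (Nat.blt r.2 1782) (Nat.beq (apV 13 1782 T15 r.1 r.2) p)) rs) (tabK ws fun Ls =>
    Nat.beq (Nat.land (ones 1782) (orb (fun g q => get 13 g q) Ls 1800 (rs.map Prod.snd) (mkM (rs.map Prod.snd)))) (ones 1782))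

theorem coverS {p : ℕ} (hp : p < 1782) {ws : List (List ℕ)} {rs : List (List ℕ × ℕ)} (h : covOk p ws rs = true) {T : Subgroup Spor.Suz}
    (hT : ∀ w ∈ ws, evalW sg w ∈ T) (x : Spor.Suz) : ∃ r ∈ rs, ∃ k ∈ H27.Suz.S.st p, ∃ τ ∈ T, x = k * evalW sg r.1 * τ := by
  obtain ⟨h1, h2⟩ := band_eq_true.1 h
  obtain ⟨Ls, a, b⟩ := tabK_spec h2 hT
  simp only [allL_iff, band_eq_true, Nat.blt_eq, Nat.beq_eq] at h1
  have k : ∀ q ∈ rs.map Prod.snd, ∃ r ∈ rs, ∃ τ ∈ T, H27.Suz.S.ap τ r.2 = q := fun q hq => by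
    obtain ⟨r, hr, rfl⟩ := List.mem_map.1 hq
    exact ⟨r, hr, 1, one_mem _, H27.Suz.S.ap_one (h1 r hr).1⟩
  obtain ⟨r, hr, τ, c, d⟩ := orb_spec (P := fun q => ∃ r ∈ rs, ∃ τ ∈ T, H27.Suz.S.ap τ r.2 = q) (fun g hg q ⟨r, hr, τ, c, d⟩ =>
    ⟨r, hr, _, mul_mem (a g hg).el_mem c, by rw [H27.Suz.S.ap_mul _ _ (h1 r hr).1, d, (a g hg).ap_el]⟩) 1800 k (fun q hq => k q (bt_mkM hq))
    (H27.Suz.S.ap x⁻¹ p) (bt_of_sub b (by rw [bt_eq, testBit_ones]; simpa using H27.Suz.S.ap_lt _ hp))
  refine ⟨r, hr, x * τ * (evalW sg r.1)⁻¹, fun _ => ?_, τ⁻¹, inv_mem c, by group⟩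
  have q : H27.Suz.S.ap (evalW sg r.1)⁻¹ p = r.2 := by
    rw [← (h1 r hr).2, apV_spec in15 _ _ (h1 r hr).1, H27.Suz.S.ap_inv_ap _ (h1 r hr).1]
  rw [H27.Suz.S.ap_mul _ _ hp, q, H27.Suz.S.ap_mul _ _ (h1 r hr).1, d, H27.Suz.S.ap_ap_inv _ hp]

/-- double cosets in the centraliser of `y` -/
theorem cover (s : Sig σ) {p : ℕ} {pr ks ws : List (List ℕ)} {lv : Ch} {rs : List (List ℕ × ℕ)} (h1 : stabOk p pr ks lv = true)
    (h2 : covOk p ws rs = true) {K T : Subgroup Spor.Co1} (hK : ∀ w ∈ ks, evalW e w ∈ K) (hT : ∀ w ∈ ws, evalW e w ∈ T) :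
    ∀ h ∈ H0, ∃ k ∈ K, ∃ m < 3, ∃ r ∈ rs, ∃ τ ∈ T, h = k * (e 13 ^ m * evalW e r.1) * τ := fun h hh => by
  have := finCo
  obtain ⟨r, hr, k, hk, τ, ⟨t, ht, rfl⟩, q⟩ := coverS (Nat.blt_eq.mp (band_eq_true.1 (band_eq_true.1 h1).1).1) h2
    (fun w hw => mem_im s (hT w hw)) (σ ⟨h, hh⟩)
  obtain ⟨k, hk', rfl⟩ := stab h1 (fun w hw => mem_im s (hK w hw)) hk
  rw [← sig_ev s, ← map_mul, ← map_mul, ← mul_inv_eq_one, ← map_inv, ← map_mul, s.ker] at q
  obtain ⟨m, q⟩ := mem_powers_iff_mem_zpowers.2 q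
  refine ⟨k, hk', m % 3, Nat.mod_lt _ (by decide), r, hr, t, ht, ?_⟩
  have c : Commute (k : Spor.Co1) (e 13 ^ m) := Commute.pow_right (mem_H0.1 k.2) m
  have q : e 13 ^ m = h * (k * evalW e r.1 * t)⁻¹ := q
  rw [← pow_eq_pow_mod m y3, ← mul_assoc, c.eq, q]; group

end H27.CoS
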