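import Cfsg.Agent.H27.CovMcC0
import Cfsg.Agent.H27.CovMcC1
import Cfsg.Agent.H27.CovMcC2
import Cfsg.Agent.H27.CovMcC3
import Cfsg.Agent.H27.CovMcC4
import Cfsg.Agent.H27.CovMcC5

/-! The triple cover of the McLaughlin group. -/

set_option maxRecDepth 100000
set_option Elab.async false

namespace H27.CovMc

open Cfsg H13 H15 H14.PK H14.RK

theorem c1 : Chk (MG.relS 67100 17 nets) (ssE lv) :=
  ((((((((((((((((((((((((((((((((((((((((((((((((((((((((((((((((((((((((((((((((((((((((((((((((((((((((((((((((((((((((((((((((((((((ChkT.zero.add c1_0).add c1_1).add c1_2).add c1_3).add c1_4).add c1_5).add c1_6).add c1_7).add c1_8).add c1_9).add c1_10).add c1_11).add c1_12).add c1_13).add c1_14).add c1_15).add c1_16).add c1_17).add c1_18).add c1_19).add c1_20).add c1_21).add c1_22).add c1_23).add c1_24).add c1_25).add c1_26).add c1_27).add c1_28).add c1_29).add c1_30).add c1_31).add c1_32).add c1_33).add c1_34).add c1_35).add c1_36).add c1_37).add c1_38).add c1_39).add c1_40).add c1_41).add c1_42).add c1_43).add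 c1_44).add c1_45).add c1_46).add c1_47).add c1_48).add c1_49).add c1_50).add c1_51).add c1_52).add c1_53).add c1_54).add c1_55).add c1_56).add c1_57).add c1_58).add c1_59).add c1_60).add c1_61).add c1_62).add c1_63).add c1_64).add c1_65).add c1_66).add c1_67).add c1_68).add c1_69).add c1_70).add c1_71).add c1_72).add c1_73).add c1_74).add c1_75).add c1_76).add c1_77).add c1_78).add c1_79).add c1_80).add c1_81).add c1_82).add c1_83).add c1_84).add c1_85).add c1_86).add c1_87).add c1_88).add c1_89).add c1_90).add c1_91).add c1_92).add c1_93).add c1_94).add c1_95).add c1_96).add c1_97).add c1_98).add c1_99).add c1_100).add c1_101).add c1_102).add c1_103).add c1_104).add c1_105).add c1_106).add c1_107).add c1_108).add c1_109).add c1_110).add c1_111).add c1_112).add c1_113).add c1_114).add c1_115).add c1_116).add c1_117).add c1_118).add c1_119).add c1_120).add c1_121).add c1_122).add c1_123).add c1_124).add c1_125).add c1_126).add c1_127).add c1_128).add c1_129).add c1_130).add c1_131).add c1_132).add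 c1_133).chk (by decide +kernel)

theorem c2 : Chk (MG.relS 67100 17 nets) (defE ds []) :=
  (ChkT.zero.add c2_0).chk (by decide +kernel)

theorem cd3 : Chk (MG.relS 67100 17 nets) (shE 28 (pcE d3D)) :=
  (((ChkT.zero.add cd3_0).add cd3_1).add cd3_2).chk (by decide +kernel)

theorem d3c : ∀ i < 27, (fun i => cnOk d3D (nthD (.con [] 0 0, 0) d3cs i)) i = true :=
  (rng_add rng_zero d3c_0)

theorem d3ns {G : Type*} [Group G] [Finite G] {g : ℕ → G} (R : PcRel d3D g)
    (hP : d3D.p ^ d3D.n ≤ Nat.card (Subgroup.closure (g '' Set.Iio d3D.n))) (hG : ¬ 3 ^ 8 ∣ Nat.card G) :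
    NoStem 3 G :=
  noStem_of (D := d3D) (show Nat.Prime 3 by norm_num) d3ok R (allR d3cn d3c) (rng_add rng_zero (tgAll_rng d3t_0)) d3h3 hP hG

/-- the letters -/
noncomputable def h : ℕ → Equiv.Perm (Fin 67100) := perm1 67100 nets okN

theorem Y : Sys1 (finPts 67100) h nets := sys_perm1 _ nets okN

/-- the cover -/
noncomputable abbrev D := cl h (gsOf lv)

theorem hM : ∀ i, bt (defM ds (ssM lv)) i = true → h i ∈ D :=
  ((c2.rel (MG.sndS Y)).pass D).defM (c1.rel (MG.sndS Y)).ssM

theorem perf : commutator D = ⊤ :=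
  MG.perf_of (a := 0) (b := 1) (r := 11) (s := 8) (t := 21) ((chk_of cp).rel (MG.sndS Y)) (by norm_num)

theorem mult {G : Type} [Group G] {S : TS G 9 275} {bs : List ℕ} (M : MG.Mdl S Ls bs 898128000) (h2 : NoStem 2 G) (h5 : NoStem 5 G) :
    HasCyclicSchurMultiplier G 3 :=
  MG.cover_pl Y M cr c1 (by norm_num) cz perf fun σ s1 s2 s3 s4 hN => hasTrivial_of_list hN [2, 3, 5] [7, 11] (by
    simpa using ⟨noStem_up perf s1 s2 h2, MG.ns_pl Y hM cd3 s3 s4 cl3 (fun t ht => by
      obtain ⟨i, hi, rfl⟩ := List.getElem_of_mem ht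
      have := band_eq_true.1 (allLt_iff.1 ct i hi)
      rw [nd_eq, List.getD_eq_getElem _ _ hi, p2_eq, Nat.blt_eq] at this
      exact ⟨this.1, i, hi, this.2⟩) fun a b => d3ns a b (by rw [hN]; norm_num), noStem_up perf s1 s2 h5⟩) 7 (by decide +kernel)

end H27.CovMc
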