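import Cfsg.Agent.H27.CovMcN0
import Cfsg.Agent.H27.CovMcN1
import Cfsg.Agent.H27.CovMcN2
import Cfsg.Agent.H27.CovMcN3

/-! The triple cover of the McLaughlin group. Data. -/

set_option maxRecDepth 100000
set_option Elab.async false

namespace H27.CovMc

open Cfsg H13 H15 H14.PK H14.RK

noncomputable def sl0 : SL :=
  ⟨[nat_lit 0, nat_lit 1],
  [([], nat_lit 2, (unp (nat_lit 1) (nat_lit 1539))), ([], nat_lit 3, (unp (nat_lit 2) (nat_lit 0x1803))), ([], nat_lit 4, (unp (nat_lit 1) (nat_lit 3332))), ((unp (nat_lit 2) (nat_lit 0x1604)), nat_lit 5, (unp (nat_lit 3) (nat_lit 0x80804))), ((unp (nat_lit 3) (nat_lit 0x91205)), nat_lit 6, (unp (nat_lit 3) (nat_lit 0x31806)))],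
  [[], [nat_lit 0], [nat_lit 1], [nat_lit 2], [nat_lit 3], [nat_lit 4], [nat_lit 0, nat_lit 0], [nat_lit 1, nat_lit 0], [nat_lit 2, nat_lit 0], [nat_lit 3, nat_lit 0], [nat_lit 4, nat_lit 0], [nat_lit 0, nat_lit 1], [nat_lit 1, nat_lit 1], [nat_lit 2, nat_lit 1], [nat_lit 3, nat_lit 1], [nat_lit 4, nat_lit 1], [nat_lit 0, nat_lit 2], [nat_lit 2, nat_lit 2], [nat_lit 4, nat_lit 2], [nat_lit 0, nat_lit 3], [nat_lit 1, nat_lit 3], [nat_lit 2, nat_lit 3], [nat_lit 3, nat_lit 3], [nat_lit 4, nat_lit 3], [nat_lit 0, nat_lit 4], [nat_lit 2, nat_lit 4], [nat_lit 3, nat_lit 4], (unp (nat_lit 1) (nat_lit 3)), (unp (nat_lit 1) (nat_lit 259)), (unp (nat_lit 2) (nat_lit 515)), (unp (nat_lit 2) (nat_lit 771)), (unp (nat_lit 3) (nat_lit 1027)), (unp (nat_lit 1) (nat_lit 515)), (unp (nat_lit 1) (nat_lit 771)), (unp (nat_lit 2) (nat_lit 1539)), (unp (nat_lit 2) (nat_lit 1795)), (unp (nat_lit 3) (nat_lit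 3075)), (unp (nat_lit 2) (nat_lit 2051)), (unp (nat_lit 2) (nat_lit 2563)), (unp (nat_lit 2) (nat_lit 2819)), (unp (nat_lit 3) (nat_lit 0x1403)), (unp (nat_lit 2) (nat_lit 3331)), (unp (nat_lit 2) (nat_lit 3587)), (unp (nat_lit 2) (nat_lit 3843)), (unp (nat_lit 3) (nat_lit 0x1c03)), (unp (nat_lit 3) (nat_lit 0x2203)), (unp (nat_lit 3) (nat_lit 0x2303)), (unp (nat_lit 3) (nat_lit 0x2403)), (unp (nat_lit 1) (nat_lit 1027)), (unp (nat_lit 1) (nat_lit 1283)), (unp (nat_lit 3) (nat_lit 0x4403)), (unp (nat_lit 1) (nat_lit 1795)), (unp (nat_lit 2) (nat_lit 0x1603)), (unp (nat_lit 2) (nat_lit 0x1703)), (unp (nat_lit 3) (nat_lit 0x4c03)), (unp (nat_lit 2) (nat_lit 0x1a03)), (unp (nat_lit 2) (nat_lit 0x1b03)), (unp (nat_lit 2) (nat_lit 0x1d03)), (unp (nat_lit 2) (nat_lit 0x1f03)), (unp (nat_lit 3) (nat_lit 0x6003)), (unp (nat_lit 3) (nat_lit 0x6103)), (unp (nat_lit 3) (nat_lit 0x6203)), (unp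 (nat_lit 3) (nat_lit 0x6303)), (unp (nat_lit 2) (nat_lit 0x2003)), (unp (nat_lit 2) (nat_lit 0x2103)), (unp (nat_lit 2) (nat_lit 0x2303)), (unp (nat_lit 2) (nat_lit 0x2803)), (unp (nat_lit 2) (nat_lit 0x2a03)), (unp (nat_lit 2) (nat_lit 0x2b03)), (unp (nat_lit 3) (nat_lit 0x9403)), (unp (nat_lit 3) (nat_lit 0xa003)), (unp (nat_lit 3) (nat_lit 0xa103)), (unp (nat_lit 3) (nat_lit 0xa203)), (unp (nat_lit 3) (nat_lit 0xa303)), (unp (nat_lit 3) (nat_lit 0xa403)), (unp (nat_lit 2) (nat_lit 0x3103)), (unp (nat_lit 2) (nat_lit 0x3203)), (unp (nat_lit 3) (nat_lit 0xc403)), (unp (nat_lit 2) (nat_lit 0x3403)), (unp (nat_lit 2) (nat_lit 0x3703)), (unp (nat_lit 2) (nat_lit 0x3803)), (unp (nat_lit 2) (nat_lit 0x3a03)), (unp (nat_lit 3) (nat_lit 0xd403)), (unp (nat_lit 2) (nat_lit 0x3c03)), (unp (nat_lit 2) (nat_lit 0x3e03)), (unp (nat_lit 2) (nat_lit 0x3f03)), (unp (nat_lit 3) (nat_lit 0xdc03)),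 (unp (nat_lit 3) (nat_lit 0xe003)), (unp (nat_lit 3) (nat_lit 0xe303)), (unp (nat_lit 3) (nat_lit 0xe403)), (unp (nat_lit 3) (nat_lit 0x10103)), (unp (nat_lit 3) (nat_lit 0x10203)), (unp (nat_lit 3) (nat_lit 0x10303)), (unp (nat_lit 3) (nat_lit 0x11903)), (unp (nat_lit 3) (nat_lit 0x11b03)), (unp (nat_lit 3) (nat_lit 0x11c03)), (unp (nat_lit 1) (nat_lit 4)), (unp (nat_lit 1) (nat_lit 260)), (unp (nat_lit 2) (nat_lit 772)), (unp (nat_lit 3) (nat_lit 1028)), (unp (nat_lit 1) (nat_lit 516)), (unp (nat_lit 2) (nat_lit 1540)), (unp (nat_lit 2) (nat_lit 1796)), (unp (nat_lit 3) (nat_lit 3076)), (unp (nat_lit 2) (nat_lit 2052)), (unp (nat_lit 2) (nat_lit 2564)), (unp (nat_lit 2) (nat_lit 2820)), (unp (nat_lit 2) (nat_lit 3332)), (unp (nat_lit 3) (nat_lit 0x1c04)), (unp (nat_lit 3) (nat_lit 0x2104)), (unp (nat_lit 3) (nat_lit 0x2204)), (unp (nat_lit 3) (nat_lit 0x2304)), (unp (nat_lit 3)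 (nat_lit 0x2404)), (unp (nat_lit 1) (nat_lit 1284)), (unp (nat_lit 2) (nat_lit 0x1304)), (unp (nat_lit 3) (nat_lit 0x4404)), (unp (nat_lit 2) (nat_lit 0x1604)), (unp (nat_lit 2) (nat_lit 0x1704)), (unp (nat_lit 3) (nat_lit 0x4c04)), (unp (nat_lit 2) (nat_lit 0x1a04)), (unp (nat_lit 3) (nat_lit 0x5404)), (unp (nat_lit 2) (nat_lit 0x1d04)), (unp (nat_lit 2) (nat_lit 0x1f04)), (unp (nat_lit 3) (nat_lit 0x6004)), (unp (nat_lit 2) (nat_lit 0x2004)), (unp (nat_lit 2) (nat_lit 0x2104)), (unp (nat_lit 2) (nat_lit 0x2804)), (unp (nat_lit 2) (nat_lit 0x2a04)), (unp (nat_lit 3) (nat_lit 0x9404)), (unp (nat_lit 2) (nat_lit 0x2d04)), (unp (nat_lit 2) (nat_lit 0x2f04)), (unp (nat_lit 3) (nat_lit 0xa004)), (unp (nat_lit 3) (nat_lit 0xa304)), (unp (nat_lit 2) (nat_lit 0x3604)), (unp (nat_lit 3) (nat_lit 0xcc04)), (unp (nat_lit 2) (nat_lit 0x3a04)), (unp (nat_lit 2) (nat_lit 0x3b04)), (unp (nat_lit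 3) (nat_lit 0xd404)), (unp (nat_lit 2) (nat_lit 0x3c04)), (unp (nat_lit 2) (nat_lit 0x3d04)), (unp (nat_lit 2) (nat_lit 0x3e04)), (unp (nat_lit 3) (nat_lit 0xdc04)), (unp (nat_lit 3) (nat_lit 0xe004)), (unp (nat_lit 3) (nat_lit 0xe104)), (unp (nat_lit 3) (nat_lit 0xe304)), (unp (nat_lit 3) (nat_lit 0xe404)), (unp (nat_lit 3) (nat_lit 0x11204)), (unp (nat_lit 3) (nat_lit 0x11304)), (unp (nat_lit 3) (nat_lit 0x11904)), (unp (nat_lit 3) (nat_lit 0x12004)), (unp (nat_lit 3) (nat_lit 0x12104)), (unp (nat_lit 3) (nat_lit 0x12204)), (unp (nat_lit 3) (nat_lit 0x12304)), (unp (nat_lit 3) (nat_lit 0x12404)), (unp (nat_lit 1) (nat_lit 2052)), (unp (nat_lit 3) (nat_lit 0x20c04)), (unp (nat_lit 1) (nat_lit 3844)), (unp (nat_lit 2) (nat_lit 0x5704)), (unp (nat_lit 2) (nat_lit 0x5a04)), (unp (nat_lit 2) (nat_lit 0x5b04)), (unp (nat_lit 2) (nat_lit 0x5d04)), (unp (nat_lit 2) (nat_lit 0x5e04)), (unp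 (nat_lit 2) (nat_lit 0x5f04)), (unp (nat_lit 3) (nat_lit 0x26104)), (unp (nat_lit 3) (nat_lit 0x26404)), (unp (nat_lit 2) (nat_lit 0x6804)), (unp (nat_lit 3) (nat_lit 0x29404)), (unp (nat_lit 2) (nat_lit 0x6e04)), (unp (nat_lit 2) (nat_lit 0x7504)), (unp (nat_lit 2) (nat_lit 0x7604)), (unp (nat_lit 2) (nat_lit 0x7704)), (unp (nat_lit 3) (nat_lit 0x2cc04)), (unp (nat_lit 2) (nat_lit 0x7d04)), (unp (nat_lit 2) (nat_lit 0x7e04)), (unp (nat_lit 2) (nat_lit 0x7f04)), (unp (nat_lit 3) (nat_lit 0x30004)), (unp (nat_lit 3) (nat_lit 0x30104)), (unp (nat_lit 3) (nat_lit 0x30204)), (unp (nat_lit 3) (nat_lit 0x30b04)), (unp (nat_lit 3) (nat_lit 0x31c04)), (unp (nat_lit 2) (nat_lit 0x8104)), (unp (nat_lit 2) (nat_lit 0x8304)), (unp (nat_lit 3) (nat_lit 0x40404)), (unp (nat_lit 2) (nat_lit 0x8404)), (unp (nat_lit 2) (nat_lit 0x8604)), (unp (nat_lit 3) (nat_lit 0x40c04)), (unp (nat_lit 2) (nat_lit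 0x8c04)), (unp (nat_lit 2) (nat_lit 0x8f04)), (unp (nat_lit 3) (nat_lit 0x41c04)), (unp (nat_lit 2) (nat_lit 0xa004)), (unp (nat_lit 2) (nat_lit 0xa204)), (unp (nat_lit 2) (nat_lit 0xa304)), (unp (nat_lit 3) (nat_lit 0x48404)), (unp (nat_lit 2) (nat_lit 0xa804)), (unp (nat_lit 2) (nat_lit 0xaa04)), (unp (nat_lit 2) (nat_lit 0xab04)), (unp (nat_lit 2) (nat_lit 0xac04)), (unp (nat_lit 2) (nat_lit 0xae04)), (unp (nat_lit 3) (nat_lit 0x49c04)), (unp (nat_lit 3) (nat_lit 0x4a204)), (unp (nat_lit 3) (nat_lit 0x4a404)), (unp (nat_lit 3) (nat_lit 0x50104)), (unp (nat_lit 3) (nat_lit 0x50c04)), (unp (nat_lit 3) (nat_lit 0x51304)), (unp (nat_lit 3) (nat_lit 0x51904)), (unp (nat_lit 3) (nat_lit 0x51a04)), (unp (nat_lit 3) (nat_lit 0x51b04)), (unp (nat_lit 3) (nat_lit 0x51c04)), (unp (nat_lit 3) (nat_lit 0x52404)), (unp (nat_lit 2) (nat_lit 0xc704)), (unp (nat_lit 3) (nat_lit 0x62104)), (unp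 (nat_lit 3) (nat_lit 0x62404)), (unp (nat_lit 2) (nat_lit 0xd004)), (unp (nat_lit 2) (nat_lit 0xd204)), (unp (nat_lit 2) (nat_lit 0xdd04)), (unp (nat_lit 2) (nat_lit 0xde04)), (unp (nat_lit 2) (nat_lit 0xdf04)), (unp (nat_lit 2) (nat_lit 0xe004)), (unp (nat_lit 2) (nat_lit 0xe104)), (unp (nat_lit 2) (nat_lit 0xe304)), (unp (nat_lit 2) (nat_lit 0xe804)), (unp (nat_lit 2) (nat_lit 0xeb04)), (unp (nat_lit 3) (nat_lit 0x6a004)), (unp (nat_lit 3) (nat_lit 0x6a304)), (unp (nat_lit 3) (nat_lit 0x6a404)), (unp (nat_lit 2) (nat_lit 0xf104)), (unp (nat_lit 2) (nat_lit 0xf204)), (unp (nat_lit 2) (nat_lit 0xf804)), (unp (nat_lit 2) (nat_lit 0xfd04)), (unp (nat_lit 3) (nat_lit 0x6e204)), (unp (nat_lit 3) (nat_lit 0x70004)), (unp (nat_lit 3) (nat_lit 0x70204)), (unp (nat_lit 3) (nat_lit 0x70404)), (unp (nat_lit 3) (nat_lit 0x71904)), (unp (nat_lit 3) (nat_lit 0x72104)), (unp (nat_lit 3) (nat_lit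 0x81b04)), (unp (nat_lit 3) (nat_lit 0x8ca04)), (unp (nat_lit 3) (nat_lit 0x8d904)), (unp (nat_lit 3) (nat_lit 0x8e004)), (unp (nat_lit 3) (nat_lit 1029)), (unp (nat_lit 2) (nat_lit 3333)), (unp (nat_lit 3) (nat_lit 0x6305)), (unp (nat_lit 2) (nat_lit 0x2005)), (unp (nat_lit 3) (nat_lit 0x9c05)), (unp (nat_lit 3) (nat_lit 0x10b05)), (unp (nat_lit 3) (nat_lit 0x11305)), (unp (nat_lit 3) (nat_lit 0x11405)), (unp (nat_lit 3) (nat_lit 0x11905)), (unp (nat_lit 3) (nat_lit 0x11b05)), (unp (nat_lit 2) (nat_lit 0x4e05)), (unp (nat_lit 2) (nat_lit 0x5d05)), (unp (nat_lit 3) (nat_lit 0x26105)), (unp (nat_lit 3) (nat_lit 0x2a305)), (unp (nat_lit 3) (nat_lit 0x30405)), (unp (nat_lit 2) (nat_lit 0xa805)), (unp (nat_lit 2) (nat_lit 0xaa05)), (unp (nat_lit 3) (nat_lit 0x4a105)), (unp (nat_lit 3) (nat_lit 0x4a305)), (unp (nat_lit 3) (nat_lit 0x4a405)), (unp (nat_lit 3) (nat_lit 0x50105)), (unp (nat_lit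 2) (nat_lit 0xdb05)), (unp (nat_lit 3) (nat_lit 0x66405)), (unp (nat_lit 3) (nat_lit 0x6a105)), (unp (nat_lit 2) (nat_lit 0xf805)), (unp (nat_lit 3) (nat_lit 0x70005)), (unp (nat_lit 3) (nat_lit 0x91205)), (unp (nat_lit 2) (nat_lit 0x15e05)), (unp (nat_lit 2) (nat_lit 0x17d05)), (unp (nat_lit 2) (nat_lit 0x1ba05)), (unp (nat_lit 3) (nat_lit 0x16d405)), (unp (nat_lit 3) (nat_lit 0x181405)), (unp (nat_lit 3) (nat_lit 0x18e005)), (unp (nat_lit 2) (nat_lit 0x20d05)), (unp (nat_lit 3) (nat_lit 0x205405)), (unp (nat_lit 3) (nat_lit 0x20e105))],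
  [[(nat_lit 1, []), (nat_lit 6, []), (nat_lit 11, []), (nat_lit 16, []), (nat_lit 19, []), (nat_lit 24, []), (nat_lit 27, []), (nat_lit 32, []), (nat_lit 37, []), (nat_lit 17, (unp (nat_lit 5) (nat_lit 0xfdeacd524a609))), (nat_lit 2, (unp (nat_lit 5) (nat_lit 0xf7ef78d4e6c595260d))), (nat_lit 48, []), (nat_lit 3, []), (nat_lit 4, []), (nat_lit 21, (unp (nat_lit 5) (nat_lit 0x3dfbc522d614e90b))), (nat_lit 59, []), (nat_lit 63, []), (nat_lit 66, []), (nat_lit 70, []), (nat_lit 29, (unp (nat_lit 5) (nat_lit 0x1bde276698e509))), (nat_lit 78, []), (nat_lit 80, []), (nat_lit 83, []), (nat_lit 87, []), (nat_lit 34, [nat_lit 5]), (nat_lit 0, (unp (nat_lit 5) (nat_lit 0x1f8cd6f15ad460a))), (nat_lit 38, (unp (nat_lit 5) (nat_lit 0x31a9ad4d315050a))), (nat_lit 96, []), (nat_lit 100, []), (nat_lit 104, []), (nat_lit 31, (unp (nat_lit 5) (nat_lit 0x3f78d4ed38a96b315060f))), (nat_lit 47, (unp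 (nat_lit 5) (nat_lit 0x7ef78d4eea5a1280c))), (nat_lit 33, (unp (nat_lit 5) (nat_lit 0xfdef19ad62b29d050d))), (nat_lit 8, []), (nat_lit 9, []), (nat_lit 119, (unp (nat_lit 5) (nat_lit 0x1f8d4ed6521060a))), (nat_lit 123, []), (nat_lit 124, []), (nat_lit 126, []), (nat_lit 12, (unp (nat_lit 5) (nat_lit 0x1fbdd22b535090a))), (nat_lit 131, []), (nat_lit 25, (unp (nat_lit 5) (nat_lit 0xfdeacd524a609))), (nat_lit 26, (unp (nat_lit 5) (nat_lit 0xfdeacd524a609))), (nat_lit 138, []), (nat_lit 142, []), (nat_lit 39, []), (nat_lit 127, (unp (nat_lit 5) (nat_lit 0x7bf78d4e74898a60c))), (nat_lit 149, []), (nat_lit 154, []), (nat_lit 108, (unp (nat_lit 5) (nat_lit 0xde336a298a294e70c))), (nat_lit 79, (unp (nat_lit 5) (nat_lit 0x1f8b4d4b6a1260a))), (nat_lit 13, []), (nat_lit 14, []), (nat_lit 130, (unp (nat_lit 5) (nat_lit 0x7e337b454a29ca50c))), (nat_lit 60, (unp (nat_lit 5) (nat_lit 0x13a296b314a709))),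 (nat_lit 165, []), (nat_lit 107, (unp (nat_lit 5) (nat_lit 0xfc6ab48b4a909))), (nat_lit 62, (unp (nat_lit 5) (nat_lit 0x3f7bc6a77b456a6a1080f))), (nat_lit 144, (unp (nat_lit 5) (nat_lit 0x7ef35ac54c620e50c))), (nat_lit 175, []), (nat_lit 55, []), (nat_lit 56, []), (nat_lit 22, (unp (nat_lit 5) (nat_lit 0x1f8ad62c5a1090a))), (nat_lit 81, (unp (nat_lit 5) (nat_lit 0x319bd98a594a80a))), (nat_lit 183, []), (nat_lit 186, []), (nat_lit 189, []), (nat_lit 193, []), (nat_lit 196, []), (nat_lit 15, (unp (nat_lit 5) (nat_lit 0x3df6ab14a2a4c90b))), (nat_lit 40, (unp (nat_lit 5) (nat_lit 0x1efdef1a9daca6a0e50e))), (nat_lit 67, []), (nat_lit 68, []), (nat_lit 202, (unp (nat_lit 5) (nat_lit 0x3dfbcd6aa52ce80b))), (nat_lit 197, (unp (nat_lit 5) (nat_lit 0xf7ef75aa98a31ca90d))), (nat_lit 101, (unp (nat_lit 5) (nat_lit 0x1bde276698e509))), (nat_lit 102, (unp (nat_lit 5) (nat_lit 0x1bde276698e509))),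 (nat_lit 54, (unp (nat_lit 5) (nat_lit 0x7bf78b562c528e90c))), (nat_lit 212, []), (nat_lit 145, (unp (nat_lit 5) (nat_lit 0xdef199da6a5b4e60c))), (nat_lit 217, []), (nat_lit 220, []), (nat_lit 222, []), (nat_lit 139, (unp (nat_lit 5) (nat_lit 0xad62a5aca608))), (nat_lit 227, []), (nat_lit 44, (unp (nat_lit 5) (nat_lit 0x37bcd695630e90a))), (nat_lit 89, (unp (nat_lit 5) (nat_lit 0x6337aa98c315050b))), (nat_lit 230, []), (nat_lit 224, (unp (nat_lit 5) (nat_lit 0x63546a8a907))), (nat_lit 194, (unp (nat_lit 5) (nat_lit 0x18bb4c605))), (nat_lit 116, [nat_lit 5]), (nat_lit 117, [nat_lit 5]), (nat_lit 46, (unp (nat_lit 5) (nat_lit 0x3dfbde353b456a599090f))), (nat_lit 45, (unp (nat_lit 5) (nat_lit 0x31a9ad4d315050a))), (nat_lit 228, (unp (nat_lit 5) (nat_lit 0x6f7459ca707))), (nat_lit 238, []), (nat_lit 73, (unp (nat_lit 5) (nat_lit 0x1fbde333bd9ac321070e))), (nat_lit 10, (unp (nat_lit 5)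 (nat_lit 0x3df15a90707))), (nat_lit 112, (unp (nat_lit 5) (nat_lit 0x6353b454c614a80b))), (nat_lit 72, (unp (nat_lit 5) (nat_lit 0x378d4ed3521260a))), (nat_lit 236, (unp (nat_lit 5) (nat_lit 0x3df8cda2b6a1260b))), (nat_lit 30, []), (nat_lit 163, (unp (nat_lit 5) (nat_lit 0x7bf37b314b321070c))), (nat_lit 171, (unp (nat_lit 5) (nat_lit 0x7bf7bcce71595080c))), (nat_lit 242, []), (nat_lit 93, (unp (nat_lit 5) (nat_lit 0xf7ef78d56b15aca50d))), (nat_lit 160, (unp (nat_lit 5) (nat_lit 0x7ef55ac58a5a0e50c))), (nat_lit 159, (unp (nat_lit 5) (nat_lit 0x3f369c56d294e60b))), (nat_lit 42, (unp (nat_lit 5) (nat_lit 0x1efde277b454b694e50e))), (nat_lit 105, []), (nat_lit 106, []), (nat_lit 188, (unp (nat_lit 5) (nat_lit 0xf7e333a458a51d080d))), (nat_lit 167, (unp (nat_lit 5) (nat_lit 0x7ef336a90908))), (nat_lit 208, (unp (nat_lit 5) (nat_lit 0x3f7bc6aed61ca90b))), (nat_lit 88, (unp (nat_lit 5) (nat_lit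 0x7e2f161ce908))), (nat_lit 113, (unp (nat_lit 5) (nat_lit 0x3dfbc4ed38adaa314a70f))), (nat_lit 35, []), (nat_lit 162, (unp (nat_lit 5) (nat_lit 0x3f79b522c52ca60b))), (nat_lit 129, (unp (nat_lit 5) (nat_lit 0x3f7bc6af68a8c50b))), (nat_lit 207, (unp (nat_lit 5) (nat_lit 0x7bf78d52cb534e70c))), (nat_lit 77, (unp (nat_lit 5) (nat_lit 0x7eaea04))), (nat_lit 5, (unp (nat_lit 5) (nat_lit 0x1f8cce8b694c70a))), (nat_lit 136, (unp (nat_lit 5) (nat_lit 0x1f8bd62d598a70a))), (nat_lit 122, (unp (nat_lit 5) (nat_lit 0x6f54b458b39d260b))), (nat_lit 161, (unp (nat_lit 5) (nat_lit 0xfbc5aa418e509))), (nat_lit 90, (unp (nat_lit 5) (nat_lit 0x19ad62a6290909))), (nat_lit 132, (unp (nat_lit 5) (nat_lit 0x3dfbd4d4c519080b))), (nat_lit 254, []), (nat_lit 82, (unp (nat_lit 5) (nat_lit 0x1fbc6a76b314a295070e))), (nat_lit 184, (unp (nat_lit 5) (nat_lit 0x3dfaaa96d318a80b))), (nat_lit 169, (unp (nat_lit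 5) (nat_lit 0x3f2503))), (nat_lit 103, (unp (nat_lit 5) (nat_lit 0xdef4b694e608))), (nat_lit 20, (unp (nat_lit 5) (nat_lit 0x1efc6a6a69d050a))), (nat_lit 43, []), (nat_lit 121, (unp (nat_lit 5) (nat_lit 0x3dfbc6ab4ac56d525090f))), (nat_lit 57, (unp (nat_lit 5) (nat_lit 0x7d22a6210908))), (nat_lit 53, (unp (nat_lit 5) (nat_lit 0x1fbde6778ad6a315050e))), (nat_lit 210, (unp (nat_lit 5) (nat_lit 0x1fbd4eed5a0c80a))), (nat_lit 248, (unp (nat_lit 5) (nat_lit 0xde6ab5a90808))), (nat_lit 259, (unp (nat_lit 5) (nat_lit 0xf7ef73bda2c52ca50d))), (nat_lit 263, []), (nat_lit 118, (unp (nat_lit 5) (nat_lit 0x3789d291521090a))), (nat_lit 264, []), (nat_lit 135, []), (nat_lit 111, (unp (nat_lit 5) (nat_lit 0x148a12605))), (nat_lit 258, (unp (nat_lit 5) (nat_lit 0xf7ef78b4dab314a70d))), (nat_lit 187, (unp (nat_lit 5) (nat_lit 0xfdee916aca609))), (nat_lit 240, (unp (nat_lit 5) (nat_lit 0x3dfbc6674a456a594e80f))),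 (nat_lit 120, (unp (nat_lit 5) (nat_lit 0xc6676b20c708))), (nat_lit 253, (unp (nat_lit 5) (nat_lit 0x7ef339d22c518a90c))), (nat_lit 146, []), (nat_lit 147, []), (nat_lit 247, (unp (nat_lit 5) (nat_lit 0xfdef1aad62a518c70d))), (nat_lit 190, (unp (nat_lit 5) (nat_lit 0xfc6a73630a909))), (nat_lit 92, (unp (nat_lit 5) (nat_lit 0x1efdef13b296b418e50e))), (nat_lit 133, (unp (nat_lit 5) (nat_lit 0xf7ef17ac58a595070d))), (nat_lit 52, []), (nat_lit 192, (unp (nat_lit 5) (nat_lit 0x3dfbde353a45ab2a4c80f))), (nat_lit 7, (unp (nat_lit 5) (nat_lit 0x6f6b2950507))), (nat_lit 209, (unp (nat_lit 5) (nat_lit 0x355a454c29cc70a))), (nat_lit 200, (unp (nat_lit 5) (nat_lit 0x6355a458a5a1280b))), (nat_lit 76, (unp (nat_lit 5) (nat_lit 0xf7ef78d5691618a90d))), (nat_lit 71, (unp (nat_lit 5) (nat_lit 0x1efdee91594e50a))), (nat_lit 158, []), (nat_lit 41, (unp (nat_lit 5) (nat_lit 0x63339c58807))), (nat_lit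 245, (unp (nat_lit 5) (nat_lit 0x18d522d618a709))), (nat_lit 61, (unp (nat_lit 5) (nat_lit 0x37bcce71594e50a))), (nat_lit 214, (unp (nat_lit 5) (nat_lit 0xf7ef365a8c509))), (nat_lit 50, (unp (nat_lit 5) (nat_lit 0x6f799ce8b6a8e60b))), (nat_lit 58, []), (nat_lit 137, (unp (nat_lit 5) (nat_lit 0xde32b5a50608))), (nat_lit 203, (unp (nat_lit 5) (nat_lit 0xfd5a91294e709))), (nat_lit 221, (unp (nat_lit 5) (nat_lit 0xdd2b152d2608))), (nat_lit 110, (unp (nat_lit 5) (nat_lit 0x1f9ade2a620c90a))), (nat_lit 250, (unp (nat_lit 5) (nat_lit 0x3dfbad14b29d280b))), (nat_lit 74, (unp (nat_lit 5) (nat_lit 0x1bd56955150809))), (nat_lit 84, (unp (nat_lit 5) (nat_lit 0x7ef1ab4e2b69ce60c))), (nat_lit 85, (unp (nat_lit 5) (nat_lit 0x7ef1ab4e2b69ce60c))), (nat_lit 51, (unp (nat_lit 5) (nat_lit 0xfdea76b2d6a315050d))), (nat_lit 271, []), (nat_lit 69, (unp (nat_lit 5) (nat_lit 0x1fbc4eea518c60a))), (nat_lit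 256, (unp (nat_lit 5) (nat_lit 0x1efdef199d28b5a0c90e))), (nat_lit 213, (unp (nat_lit 5) (nat_lit 0x3df8d522d61ca90b))), (nat_lit 211, (unp (nat_lit 5) (nat_lit 0x18cd22a52d0609))), (nat_lit 65, []), (nat_lit 182, (unp (nat_lit 5) (nat_lit 0x3dfbc66b1629670b))), (nat_lit 153, (unp (nat_lit 5) (nat_lit 0x1efd4e748a98a314a50e))), (nat_lit 251, (unp (nat_lit 5) (nat_lit 0x3df89d18a2a1080b))), (nat_lit 36, (unp (nat_lit 5) (nat_lit 0x7ef1a9da716b0e80c))), (nat_lit 198, (unp (nat_lit 5) (nat_lit 0x37bc6aec2a4c90a))), (nat_lit 140, (unp (nat_lit 5) (nat_lit 0x7bf7bcceed518a80c))), (nat_lit 151, (unp (nat_lit 5) (nat_lit 0x6f13a298d418e50b))), (nat_lit 176, (unp (nat_lit 5) (nat_lit 0xdeab58ad4d29d070c))), (nat_lit 99, (unp (nat_lit 5) (nat_lit 0x7ef14b45ab321070c))), (nat_lit 23, (unp (nat_lit 5) (nat_lit 0xdef19b554b59d050c))), (nat_lit 125, (unp (nat_lit 5) (nat_lit 0xfdef199ce91530a60d))),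 (nat_lit 215, (unp (nat_lit 5) (nat_lit 0xfdef199cd6b514e50d))), (nat_lit 225, (unp (nat_lit 5) (nat_lit 0x7bf78ade2b521060c))), (nat_lit 239, (unp (nat_lit 5) (nat_lit 0xde274a454c618c60c))), (nat_lit 195, []), (nat_lit 64, (unp (nat_lit 5) (nat_lit 0xfde22a5ace709))), (nat_lit 229, (unp (nat_lit 5) (nat_lit 0x7bf19bd62a634c80c))), (nat_lit 273, (unp (nat_lit 5) (nat_lit 0x319ad62d521080a))), (nat_lit 246, (unp (nat_lit 5) (nat_lit 0x1fbdce2c295060a))), (nat_lit 172, (unp (nat_lit 5) (nat_lit 0xfdd2ca5ad0909))), (nat_lit 223, (unp (nat_lit 5) (nat_lit 0xcd68a59ce708))), (nat_lit 98, (unp (nat_lit 5) (nat_lit 0x3f7a9da6b598a80b))), (nat_lit 252, (unp (nat_lit 5) (nat_lit 0x7bf33b5a2b6a9280c))), (nat_lit 243, (unp (nat_lit 5) (nat_lit 0x3dfbdeab75b4c80b))), (nat_lit 179, (unp (nat_lit 5) (nat_lit 0x7ef139d22b5a1060c))), (nat_lit 178, (unp (nat_lit 5) (nat_lit 0xfdef539d22d51ca80d))),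 (nat_lit 114, (unp (nat_lit 5) (nat_lit 0x1bd5eac5992609))), (nat_lit 216, (unp (nat_lit 5) (nat_lit 0x7ef78cdeb1620e60c))), (nat_lit 143, (unp (nat_lit 5) (nat_lit 0xfde274630c809))), (nat_lit 152, (unp (nat_lit 5) (nat_lit 0x3f7aa456d515090b))), (nat_lit 91, (unp (nat_lit 5) (nat_lit 0xdef1aadd4b698a90c))), (nat_lit 49, (unp (nat_lit 5) (nat_lit 0x3dfbdea716a9050b))), (nat_lit 177, (unp (nat_lit 5) (nat_lit 0x7ef789cd8a599060c))), (nat_lit 237, (unp (nat_lit 5) (nat_lit 0x3dfbc6676694e60b))), (nat_lit 155, (unp (nat_lit 5) (nat_lit 0x7e3348a94b315060c))), (nat_lit 109, (unp (nat_lit 5) (nat_lit 0xfde2f65990609))), (nat_lit 244, (unp (nat_lit 5) (nat_lit 0xfdeeb16312509))), (nat_lit 233, (unp (nat_lit 5) (nat_lit 0x1fbc34e706))), (nat_lit 272, (unp (nat_lit 5) (nat_lit 0x3789de2b514c70a))), (nat_lit 173, (unp (nat_lit 5) (nat_lit 0x6f78d5a2a595080b))), (nat_lit 231, (unp (nat_lit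 5) (nat_lit 0x6f35b454a318a70b))), (nat_lit 141, (unp (nat_lit 5) (nat_lit 0x7bf79ad2aa52d080c))), (nat_lit 235, (unp (nat_lit 5) (nat_lit 0x7bf13b4d4c29cc70c))), (nat_lit 201, (unp (nat_lit 5) (nat_lit 0x3f1aa59aa318a80b))), (nat_lit 128, (unp (nat_lit 5) (nat_lit 0x7e3539d14c6a0e50c))), (nat_lit 249, (unp (nat_lit 5) (nat_lit 0x3799ded16b0a90a))), (nat_lit 95, (unp (nat_lit 5) (nat_lit 0x3f7bcceca5a0c70b))), (nat_lit 270, (unp (nat_lit 5) (nat_lit 0x1efdef17ab1070a))), (nat_lit 28, (unp (nat_lit 5) (nat_lit 0x7e336598a908))), (nat_lit 199, (unp (nat_lit 5) (nat_lit 0x18bb4c605))), (nat_lit 168, (unp (nat_lit 5) (nat_lit 0x1efde3569c54b29d070e))), (nat_lit 94, []), (nat_lit 219, (unp (nat_lit 5) (nat_lit 0x1fbd5ab1521260a))), (nat_lit 180, (unp (nat_lit 5) (nat_lit 0xfdea743210509))), (nat_lit 134, (unp (nat_lit 5) (nat_lit 0xde353a2d4b29d080c))), (nat_lit 266, (unp (nat_lit 5)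 (nat_lit 0x7bf78cdeaa634e80c))), (nat_lit 265, [nat_lit 6]), (nat_lit 170, (unp (nat_lit 5) (nat_lit 0x7bf53b298a29cc70c))), (nat_lit 86, (unp (nat_lit 5) (nat_lit 0x3df8d2d6a314a70b))), (nat_lit 75, (unp (nat_lit 5) (nat_lit 0x3f789ce8a599090b))), (nat_lit 260, (unp (nat_lit 5) (nat_lit 0xd56aa52cc808))), (nat_lit 274, (unp (nat_lit 5) (nat_lit 0xf7e6b4528a809))), (nat_lit 181, (unp (nat_lit 5) (nat_lit 0x3f199de2b29d070b))), (nat_lit 205, (unp (nat_lit 5) (nat_lit 0x7ef199da2a5aca50c))), (nat_lit 115, (unp (nat_lit 5) (nat_lit 0x3f34b454c518c50b))), (nat_lit 166, (unp (nat_lit 5) (nat_lit 0x18cda8a61ca709))), (nat_lit 241, (unp (nat_lit 5) (nat_lit 0x66738a98a315050b))), (nat_lit 268, (unp (nat_lit 5) (nat_lit 0x1efde6748b14a315050e))), (nat_lit 204, (unp (nat_lit 5) (nat_lit 0xf7e2eb69ca809))), (nat_lit 257, (unp (nat_lit 5) (nat_lit 0x3f75614a807))), (nat_lit 267, (unp (nat_lit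 5) (nat_lit 0x1b9d22b5a12609))), (nat_lit 255, []), (nat_lit 97, (unp (nat_lit 5) (nat_lit 0x1bdeab1618c609))), (nat_lit 157, (unp (nat_lit 5) (nat_lit 0x18d4ecc52ce609))), (nat_lit 185, (unp (nat_lit 5) (nat_lit 0x1efdef575b5060a))), (nat_lit 269, (unp (nat_lit 5) (nat_lit 0x1bb4d4b594e509))), (nat_lit 148, (unp (nat_lit 5) (nat_lit 0x333a518c29d280a))), (nat_lit 174, (unp (nat_lit 5) (nat_lit 0xfc6a955a9a909))), (nat_lit 226, (unp (nat_lit 5) (nat_lit 0x3f35ac56a6a0e90b))), (nat_lit 156, (unp (nat_lit 5) (nat_lit 0x7bf75a55aa294e60c))), (nat_lit 191, (unp (nat_lit 5) (nat_lit 0xfc6a73630a909))), (nat_lit 150, (unp (nat_lit 5) (nat_lit 0xfc4eca5b4e909))), (nat_lit 206, (unp (nat_lit 5) (nat_lit 0x3778a98a29cc70a))), (nat_lit 234, (unp (nat_lit 5) (nat_lit 0x1fbc4e94531050a))), (nat_lit 261, (unp (nat_lit 5) (nat_lit 0xfaa94b2950509))), (nat_lit 18, (unp (nat_lit 5) (nat_lit 0x3199d14c620e50a))),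 (nat_lit 262, (unp (nat_lit 5) (nat_lit 0x3f748b14b314a70b))), (nat_lit 218, (unp (nat_lit 5) (nat_lit 0x7bf7b9d22a594a80c))), (nat_lit 164, (unp (nat_lit 5) (nat_lit 0xfc4e8c520c809))), (nat_lit 232, (unp (nat_lit 5) (nat_lit 0x1fbc6a76b29a80a)))],
  [(nat_lit 2, []), (nat_lit 7, []), (nat_lit 12, []), (nat_lit 5, []), (nat_lit 20, []), (nat_lit 9, (unp (nat_lit 5) (nat_lit 0xfdef55ab14a314a50d))), (nat_lit 28, []), (nat_lit 33, []), (nat_lit 10, []), (nat_lit 41, []), (nat_lit 26, (unp (nat_lit 5) (nat_lit 0x378d554c299090a))), (nat_lit 49, []), (nat_lit 51, []), (nat_lit 15, []), (nat_lit 57, []), (nat_lit 60, []), (nat_lit 64, []), (nat_lit 18, []), (nat_lit 71, []), (nat_lit 75, []), (nat_lit 14, (unp (nat_lit 5) (nat_lit 0xfde2b16a90709))), (nat_lit 23, []), (nat_lit 59, (unp (nat_lit 5) (nat_lit 0x3f7bcc54b29d070b))), (nat_lit 63, (unp (nat_lit 5) (nat_lit 0x1efde353a518a595080e))),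 (nat_lit 90, []), (nat_lit 25, (unp (nat_lit 5) (nat_lit 0x6f19a5a2a618a60b))), (nat_lit 93, []), (nat_lit 97, []), (nat_lit 19, (unp (nat_lit 5) (nat_lit 0x1efde333bc58a598e50e))), (nat_lit 31, []), (nat_lit 107, []), (nat_lit 109, []), (nat_lit 113, []), (nat_lit 24, (unp (nat_lit 5) (nat_lit 0x34b5192806))), (nat_lit 36, []), (nat_lit 121, []), (nat_lit 35, (unp (nat_lit 5) (nat_lit 0x1fbdea77b458a598a70e))), (nat_lit 125, []), (nat_lit 40, []), (nat_lit 129, []), (nat_lit 46, (unp (nat_lit 5) (nat_lit 0xf7ef78ad22b52ce50d))), (nat_lit 108, (unp (nat_lit 5) (nat_lit 0xfd522c2a10809))), (nat_lit 44, []), (nat_lit 139, []), (nat_lit 143, []), (nat_lit 47, []), (nat_lit 148, []), (nat_lit 150, []), (nat_lit 50, (unp (nat_lit 5) (nat_lit 0xde353a456a598e50c))), (nat_lit 11, (unp (nat_lit 5) (nat_lit 0x3f53bd98a594e50b))), (nat_lit 1, (unp (nat_lit 5) (nat_lit 0x7bf7a9ce8a620c80c))),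 (nat_lit 156, []), (nat_lit 54, []), (nat_lit 160, []), (nat_lit 163, []), (nat_lit 52, (unp (nat_lit 5) (nat_lit 0x7bf195314908))), (nat_lit 110, (unp (nat_lit 5) (nat_lit 0x1bdeacd6150709))), (nat_lit 168, []), (nat_lit 172, []), (nat_lit 176, []), (nat_lit 166, (unp (nat_lit 5) (nat_lit 0x37bc6a76b14c80a))), (nat_lit 0, (unp (nat_lit 5) (nat_lit 0xfc66916a92609))), (nat_lit 66, (unp (nat_lit 5) (nat_lit 0x7bf7ab458a520c70c))), (nat_lit 180, []), (nat_lit 39, (unp (nat_lit 5) (nat_lit 0x7bf13bd9aa29ca50c))), (nat_lit 45, (unp (nat_lit 5) (nat_lit 0x7bf7ba594b6a5060c))), (nat_lit 151, (unp (nat_lit 5) (nat_lit 0x1bcce748a90809))), (nat_lit 69, []), (nat_lit 72, (unp (nat_lit 5) (nat_lit 0xfdef14b454b5a5090d))), (nat_lit 89, (unp (nat_lit 5) (nat_lit 0x3dfbac54a29d050b))), (nat_lit 201, []), (nat_lit 99, (unp (nat_lit 5) (nat_lit 0x1bde356a2daa295080d))), (nat_lit 74, []), (nat_lit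 204, []), (nat_lit 101, (unp (nat_lit 5) (nat_lit 0x3f78ab0e907))), (nat_lit 161, (unp (nat_lit 5) (nat_lit 0x3eeb5a0c807))), (nat_lit 77, []), (nat_lit 210, []), (nat_lit 114, (unp (nat_lit 5) (nat_lit 0xdef19bc58a514e90c))), (nat_lit 214, []), (nat_lit 218, []), (nat_lit 82, []), (nat_lit 73, (unp (nat_lit 5) (nat_lit 0x3df7b458a520c90b))), (nat_lit 225, []), (nat_lit 86, []), (nat_lit 228, []), (nat_lit 70, (unp (nat_lit 5) (nat_lit 0xde333b5a2a520e90c))), (nat_lit 83, (unp (nat_lit 5) (nat_lit 0xdead48a96708))), (nat_lit 233, []), (nat_lit 234, []), (nat_lit 215, (unp (nat_lit 5) (nat_lit 0x37bcdecb51d280a))), (nat_lit 53, (unp (nat_lit 5) (nat_lit 0xf7d2ab69ce609))), (nat_lit 95, (unp (nat_lit 5) (nat_lit 0xfc666b3150509))), (nat_lit 154, (unp (nat_lit 5) (nat_lit 0x7e334ab14b314a70c))), (nat_lit 237, []), (nat_lit 102, (unp (nat_lit 5) (nat_lit 0x1bd454b598a709))), (nat_lit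 202, (unp (nat_lit 5) (nat_lit 0x1fbde333bd9ac321070e))), (nat_lit 162, (unp (nat_lit 5) (nat_lit 0x6f168a94b295070b))), (nat_lit 240, []), (nat_lit 27, (unp (nat_lit 5) (nat_lit 0x15a454a5a0e509))), (nat_lit 37, (unp (nat_lit 5) (nat_lit 0x3f7bcce6b29ca50b))), (nat_lit 103, []), (nat_lit 84, (unp (nat_lit 5) (nat_lit 0x1efdee769c56a6a5060e))), (nat_lit 175, (unp (nat_lit 5) (nat_lit 0x1fab456d298e70a))), (nat_lit 126, (unp (nat_lit 5) (nat_lit 0x1bc6af16a0c709))), (nat_lit 92, (unp (nat_lit 5) (nat_lit 0x7bf79a598a321070c))), (nat_lit 220, (unp (nat_lit 5) (nat_lit 0x1efde277b2daa298e70e))), (nat_lit 164, (unp (nat_lit 5) (nat_lit 0x3f369c56d294e60b))), (nat_lit 155, (unp (nat_lit 5) (nat_lit 0x3dfbdd62d61d260b))), (nat_lit 173, (unp (nat_lit 5) (nat_lit 0xfc5d8a5a0e609))), (nat_lit 112, []), (nat_lit 247, []), (nat_lit 242, (unp (nat_lit 5) (nat_lit 0x37bcd695535060a))), (nat_lit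 115, (unp (nat_lit 5) (nat_lit 0x7bf7b9ce91629690c))), (nat_lit 182, (unp (nat_lit 5) (nat_lit 0xfdef339d22a525060d))), (nat_lit 183, (unp (nat_lit 5) (nat_lit 0x3f14b454c698c60b))), (nat_lit 118, []), (nat_lit 250, []), (nat_lit 251, []), (nat_lit 120, []), (nat_lit 119, (unp (nat_lit 5) (nat_lit 0x1efdef34b456a6a0c70e))), (nat_lit 34, (unp (nat_lit 5) (nat_lit 0x1efde28a5aca60a))), (nat_lit 145, (unp (nat_lit 5) (nat_lit 0x1f8bd62d598a70a))), (nat_lit 169, (unp (nat_lit 5) (nat_lit 0x1f8d4e948a98a299090e))), (nat_lit 91, (unp (nat_lit 5) (nat_lit 0xf7ef799d2915a8a50d))), (nat_lit 8, (unp (nat_lit 5) (nat_lit 0x3f35bb14507))), (nat_lit 4, (unp (nat_lit 5) (nat_lit 0x37bd56cc594c70a))), (nat_lit 128, []), (nat_lit 256, []), (nat_lit 158, (unp (nat_lit 5) (nat_lit 0x6f78a562a594a70b))), (nat_lit 104, (unp (nat_lit 5) (nat_lit 0xf7d68b69ca709))), (nat_lit 259, []), (nat_lit 138, (unp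 (nat_lit 5) (nat_lit 0x1faad62a69ce70a))), (nat_lit 134, []), (nat_lit 243, (unp (nat_lit 5) (nat_lit 0x6f53bda2c61ce70b))), (nat_lit 137, []), (nat_lit 131, (unp (nat_lit 5) (nat_lit 0xfdef19ad2aa594a50d))), (nat_lit 262, []), (nat_lit 177, (unp (nat_lit 5) (nat_lit 0x7bf7bad96a29d280c))), (nat_lit 190, (unp (nat_lit 5) (nat_lit 0xfc6a958a98a29d080d))), (nat_lit 141, []), (nat_lit 133, (unp (nat_lit 5) (nat_lit 0x7bf539d22c51ce90c))), (nat_lit 252, (unp (nat_lit 5) (nat_lit 0x13b454a05))), (nat_lit 123, (unp (nat_lit 5) (nat_lit 0x1fb9decb52d280a))), (nat_lit 205, (unp (nat_lit 5) (nat_lit 0x5ecc5950907))), (nat_lit 61, (unp (nat_lit 5) (nat_lit 0x1fbb562c59ca70a))), (nat_lit 13, (unp (nat_lit 5) (nat_lit 0xd562c620c908))), (nat_lit 179, (unp (nat_lit 5) (nat_lit 0x1bde6b4aad4d318a80d))), (nat_lit 38, (unp (nat_lit 5) (nat_lit 0x7bf1aad2ac521080c))), (nat_lit 188, (unp (nat_lit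 5) (nat_lit 0xfdee916aca609))), (nat_lit 191, (unp (nat_lit 5) (nat_lit 0x7bf78d596a69d050c))), (nat_lit 153, []), (nat_lit 209, (unp (nat_lit 5) (nat_lit 0x199ce2b52cc609))), (nat_lit 241, (unp (nat_lit 5) (nat_lit 0xdef13b4e2b521280c))), (nat_lit 100, (unp (nat_lit 5) (nat_lit 0x4eec5990507))), (nat_lit 212, (unp (nat_lit 5) (nat_lit 0x1fbde6738b14a2a4c80e))), (nat_lit 122, (unp (nat_lit 5) (nat_lit 0x7ef78b562a520e60c))), (nat_lit 98, (unp (nat_lit 5) (nat_lit 0x37bc66b56a8e80a))), (nat_lit 136, (unp (nat_lit 5) (nat_lit 0x7bf2c51ce708))), (nat_lit 87, (unp (nat_lit 5) (nat_lit 0x37a9ad6a314a70a))), (nat_lit 124, (unp (nat_lit 5) (nat_lit 0x1bddd8a514e809))), (nat_lit 30, (unp (nat_lit 5) (nat_lit 0x1f8cce8d514e50a))), (nat_lit 267, []), (nat_lit 56, (unp (nat_lit 5) (nat_lit 0x7bf369c54b295050c))), (nat_lit 6, (unp (nat_lit 5) (nat_lit 0x7bf78d56d129cc70c))), (nat_lit 195, (unp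 (nat_lit 5) (nat_lit 0x3f7bc66d42a4c90b))), (nat_lit 135, (unp (nat_lit 5) (nat_lit 0x6f19a454b6a0c90b))), (nat_lit 142, (unp (nat_lit 5) (nat_lit 0x3dfbc66738ad4b295060f))), (nat_lit 130, (unp (nat_lit 5) (nat_lit 0x6f19ad62d518c60b))), (nat_lit 171, []), (nat_lit 246, (unp (nat_lit 5) (nat_lit 0x1fbdeab48a94b31ca90e))), (nat_lit 208, (unp (nat_lit 5) (nat_lit 0xfd5a91294e709))), (nat_lit 224, (unp (nat_lit 5) (nat_lit 0xdd2b152d2608))), (nat_lit 58, (unp (nat_lit 5) (nat_lit 0x7e353a514c69ca90c))), (nat_lit 221, (unp (nat_lit 5) (nat_lit 0x3dfbde3539d1ac314a50f))), (nat_lit 266, (unp (nat_lit 5) (nat_lit 0xdd62c61d0808))), (nat_lit 217, (unp (nat_lit 5) (nat_lit 0x3f78d5a2c594e60b))), (nat_lit 62, (unp (nat_lit 5) (nat_lit 0x7bf19a456d524a60c))), (nat_lit 42, (unp (nat_lit 5) (nat_lit 0x3f1a9ce8d614a80b))), (nat_lit 186, (unp (nat_lit 5) (nat_lit 0x37bc56ab5a8a60a))), (nat_lit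 211, (unp (nat_lit 5) (nat_lit 0x1efdef1a9a9670a))), (nat_lit 272, []), (nat_lit 230, (unp (nat_lit 5) (nat_lit 0x7bf78bd98a518c50c))), (nat_lit 265, (unp (nat_lit 5) (nat_lit 0x6e2a5b4e507))), (nat_lit 185, []), (nat_lit 94, (unp (nat_lit 5) (nat_lit 0x6f15b456a594e60b))), (nat_lit 235, (unp (nat_lit 5) (nat_lit 0x3f78d29a907))), (nat_lit 68, (unp (nat_lit 5) (nat_lit 0xfd5a7152d0809))), (nat_lit 274, []), (nat_lit 270, (unp (nat_lit 5) (nat_lit 0x1efcceea5b4c70a))), (nat_lit 192, []), (nat_lit 167, (unp (nat_lit 5) (nat_lit 0xfd56956992609))), (nat_lit 227, (unp (nat_lit 5) (nat_lit 0x378cde2c52ca70a))), (nat_lit 43, (unp (nat_lit 5) (nat_lit 0x1efdee73a456d294e70e))), (nat_lit 149, (unp (nat_lit 5) (nat_lit 0xfde273a456a6a0c90d))), (nat_lit 213, (unp (nat_lit 5) (nat_lit 0x62b4ac56d518a80b))), (nat_lit 78, (unp (nat_lit 5) (nat_lit 0x1f99d16d295070a))), (nat_lit 198, []), (nat_lit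 260, (unp (nat_lit 5) (nat_lit 0x1f8d4ed68a94b321070e))), (nat_lit 200, []), (nat_lit 203, (unp (nat_lit 5) (nat_lit 0x3dfbde2cc52d280b))), (nat_lit 105, (unp (nat_lit 5) (nat_lit 0x1bc56ab59ca709))), (nat_lit 81, (unp (nat_lit 5) (nat_lit 0x1bde334b458c294e70d))), (nat_lit 253, (unp (nat_lit 5) (nat_lit 0x1efcd56b521090a))), (nat_lit 248, (unp (nat_lit 5) (nat_lit 0x1fbde3338a96d29cc70e))), (nat_lit 207, []), (nat_lit 157, (unp (nat_lit 5) (nat_lit 0xdef35a296b08))), (nat_lit 106, (unp (nat_lit 5) (nat_lit 0x7bf19a556a694a80c))), (nat_lit 178, (unp (nat_lit 5) (nat_lit 0x6355a562c621260b))), (nat_lit 249, (unp (nat_lit 5) (nat_lit 0x1fbc6aac51d050a))), (nat_lit 238, (unp (nat_lit 5) (nat_lit 0xdce748a12808))), (nat_lit 152, (unp (nat_lit 5) (nat_lit 0x1fbde3368a98a29d050e))), (nat_lit 236, (unp (nat_lit 5) (nat_lit 0x7bf78cdaab699050c))), (nat_lit 140, (unp (nat_lit 5) (nat_lit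 0x3dfbcdeca315050b))), (nat_lit 196, (unp (nat_lit 5) (nat_lit 0x2d5298e706))), (nat_lit 48, (unp (nat_lit 5) (nat_lit 0x37bd5a71529660a))), (nat_lit 117, (unp (nat_lit 5) (nat_lit 0x18d56ca634a809))), (nat_lit 22, (unp (nat_lit 5) (nat_lit 0x6f78d56d1520c90b))), (nat_lit 80, (unp (nat_lit 5) (nat_lit 0x3f7bd4ef15a9070b))), (nat_lit 88, (unp (nat_lit 5) (nat_lit 0x1ef9da2c51d080a))), (nat_lit 239, (unp (nat_lit 5) (nat_lit 0x7ef199de2d514a70c))), (nat_lit 269, (unp (nat_lit 5) (nat_lit 0x7bf1ab562b598a70c))), (nat_lit 127, (unp (nat_lit 5) (nat_lit 0x6f78d5a6b698c60b))), (nat_lit 229, (unp (nat_lit 5) (nat_lit 0x3dfaad22d31ca90b))), (nat_lit 271, (unp (nat_lit 5) (nat_lit 0x3df8d522c529250b))), (nat_lit 263, (unp (nat_lit 5) (nat_lit 0x6f7aade2b534c80b))), (nat_lit 116, (unp (nat_lit 5) (nat_lit 0xf7ef19b454b595090d))), (nat_lit 111, (unp (nat_lit 5) (nat_lit 0xfd4e942950509))),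 (nat_lit 273, (unp (nat_lit 5) (nat_lit 0x3f7bc6673a458b295080f))), (nat_lit 197, (unp (nat_lit 5) (nat_lit 0x7ef78cce945a8a70c))), (nat_lit 264, (unp (nat_lit 5) (nat_lit 0x7bf51698e508))), (nat_lit 232, []), (nat_lit 223, (unp (nat_lit 5) (nat_lit 0x3df4b45ac29cc70b))), (nat_lit 258, (unp (nat_lit 5) (nat_lit 0x378d56ad5a0e90a))), (nat_lit 76, (unp (nat_lit 5) (nat_lit 0x3dfbde355bc54b698a70f))), (nat_lit 147, (unp (nat_lit 5) (nat_lit 0x7e6738b4c808))), (nat_lit 3, (unp (nat_lit 5) (nat_lit 0x3796310606))), (nat_lit 184, (unp (nat_lit 5) (nat_lit 0x1bd4d6b518e609))), (nat_lit 67, (unp (nat_lit 5) (nat_lit 0x7ef33bc58a5a1280c))), (nat_lit 189, (unp (nat_lit 5) (nat_lit 0x1fbd56aa5b5260a))), (nat_lit 219, (unp (nat_lit 5) (nat_lit 0x1fbddaab6a8e70a))), (nat_lit 132, (unp (nat_lit 5) (nat_lit 0x1bde355a554c514c70d))), (nat_lit 55, (unp (nat_lit 5) (nat_lit 0x1bdead5694e609))), (nat_lit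 165, (unp (nat_lit 5) (nat_lit 0x7ef7ab562c51d260c))), (nat_lit 194, (unp (nat_lit 5) (nat_lit 0xc56cc618a808))), (nat_lit 261, (unp (nat_lit 5) (nat_lit 0xd56aa52cc808))), (nat_lit 244, (unp (nat_lit 5) (nat_lit 0x3f79bd62c52d060b))), (nat_lit 193, (unp (nat_lit 5) (nat_lit 0x1fbde674a458a520c90e))), (nat_lit 255, (unp (nat_lit 5) (nat_lit 0x1efdef35b314b318a80e))), (nat_lit 21, (unp (nat_lit 5) (nat_lit 0x1bdeaf1630a809))), (nat_lit 32, (unp (nat_lit 5) (nat_lit 0x7ef14b456d315050c))), (nat_lit 199, (unp (nat_lit 5) (nat_lit 0x37bd4e94894e60a))), (nat_lit 65, (unp (nat_lit 5) (nat_lit 0x66778b4a507))), (nat_lit 226, (unp (nat_lit 5) (nat_lit 0x6a2a6312807))), (nat_lit 170, (unp (nat_lit 5) (nat_lit 0xfc6aaa59ce909))), (nat_lit 96, (unp (nat_lit 5) (nat_lit 0x1efdeaca5b4c60a))), (nat_lit 222, (unp (nat_lit 5) (nat_lit 0x6355ab50907))), (nat_lit 181, (unp (nat_lit 5) (nat_lit 0xddeb152da508))),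 (nat_lit 206, (unp (nat_lit 5) (nat_lit 0x37bc5e2b6a8e60a))), (nat_lit 16, (unp (nat_lit 5) (nat_lit 0x1f8d4ef68a98a294e60e))), (nat_lit 268, (unp (nat_lit 5) (nat_lit 0x7ee74a458a599080c))), (nat_lit 174, (unp (nat_lit 5) (nat_lit 0x3dfbde355a458b0b))), (nat_lit 146, (unp (nat_lit 5) (nat_lit 0x7ef78d4ecd518a60c))), (nat_lit 85, (unp (nat_lit 5) (nat_lit 0xdef1aad16d295050c))), (nat_lit 79, (unp (nat_lit 5) (nat_lit 0x3f7bcb12807))), (nat_lit 216, (unp (nat_lit 5) (nat_lit 0x3f34aa98c294e60b))), (nat_lit 187, (unp (nat_lit 5) (nat_lit 0x1fbc59aa29d080a))), (nat_lit 17, (unp (nat_lit 5) (nat_lit 0x3df9ad22a615070b))), (nat_lit 231, (unp (nat_lit 5) (nat_lit 0x3df3b598a29d070b))), (nat_lit 257, (unp (nat_lit 5) (nat_lit 0xfdef539c58a518c50d))), (nat_lit 144, (unp (nat_lit 5) (nat_lit 0x379a55ac29d080a))), (nat_lit 29, (unp (nat_lit 5) (nat_lit 0x7ef7a9d98a518a80c))), (nat_lit 245,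 (unp (nat_lit 5) (nat_lit 0xf7ef53b4e2a519050d))), (nat_lit 159, (unp (nat_lit 5) (nat_lit 0x1bde2958ad4b2a4c80d))), (nat_lit 254, (unp (nat_lit 5) (nat_lit 0x1bde333b454b595260d)))]]⟩

noncomputable def sl1 : SL :=
  ⟨[nat_lit 5, nat_lit 6],
  [([], nat_lit 7, (unp (nat_lit 3) (nat_lit 0xbb504))), ([], nat_lit 8, (unp (nat_lit 3) (nat_lit 0xd6e04))), ([], nat_lit 9, (unp (nat_lit 3) (nat_lit 0xfff04))), ([nat_lit 5, nat_lit 5], nat_lit 10, (unp (nat_lit 3) (nat_lit 0xbee04))), ((unp (nat_lit 4) (nat_lit 0x68803)), nat_lit 11, (unp (nat_lit 4) (nat_lit 0x596604)))],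
  [[], [nat_lit 5], [nat_lit 6], [nat_lit 7], [nat_lit 8], [nat_lit 9], [nat_lit 5, nat_lit 5], [nat_lit 6, nat_lit 5], [nat_lit 7, nat_lit 5], [nat_lit 8, nat_lit 5], [nat_lit 9, nat_lit 5], [nat_lit 5, nat_lit 6], [nat_lit 6, nat_lit 6], [nat_lit 7, nat_lit 6], [nat_lit 8, nat_lit 6], [nat_lit 9, nat_lit 6], [nat_lit 5, nat_lit 7], [nat_lit 6, nat_lit 7], [nat_lit 7, nat_lit 7], [nat_lit 8, nat_lit 7], [nat_lit 9, nat_lit 7], [nat_lit 5, nat_lit 8], [nat_lit 6, nat_lit 8], [nat_lit 7, nat_lit 8], [nat_lit 8, nat_lit 8], [nat_lit 9, nat_lit 8], [nat_lit 5, nat_lit 9], [nat_lit 6, nat_lit 9], [nat_lit 8, nat_lit 9], (unp (nat_lit 3) (nat_lit 0x16d03)), (unp (nat_lit 3) (nat_lit 0x16f03)), (unp (nat_lit 4) (nat_lit 0x55803)), (unp (nat_lit 3) (nat_lit 0x17703)), (unp (nat_lit 4) (nat_lit 0x56803)), (unp (nat_lit 3) (nat_lit 0x17d03)), (unp (nat_lit 3) (nat_lit 0x17e03)), (unp (nat_lit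 4) (nat_lit 0x57803)), (unp (nat_lit 4) (nat_lit 0x57903)), (unp (nat_lit 4) (nat_lit 0x58703)), (unp (nat_lit 4) (nat_lit 0x58803)), (unp (nat_lit 4) (nat_lit 0x58903)), (unp (nat_lit 4) (nat_lit 0x59603)), (unp (nat_lit 3) (nat_lit 0x1ad03)), (unp (nat_lit 3) (nat_lit 0x1ae03)), (unp (nat_lit 3) (nat_lit 0x1af03)), (unp (nat_lit 4) (nat_lit 0x65803)), (unp (nat_lit 4) (nat_lit 0x65903)), (unp (nat_lit 3) (nat_lit 0x1b503)), (unp (nat_lit 3) (nat_lit 0x1b603)), (unp (nat_lit 3) (nat_lit 0x1b703)), (unp (nat_lit 3) (nat_lit 0x1bd03)), (unp (nat_lit 3) (nat_lit 0x1be03)), (unp (nat_lit 4) (nat_lit 0x68503)), (unp (nat_lit 4) (nat_lit 0x68603)), (unp (nat_lit 4) (nat_lit 0x68803)), (unp (nat_lit 4) (nat_lit 0x68903)), (unp (nat_lit 4) (nat_lit 0x69603)), (unp (nat_lit 4) (nat_lit 0x69803)), (unp (nat_lit 3) (nat_lit 0x1ef03)), (unp (nat_lit 4) (nat_lit 0x75803)), (unp (nat_lit 4) (nat_lit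 0x75903)), (unp (nat_lit 3) (nat_lit 0x1fe03)), (unp (nat_lit 3) (nat_lit 0x1ff03)), (unp (nat_lit 4) (nat_lit 0x77903)), (unp (nat_lit 4) (nat_lit 0x78503)), (unp (nat_lit 4) (nat_lit 0x78803)), (unp (nat_lit 4) (nat_lit 0x79603)), (unp (nat_lit 4) (nat_lit 0x79803)), (unp (nat_lit 4) (nat_lit 0x86703)), (unp (nat_lit 4) (nat_lit 0x86803)), (unp (nat_lit 4) (nat_lit 0x86903)), (unp (nat_lit 4) (nat_lit 0x87503)), (unp (nat_lit 4) (nat_lit 0x87603)), (unp (nat_lit 4) (nat_lit 0x87903)), (unp (nat_lit 4) (nat_lit 0x88603)), (unp (nat_lit 4) (nat_lit 0x88803)), (unp (nat_lit 4) (nat_lit 0x88903)), (unp (nat_lit 4) (nat_lit 0x89603)), (unp (nat_lit 4) (nat_lit 0x89803)), (unp (nat_lit 4) (nat_lit 0x95603)), (unp (nat_lit 4) (nat_lit 0x98603)), (unp (nat_lit 4) (nat_lit 0x98903)), (unp (nat_lit 3) (nat_lit 0xb7e04)), (unp (nat_lit 3) (nat_lit 0xb7f04)), (unp (nat_lit 4) (nat_lit 0x558504)),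 (unp (nat_lit 4) (nat_lit 0x558604)), (unp (nat_lit 4) (nat_lit 0x558704)), (unp (nat_lit 4) (nat_lit 0x558804)), (unp (nat_lit 3) (nat_lit 0xbbf04)), (unp (nat_lit 4) (nat_lit 0x568904)), (unp (nat_lit 3) (nat_lit 0xbed04)), (unp (nat_lit 3) (nat_lit 0xbf604)), (unp (nat_lit 3) (nat_lit 0xbf704)), (unp (nat_lit 4) (nat_lit 0x578504)), (unp (nat_lit 4) (nat_lit 0x578704)), (unp (nat_lit 4) (nat_lit 0x578804)), (unp (nat_lit 4) (nat_lit 0x579804)), (unp (nat_lit 4) (nat_lit 0x588804)), (unp (nat_lit 4) (nat_lit 0x588904)), (unp (nat_lit 4) (nat_lit 0x596804)), (unp (nat_lit 4) (nat_lit 0x596904)), (unp (nat_lit 3) (nat_lit 0xd6d04)), (unp (nat_lit 3) (nat_lit 0xd6f04)), (unp (nat_lit 4) (nat_lit 0x658504)), (unp (nat_lit 4) (nat_lit 0x658604)), (unp (nat_lit 3) (nat_lit 0xdaf04)), (unp (nat_lit 4) (nat_lit 0x665804)), (unp (nat_lit 4) (nat_lit 0x675904)), (unp (nat_lit 4) (nat_lit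 0x688504)), (unp (nat_lit 4) (nat_lit 0x688704)), (unp (nat_lit 4) (nat_lit 0x779604)), (unp (nat_lit 4) (nat_lit 0x867504))],
  [[(nat_lit 1, []), (nat_lit 6, []), (nat_lit 11, []), (nat_lit 16, []), (nat_lit 21, []), (nat_lit 26, []), (nat_lit 29, []), (nat_lit 27, (unp (nat_lit 5) (nat_lit 0x1bdea9605))), (nat_lit 34, []), (nat_lit 15, (unp (nat_lit 5) (nat_lit 0x6f17b456b07))), (nat_lit 14, (unp (nat_lit 5) (nat_lit 0x6f1ab45ac07))), (nat_lit 42, []), (nat_lit 47, []), (nat_lit 50, []), (nat_lit 52, []), (nat_lit 49, (unp (nat_lit 5) (nat_lit 0x7e6b4ab14a08))), (nat_lit 18, (unp (nat_lit 5) (nat_lit 0x1f89d22d06))), (nat_lit 12, (unp (nat_lit 5) (nat_lit 0x7ef19bc5ab08))), (nat_lit 59, (unp (nat_lit 5) (nat_lit 0x13bb14a05))), (nat_lit 64, []), (nat_lit 33, (unp (nat_lit 5) (nat_lit 0x1fbde333b45aa0a))), (nat_lit 66, (unp (nat_lit 5) (nat_lit 0x7ed4a04))), (nat_lit 44, []), (nat_lit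 71, []), (nat_lit 67, (unp (nat_lit 5) (nat_lit 0xf7e353b4d8b09))), (nat_lit 58, (unp (nat_lit 5) (nat_lit 0xf7e353a454a09))), (nat_lit 3, (unp (nat_lit 5) (nat_lit 0x7bf7bc66768b14a0c))), (nat_lit 32, (unp (nat_lit 5) (nat_lit 0xfde27605))), (nat_lit 79, (unp (nat_lit 5) (nat_lit 0x1bde673a454d09))), (nat_lit 68, (unp (nat_lit 5) (nat_lit 0x1efcdaac06))), (nat_lit 4, (unp (nat_lit 5) (nat_lit 0xf7ee77b454a09))), (nat_lit 84, []), (nat_lit 80, (unp (nat_lit 5) (nat_lit 0xdeef58a98c08))), (nat_lit 63, (unp (nat_lit 5) (nat_lit 0x333a314a06))), (nat_lit 90, []), (nat_lit 86, (unp (nat_lit 5) (nat_lit 0x3f1a9d96d07))), (nat_lit 93, []), (nat_lit 53, (unp (nat_lit 5) (nat_lit 0x7bf799c58c08))), (nat_lit 30, (unp (nat_lit 5) (nat_lit 0xfdef148a94b09))), (nat_lit 48, (unp (nat_lit 5) (nat_lit 0x1fbde6b68ad4d0a))), (nat_lit 19, (unp (nat_lit 5) (nat_lit 0x1bd56958a98c09))), (nat_lit 8,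 (unp (nat_lit 5) (nat_lit 0x18ccdac05))), (nat_lit 101, []), (nat_lit 56, (unp (nat_lit 5) (nat_lit 0x3f369c58b07))), (nat_lit 74, (unp (nat_lit 5) (nat_lit 0x7e6769c54d08))), (nat_lit 103, []), (nat_lit 22, (unp (nat_lit 5) (nat_lit 0xfdeab68a98c09))), (nat_lit 99, (unp (nat_lit 5) (nat_lit 0x6ad48ad6a07))), (nat_lit 78, (unp (nat_lit 5) (nat_lit 0xf7e6b58ad4b09))), (nat_lit 89, (unp (nat_lit 5) (nat_lit 0x3f2a03))), (nat_lit 35, (unp (nat_lit 5) (nat_lit 0x6f13b4d4b07))), (nat_lit 107, (unp (nat_lit 5) (nat_lit 0x3df89a98a07))), (nat_lit 85, (unp (nat_lit 5) (nat_lit 0xf7ef55aa98a09))), (nat_lit 105, []), (nat_lit 108, []), (nat_lit 61, (unp (nat_lit 5) (nat_lit 0x1bc6a76b458a09))), (nat_lit 36, (unp (nat_lit 5) (nat_lit 0xfdef19badaa09))), (nat_lit 0, (unp (nat_lit 5) (nat_lit 0xfcce2b05))), (nat_lit 17, (unp (nat_lit 5) (nat_lit 0x1f8d5a9106))), (nat_lit 106, (unp (nat_lit 5)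 (nat_lit 0x1fbde6b68a96b0a))), (nat_lit 31, (unp (nat_lit 5) (nat_lit 0x1efdeef606))), (nat_lit 92, (unp (nat_lit 5) (nat_lit 0x7ef35ba98a08))), (nat_lit 82, (unp (nat_lit 5) (nat_lit 0x37bd4ed38a98d0a))), (nat_lit 83, (unp (nat_lit 5) (nat_lit 0xfad56a05))), (nat_lit 94, (unp (nat_lit 5) (nat_lit 0xf7ef7a9decc09))), (nat_lit 54, (unp (nat_lit 5) (nat_lit 0x1efde6d38a94b0a))), (nat_lit 76, (unp (nat_lit 5) (nat_lit 0x7bf78b2d4d08))), (nat_lit 96, (unp (nat_lit 5) (nat_lit 0x1bdea968a98d09))), (nat_lit 111, []), (nat_lit 97, (unp (nat_lit 5) (nat_lit 0xf7ef78b298c09))), (nat_lit 38, (unp (nat_lit 5) (nat_lit 0x379ada2b06))), (nat_lit 110, (unp (nat_lit 5) (nat_lit 0x1bccdab05))), (nat_lit 43, (unp (nat_lit 5) (nat_lit 0x1b9c56d05))), (nat_lit 13, (unp (nat_lit 5) (nat_lit 0x7bf178ad4d08))), (nat_lit 77, (unp (nat_lit 5) (nat_lit 0xfdef53a454b09))), (nat_lit 73, (unp (nat_lit 5) (nat_lit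 0x1bde6d58a94b09))), (nat_lit 70, (unp (nat_lit 5) (nat_lit 0x1fbde2b48a94b0a))), (nat_lit 98, (unp (nat_lit 5) (nat_lit 0x1efdea6c06))), (nat_lit 10, (unp (nat_lit 5) (nat_lit 0x1bde676b296b09))), (nat_lit 7, (unp (nat_lit 5) (nat_lit 0xfdef37ac56b09))), (nat_lit 88, (unp (nat_lit 5) (nat_lit 0xfde27605))), (nat_lit 40, (unp (nat_lit 5) (nat_lit 0x3199dd6b06))), (nat_lit 100, (unp (nat_lit 5) (nat_lit 0xfd516b05))), (nat_lit 62, (unp (nat_lit 5) (nat_lit 0x7ef1abd98a08))), (nat_lit 9, (unp (nat_lit 5) (nat_lit 0xb458a04))), (nat_lit 39, (unp (nat_lit 5) (nat_lit 0x6f7103))), (nat_lit 104, (unp (nat_lit 5) (nat_lit 0x7e2769a98d08))), (nat_lit 46, (unp (nat_lit 5) (nat_lit 0x7e356ac56a08))), (nat_lit 28, (unp (nat_lit 5) (nat_lit 0x18d56ed05))), (nat_lit 60, (unp (nat_lit 5) (nat_lit 0x1aa556a05))), (nat_lit 37, (unp (nat_lit 5) (nat_lit 0xfca98a05))), (nat_lit 65, (unp (nat_lit 5)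 (nat_lit 0x7bf16ab14b08))), (nat_lit 2, (unp (nat_lit 5) (nat_lit 0x7e336a298d08))), (nat_lit 69, (unp (nat_lit 5) (nat_lit 0x1efdef53a51ab0a))), (nat_lit 51, (unp (nat_lit 5) (nat_lit 0xf7e3538ad4b09))), (nat_lit 24, (unp (nat_lit 5) (nat_lit 0x1bc6a77b294b09))), (nat_lit 23, (unp (nat_lit 5) (nat_lit 0x1bde3348b14b09))), (nat_lit 72, (unp (nat_lit 5) (nat_lit 0xf7d9ab05))), (nat_lit 87, (unp (nat_lit 5) (nat_lit 0xf7e353b298d09))), (nat_lit 102, (unp (nat_lit 5) (nat_lit 0xdef15a556a08))), (nat_lit 20, (unp (nat_lit 5) (nat_lit 0x37bc596b06))), (nat_lit 55, (unp (nat_lit 5) (nat_lit 0xfdea9505))), (nat_lit 25, (unp (nat_lit 5) (nat_lit 0x374b314a06))), (nat_lit 91, (unp (nat_lit 5) (nat_lit 0x1bde6f58a98a09))), (nat_lit 75, (unp (nat_lit 5) (nat_lit 0x3f789ce9107))), (nat_lit 41, (unp (nat_lit 5) (nat_lit 0xfdeed48a98a09))), (nat_lit 5, (unp (nat_lit 5) (nat_lit 0xf7ef13a518b09))),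 (nat_lit 81, (unp (nat_lit 5) (nat_lit 0x7bed38ad4b08))), (nat_lit 109, (unp (nat_lit 5) (nat_lit 0x1f8cdd4b06))), (nat_lit 45, (unp (nat_lit 5) (nat_lit 0xf7ef13b4d4d09))), (nat_lit 95, (unp (nat_lit 5) (nat_lit 0xf7ee768adaa09))), (nat_lit 57, (unp (nat_lit 5) (nat_lit 0x37bc66d58a96d0a)))],
  [(nat_lit 2, []), (nat_lit 7, []), (nat_lit 12, []), (nat_lit 17, []), (nat_lit 22, []), (nat_lit 27, []), (nat_lit 10, (unp (nat_lit 5) (nat_lit 0x3f73bd98c07))), (nat_lit 26, (unp (nat_lit 5) (nat_lit 0x7bf7bc66768b14a0c))), (nat_lit 35, []), (nat_lit 30, (unp (nat_lit 5) (nat_lit 0x3dfbc669607))), (nat_lit 41, []), (nat_lit 43, []), (nat_lit 48, []), (nat_lit 51, []), (nat_lit 53, []), (nat_lit 56, []), (nat_lit 33, []), (nat_lit 23, (unp (nat_lit 5) (nat_lit 0x3f7bc6676b45aa0b))), (nat_lit 61, []), (nat_lit 15, (unp (nat_lit 5) (nat_lit 0x7bf78d55ac08))), (nat_lit 66, []), (nat_lit 39,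 (unp (nat_lit 5) (nat_lit 0x3f7bc6a748b14a0b))), (nat_lit 63, (unp (nat_lit 5) (nat_lit 0x1efaddaa06))), (nat_lit 72, []), (nat_lit 74, []), (nat_lit 77, []), (nat_lit 79, []), (nat_lit 5, (unp (nat_lit 5) (nat_lit 0xdeab404))), (nat_lit 80, []), (nat_lit 44, (unp (nat_lit 5) (nat_lit 0x1efcd94c06))), (nat_lit 82, []), (nat_lit 85, []), (nat_lit 9, (unp (nat_lit 5) (nat_lit 0x3df8d569507))), (nat_lit 16, (unp (nat_lit 5) (nat_lit 0x3f158a98c07))), (nat_lit 6, [nat_lit 10]), (nat_lit 91, []), (nat_lit 45, (unp (nat_lit 5) (nat_lit 0x7ef1a9d94a08))), (nat_lit 52, (unp (nat_lit 5) (nat_lit 0x7eed48a98c08))), (nat_lit 29, (unp (nat_lit 5) (nat_lit 0x7bf7bc6a73a296d0c))), (nat_lit 96, (unp (nat_lit 5) (nat_lit 0x3338ad4b06))), (nat_lit 1, (unp (nat_lit 5) (nat_lit 0x3f15ac56b07))), (nat_lit 54, [nat_lit 11]), (nat_lit 4, []), (nat_lit 73, (unp (nat_lit 5) (nat_lit 0xf7ef79bad4b09))),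 (nat_lit 38, (unp (nat_lit 5) (nat_lit 0x7bf75b2d4b08))), (nat_lit 104, []), (nat_lit 76, (unp (nat_lit 5) (nat_lit 0x3f7bc514b07))), (nat_lit 19, (unp (nat_lit 5) (nat_lit 0x3dfbd4ed68ad6a0b))), (nat_lit 87, (unp (nat_lit 5) (nat_lit 0x3dfbdadaa07))), (nat_lit 84, (unp (nat_lit 5) (nat_lit 0x15b2d4d05))), (nat_lit 34, (unp (nat_lit 5) (nat_lit 0x18addac05))), (nat_lit 107, (unp (nat_lit 5) (nat_lit 0x1efdeacc06))), (nat_lit 31, (unp (nat_lit 5) (nat_lit 0x3df9ad54d07))), (nat_lit 90, (unp (nat_lit 5) (nat_lit 0x7ef78d56cd08))), (nat_lit 50, (unp (nat_lit 5) (nat_lit 0x1bc5a2b05))), (nat_lit 83, (unp (nat_lit 5) (nat_lit 0x1bde676b296b09))), (nat_lit 70, (unp (nat_lit 5) (nat_lit 0x2769ad4d06))), (nat_lit 64, (unp (nat_lit 5) (nat_lit 0x7e333b4d6a08))), (nat_lit 98, (unp (nat_lit 5) (nat_lit 0x1efdef19a598b0a))), (nat_lit 55, (unp (nat_lit 5) (nat_lit 0x7bf78cd62c08))), (nat_lit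 42, (unp (nat_lit 5) (nat_lit 0x7ef7ab456a08))), (nat_lit 25, (unp (nat_lit 5) (nat_lit 0x1fbc66b4ac54d0a))), (nat_lit 69, (unp (nat_lit 5) (nat_lit 0x1bc6ab78a98c09))), (nat_lit 110, []), (nat_lit 105, (unp (nat_lit 5) (nat_lit 0xde355b2d4b08))), (nat_lit 3, (unp (nat_lit 5) (nat_lit 0x7bf78d4ef68a96d0c))), (nat_lit 11, (unp (nat_lit 5) (nat_lit 0x3f7bc6a769a98c0b))), (nat_lit 47, (unp (nat_lit 5) (nat_lit 0xf7ef78d4e6c09))), (nat_lit 86, (unp (nat_lit 5) (nat_lit 0x7bf53bd96d08))), (nat_lit 62, (unp (nat_lit 5) (nat_lit 0x7ce6d04))), (nat_lit 67, (unp (nat_lit 5) (nat_lit 0x1efdef15ba96b0a))), (nat_lit 97, (unp (nat_lit 5) (nat_lit 0x3f7bc6a748b14a0b))), (nat_lit 89, (unp (nat_lit 5) (nat_lit 0x3f7bd5dac07))), (nat_lit 81, (unp (nat_lit 5) (nat_lit 0xc66738b14b08))), (nat_lit 24, (unp (nat_lit 5) (nat_lit 0x1bde2b68a94b09))), (nat_lit 58, (unp (nat_lit 5) (nat_lit 0xfde336aad4b09))),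 (nat_lit 46, (unp (nat_lit 5) (nat_lit 0x1efdef36a298d0a))), (nat_lit 68, (unp (nat_lit 5) (nat_lit 0xa562d04))), (nat_lit 0, (unp (nat_lit 5) (nat_lit 0x6f78ad9ac07))), (nat_lit 100, (unp (nat_lit 5) (nat_lit 0x6f739a98c07))), (nat_lit 28, (unp (nat_lit 5) (nat_lit 0xf7ef78d598a09))), (nat_lit 20, (unp (nat_lit 5) (nat_lit 0xfdef199a94b09))), (nat_lit 94, (unp (nat_lit 5) (nat_lit 0x1efde274a45ac0a))), (nat_lit 59, (unp (nat_lit 5) (nat_lit 0x7bf368a98a08))), (nat_lit 8, (unp (nat_lit 5) (nat_lit 0x6f53b458c07))), (nat_lit 103, (unp (nat_lit 5) (nat_lit 0x7ef78ccef68ad4d0c))), (nat_lit 18, (unp (nat_lit 5) (nat_lit 0x3dfbde2b78a96b0b))), (nat_lit 78, (unp (nat_lit 5) (nat_lit 0xdef19bd98b08))), (nat_lit 13, (unp (nat_lit 5) (nat_lit 0xdef158a98c08))), (nat_lit 65, (unp (nat_lit 5) (nat_lit 0xdef15b314a08))), (nat_lit 101, (unp (nat_lit 5) (nat_lit 0x3f799d18b07))), (nat_lit 95,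 (unp (nat_lit 5) (nat_lit 0x633103))), (nat_lit 93, (unp (nat_lit 5) (nat_lit 0x1bde6b48adaa09))), (nat_lit 57, (unp (nat_lit 5) (nat_lit 0x355b458c06))), (nat_lit 106, (unp (nat_lit 5) (nat_lit 0x313badaa06))), (nat_lit 49, (unp (nat_lit 5) (nat_lit 0xfdef36a45ac09))), (nat_lit 21, (unp (nat_lit 5) (nat_lit 0x3df8b562d07))), (nat_lit 88, (unp (nat_lit 5) (nat_lit 0x1efdead48a96b0a))), (nat_lit 75, (unp (nat_lit 5) (nat_lit 0x1fbde334ac58a0a))), (nat_lit 14, (unp (nat_lit 5) (nat_lit 0x1efdef15b458a0a))), (nat_lit 40, (unp (nat_lit 5) (nat_lit 0xfde3539c58c09))), (nat_lit 109, (unp (nat_lit 5) (nat_lit 0x1efde673a45aa0a))), (nat_lit 92, (unp (nat_lit 5) (nat_lit 0x18cced38a96d09))), (nat_lit 111, (unp (nat_lit 5) (nat_lit 0xc6a77b456a08))), (nat_lit 36, (unp (nat_lit 5) (nat_lit 0x7bf75ac58b08))), (nat_lit 102, (unp (nat_lit 5) (nat_lit 0xdee77b458a08))), (nat_lit 32, (unp (nat_lit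 5) (nat_lit 0x3f768a94b07))), (nat_lit 71, (unp (nat_lit 5) (nat_lit 0x6277b454c07))), (nat_lit 108, (unp (nat_lit 5) (nat_lit 0x7bf7bc66b48adaa0c))), (nat_lit 99, (unp (nat_lit 5) (nat_lit 0xad56b04))), (nat_lit 60, (unp (nat_lit 5) (nat_lit 0xf7e6958b14b09))), (nat_lit 37, (unp (nat_lit 5) (nat_lit 0xf7ef1aad96d09)))]]⟩

noncomputable def sl2 : SL :=
  ⟨[nat_lit 10, nat_lit 11],
  [([], nat_lit 12, (unp (nat_lit 4) (nat_lit 0xaabb04))), ([], nat_lit 13, (unp (nat_lit 4) (nat_lit 0xbabb04))), ([], nat_lit 14, (unp (nat_lit 4) (nat_lit 0xaba03))), ([], nat_lit 15, (unp (nat_lit 4) (nat_lit 0xeeee04))), ((unp (nat_lit 4) (nat_lit 0xacc03)), nat_lit 16, (unp (nat_lit 4) (nat_lit 0xdca03))), ([nat_lit 10, nat_lit 13], nat_lit 17, (unp (nat_lit 4) (nat_lit 0xbbab04))), ([nat_lit 13], nat_lit 18, (unp (nat_lit 4) (nat_lit 0xcaaa04)))],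
  [[], [nat_lit 10], [nat_lit 11], [nat_lit 12], [nat_lit 13], [nat_lit 10, nat_lit 10], [nat_lit 11, nat_lit 10], [nat_lit 12, nat_lit 10], [nat_lit 13, nat_lit 10], [nat_lit 10, nat_lit 11], [nat_lit 11, nat_lit 11], [nat_lit 13, nat_lit 11], [nat_lit 10, nat_lit 12], [nat_lit 11, nat_lit 12], [nat_lit 12, nat_lit 12], [nat_lit 10, nat_lit 13], [nat_lit 11, nat_lit 13], [nat_lit 12, nat_lit 13], (unp (nat_lit 4) (nat_lit 0xaab03)), (unp (nat_lit 4) (nat_lit 0xabb03)), (unp (nat_lit 4) (nat_lit 0xabd03)), (unp (nat_lit 4) (nat_lit 0xaca03)), (unp (nat_lit 4) (nat_lit 0xacc03)), (unp (nat_lit 4) (nat_lit 0xacd03)), (unp (nat_lit 4) (nat_lit 0xbab03)), (unp (nat_lit 4) (nat_lit 0xbad03)), (unp (nat_lit 4) (nat_lit 0xbba03)), (unp (nat_lit 4) (nat_lit 0xbda03)), (unp (nat_lit 4) (nat_lit 0xcaa03)), (unp (nat_lit 4) (nat_lit 0xcab03))],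
  [[(nat_lit 1, []), (nat_lit 5, []), (nat_lit 9, []), (nat_lit 12, []), (nat_lit 15, []), (nat_lit 2, (unp (nat_lit 5) (nat_lit 0x1f8d5ab106))), (nat_lit 10, (unp (nat_lit 5) (nat_lit 0x7bf5604))), (nat_lit 21, []), (nat_lit 14, (unp (nat_lit 5) (nat_lit 0xfd4e7105))), (nat_lit 0, (unp (nat_lit 5) (nat_lit 0x1fbc5ab106))), (nat_lit 26, []), (nat_lit 27, []), (nat_lit 28, []), (nat_lit 19, (unp (nat_lit 5) (nat_lit 0x3dfbde2f107))), (nat_lit 6, (unp (nat_lit 5) (nat_lit 0x7e2d304))), (nat_lit 3, (unp (nat_lit 5) (nat_lit 0x4ed303))), (nat_lit 7, [nat_lit 23, nat_lit 25]), (nat_lit 22, [nat_lit 20]), (nat_lit 11, (unp (nat_lit 5) (nat_lit 0xf7ef78d4ef109))), (nat_lit 16, (unp (nat_lit 5) (nat_lit 0x3df8d4ef607))), (nat_lit 18, (unp (nat_lit 5) (nat_lit 0x378cd6f106))), (nat_lit 13, (unp (nat_lit 5) (nat_lit 0xf7ef78d56b109))), (nat_lit 29, (unp (nat_lit 5) (nat_lit 0x18d4e9105))),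 (nat_lit 17, (unp (nat_lit 5) (nat_lit 0x3dfbde67607))), (nat_lit 20, (unp (nat_lit 5) (nat_lit 0xd52d104))), (nat_lit 23, (unp (nat_lit 5) (nat_lit 0x31a9ce9106))), (nat_lit 8, (unp (nat_lit 5) (nat_lit 0x3df8d4e7107))), (nat_lit 24, (unp (nat_lit 5) (nat_lit 0x378cda7106))), (nat_lit 4, [nat_lit 22]), (nat_lit 25, (unp (nat_lit 5) (nat_lit 0xf7ce7405)))],
  [(nat_lit 2, []), (nat_lit 6, []), (nat_lit 10, []), (nat_lit 13, []), (nat_lit 16, []), (nat_lit 18, []), (nat_lit 19, []), (nat_lit 8, (unp (nat_lit 5) (nat_lit 0x3f79ad2b107))), (nat_lit 1, (unp (nat_lit 5) (nat_lit 0x1fbdea9506))), (nat_lit 24, []), (nat_lit 7, (unp (nat_lit 5) (nat_lit 0x1fbc5ab106))), (nat_lit 5, (unp (nat_lit 5) (nat_lit 0x7bf7bc66d308))), (nat_lit 29, []), (nat_lit 17, [nat_lit 22]), (nat_lit 25, (unp (nat_lit 5) (nat_lit 0x3dfbdd69507))), (nat_lit 11, (unp (nat_lit 5) (nat_lit 0x7bef104))), (nat_lit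 28, (unp (nat_lit 5) (nat_lit 0x3f7a9dad107))), (nat_lit 22, (unp (nat_lit 5) (nat_lit 0xf7e2d105))), (nat_lit 3, []), (nat_lit 21, (unp (nat_lit 5) (nat_lit 0xc669104))), (nat_lit 14, (unp (nat_lit 5) (nat_lit 0x3dfbde6d107))), (nat_lit 0, (unp (nat_lit 5) (nat_lit 0x3dfbc569107))), (nat_lit 26, (unp (nat_lit 5) (nat_lit 0x1fbd52d106))), (nat_lit 9, (unp (nat_lit 5) (nat_lit 0x6f78d56b107))), (nat_lit 4, []), (nat_lit 23, (unp (nat_lit 5) (nat_lit 0xfc667605))), (nat_lit 15, [nat_lit 17]), (nat_lit 12, (unp (nat_lit 5) (nat_lit 0x3f7bc6a7407))), (nat_lit 20, (unp (nat_lit 5) (nat_lit 0x37b9ded106))), (nat_lit 27, (unp (nat_lit 5) (nat_lit 0xdcef604)))]]⟩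

noncomputable def sl3 : SL :=
  ⟨(unp (nat_lit 5) (nat_lit 0x7ca3004)),
  [([nat_lit 17], nat_lit 19, [nat_lit 16, nat_lit 17]), ([], nat_lit 20, [nat_lit 16]), ([nat_lit 17], nat_lit 21, [nat_lit 18, nat_lit 17]), ([], nat_lit 22, [nat_lit 18]), ([], nat_lit 23, [nat_lit 17, nat_lit 17])],
  [[], [nat_lit 17]],
  [[(nat_lit 0, [nat_lit 20]), (nat_lit 1, [nat_lit 19])],
  [(nat_lit 1, []), (nat_lit 0, [nat_lit 23])],
  [(nat_lit 0, [nat_lit 22]), (nat_lit 1, [nat_lit 21])],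
  [(nat_lit 0, [nat_lit 15]), (nat_lit 1, [nat_lit 15])]]⟩

noncomputable def sl4 : SL :=
  ⟨(unp (nat_lit 5) (nat_lit 0x1f7b569306)),
  [((unp (nat_lit 5) (nat_lit 0x569503)), nat_lit 24, (unp (nat_lit 5) (nat_lit 0x5a9303))), ([nat_lit 19, nat_lit 19], nat_lit 25, (unp (nat_lit 5) (nat_lit 0x4ed503))), ([nat_lit 22, nat_lit 23], nat_lit 26, (unp (nat_lit 5) (nat_lit 0x4ed403)))],
  [[], [nat_lit 19], [nat_lit 20], [nat_lit 21], [nat_lit 22], [nat_lit 23], [nat_lit 19, nat_lit 19], [nat_lit 20, nat_lit 19], [nat_lit 22, nat_lit 19], [nat_lit 23, nat_lit 19], [nat_lit 21, nat_lit 20], [nat_lit 22, nat_lit 20], [nat_lit 20, nat_lit 21], [nat_lit 21, nat_lit 21], [nat_lit 22, nat_lit 21], [nat_lit 23, nat_lit 21], [nat_lit 19, nat_lit 22], [nat_lit 20, nat_lit 22], [nat_lit 21, nat_lit 22], [nat_lit 21, nat_lit 23], [nat_lit 22, nat_lit 23], (unp (nat_lit 5) (nat_lit 0x4e7403)), (unp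 (nat_lit 5) (nat_lit 0x4e9403)), (unp (nat_lit 5) (nat_lit 0x4ed303)), (unp (nat_lit 5) (nat_lit 0x4ed603)), (unp (nat_lit 5) (nat_lit 0x4ef603)), (unp (nat_lit 5) (nat_lit 0x569503))],
  [[(nat_lit 1, []), (nat_lit 6, []), (nat_lit 7, [nat_lit 15]), (nat_lit 8, (unp (nat_lit 5) (nat_lit 0x7ef1a04))), (nat_lit 16, []), (nat_lit 17, [nat_lit 25, nat_lit 27]), (nat_lit 0, []), (nat_lit 21, [nat_lit 15]), (nat_lit 23, []), (nat_lit 22, (unp (nat_lit 5) (nat_lit 0x3dfa03))), (nat_lit 24, (unp (nat_lit 5) (nat_lit 0x3f1903))), (nat_lit 10, [nat_lit 25, nat_lit 15]), (nat_lit 20, [nat_lit 24, nat_lit 27]), (nat_lit 18, (unp (nat_lit 5) (nat_lit 0x7ef1a04))), (nat_lit 13, (unp (nat_lit 5) (nat_lit 0x6f1a03))), (nat_lit 4, (unp (nat_lit 5) (nat_lit 0x3f7a03))), (nat_lit 15, (unp (nat_lit 5) (nat_lit 0x7bf7a04))), (nat_lit 26, [nat_lit 24]), (nat_lit 14, (unp (nat_lit 5) (nat_lit 0xf7ef1a05))),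 (nat_lit 12, [nat_lit 26]), (nat_lit 19, (unp (nat_lit 5) (nat_lit 0xf7ef1a05))), (nat_lit 2, [nat_lit 15]), (nat_lit 25, (unp (nat_lit 5) (nat_lit 0x3f1a03))), (nat_lit 3, (unp (nat_lit 5) (nat_lit 0x3df903))), (nat_lit 11, [nat_lit 24, nat_lit 15]), (nat_lit 9, (unp (nat_lit 5) (nat_lit 0xfdef1905))), (nat_lit 5, [nat_lit 26])],
  [(nat_lit 2, []), (nat_lit 7, []), (nat_lit 9, (unp (nat_lit 5) (nat_lit 0x3dfa03))), (nat_lit 12, []), (nat_lit 17, []), (nat_lit 18, (unp (nat_lit 5) (nat_lit 0x6f1903))), (nat_lit 21, []), (nat_lit 22, []), (nat_lit 20, [nat_lit 26]), (nat_lit 0, [nat_lit 26]), (nat_lit 3, [nat_lit 15]), (nat_lit 23, [nat_lit 15]), (nat_lit 10, [nat_lit 15, nat_lit 15]), (nat_lit 16, (unp (nat_lit 5) (nat_lit 0x3df803))), (nat_lit 4, (unp (nat_lit 5) (nat_lit 0x3f1903))), (nat_lit 5, [nat_lit 25, nat_lit 24]), (nat_lit 26, (unp (nat_lit 5) (nat_lit 0x3df803))), (nat_lit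 14, (unp (nat_lit 5) (nat_lit 0x7bf1904))), (nat_lit 15, [nat_lit 27, nat_lit 15]), (nat_lit 11, (unp (nat_lit 5) (nat_lit 0xf7ef1905))), (nat_lit 24, [nat_lit 25, nat_lit 27]), (nat_lit 25, (unp (nat_lit 5) (nat_lit 0x7bf1a04))), (nat_lit 1, []), (nat_lit 19, (unp (nat_lit 5) (nat_lit 0x7ef1904))), (nat_lit 8, [nat_lit 24]), (nat_lit 6, (unp (nat_lit 5) (nat_lit 0x3f7903))), (nat_lit 13, [nat_lit 15])],
  [(nat_lit 3, []), (nat_lit 4, (unp (nat_lit 5) (nat_lit 0x7ef1a04))), (nat_lit 10, []), (nat_lit 13, []), (nat_lit 18, []), (nat_lit 19, []), (nat_lit 7, (unp (nat_lit 5) (nat_lit 0x3f1903))), (nat_lit 14, (unp (nat_lit 5) (nat_lit 0xf7ef7a05))), (nat_lit 6, [nat_lit 25]), (nat_lit 12, (unp (nat_lit 5) (nat_lit 0x3dfa03))), (nat_lit 16, (unp (nat_lit 5) (nat_lit 0x3df803))), (nat_lit 8, (unp (nat_lit 5) (nat_lit 0xf7ef7a05))), (nat_lit 26, []), (nat_lit 2, (unp (nat_lit 5) (nat_lit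 0x3f1903))), (nat_lit 15, (unp (nat_lit 5) (nat_lit 0xdef1904))), (nat_lit 11, [nat_lit 27, nat_lit 27]), (nat_lit 0, [nat_lit 25]), (nat_lit 5, (unp (nat_lit 5) (nat_lit 0xf7ef1905))), (nat_lit 23, [nat_lit 15]), (nat_lit 20, (unp (nat_lit 5) (nat_lit 0x1efdef1906))), (nat_lit 25, [nat_lit 26, nat_lit 27]), (nat_lit 1, (unp (nat_lit 5) (nat_lit 0x7bf1904))), (nat_lit 17, (unp (nat_lit 5) (nat_lit 0x6f1a03))), (nat_lit 24, [nat_lit 25]), (nat_lit 21, (unp (nat_lit 5) (nat_lit 0x7bf1904))), (nat_lit 22, [nat_lit 24, nat_lit 27]), (nat_lit 9, (unp (nat_lit 5) (nat_lit 0xf7ef7905)))],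
  [(nat_lit 4, []), (nat_lit 8, []), (nat_lit 11, []), (nat_lit 14, []), (nat_lit 10, (unp (nat_lit 5) (nat_lit 0x7bf1904))), (nat_lit 20, []), (nat_lit 2, [nat_lit 24, nat_lit 15]), (nat_lit 1, [nat_lit 24]), (nat_lit 24, []), (nat_lit 25, []), (nat_lit 21, (unp (nat_lit 5) (nat_lit 0x7ef1a04))), (nat_lit 3, [nat_lit 25, nat_lit 24]), (nat_lit 19, (unp (nat_lit 5) (nat_lit 0x7bf7b04))), (nat_lit 23, [nat_lit 15]), (nat_lit 16, (unp (nat_lit 5) (nat_lit 0x7ef1a04))), (nat_lit 18, (unp (nat_lit 5) (nat_lit 0xfdef1905))), (nat_lit 6, []), (nat_lit 9, [nat_lit 26]), (nat_lit 7, (unp (nat_lit 5) (nat_lit 0x7ef7a04))), (nat_lit 26, (unp (nat_lit 5) (nat_lit 0xf7ef1905))), (nat_lit 22, [nat_lit 26]), (nat_lit 13, [nat_lit 24, nat_lit 15]), (nat_lit 5, [nat_lit 26, nat_lit 24]), (nat_lit 0, []), (nat_lit 15, (unp (nat_lit 5) (nat_lit 0x7bf7a04))), (nat_lit 12, (unp (nat_lit 5) (nat_lit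 0x1efdef1a06))), (nat_lit 17, [nat_lit 15])],
  [(nat_lit 5, []), (nat_lit 9, []), (nat_lit 8, (unp (nat_lit 5) (nat_lit 0x7bf7904))), (nat_lit 15, []), (nat_lit 4, (unp (nat_lit 5) (nat_lit 0xdef1904))), (nat_lit 0, [nat_lit 15]), (nat_lit 19, (unp (nat_lit 5) (nat_lit 0x7ef7804))), (nat_lit 16, [nat_lit 25, nat_lit 27]), (nat_lit 2, (unp (nat_lit 5) (nat_lit 0x7bf1a04))), (nat_lit 1, [nat_lit 15]), (nat_lit 22, (unp (nat_lit 5) (nat_lit 0x6f7903))), (nat_lit 17, (unp (nat_lit 5) (nat_lit 0xfdef1905))), (nat_lit 24, (unp (nat_lit 5) (nat_lit 0xf7ef7905))), (nat_lit 20, (unp (nat_lit 5) (nat_lit 0x1efdef1906))), (nat_lit 25, (unp (nat_lit 5) (nat_lit 0x7bf7a04))), (nat_lit 3, [nat_lit 15]), (nat_lit 7, (unp (nat_lit 5) (nat_lit 0x3f1a03))), (nat_lit 11, (unp (nat_lit 5) (nat_lit 0x1efdef1906))), (nat_lit 26, (unp (nat_lit 5) (nat_lit 0x6f1903))), (nat_lit 6, (unp (nat_lit 5) (nat_lit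 0x7ef7804))), (nat_lit 13, (unp (nat_lit 5) (nat_lit 0xfdef1905))), (nat_lit 21, [nat_lit 26]), (nat_lit 10, (unp (nat_lit 5) (nat_lit 0xfdef1a05))), (nat_lit 23, (unp (nat_lit 5) (nat_lit 0xdef1904))), (nat_lit 12, (unp (nat_lit 5) (nat_lit 0x1efdef1a06))), (nat_lit 14, (unp (nat_lit 5) (nat_lit 0x7bf7a04))), (nat_lit 18, (unp (nat_lit 5) (nat_lit 0xf7ef1905)))],
  [(nat_lit 0, [nat_lit 15]), (nat_lit 1, [nat_lit 15]), (nat_lit 2, [nat_lit 15]), (nat_lit 3, [nat_lit 15]), (nat_lit 4, [nat_lit 15]), (nat_lit 5, [nat_lit 15]), (nat_lit 6, [nat_lit 15]), (nat_lit 7, [nat_lit 15]), (nat_lit 8, [nat_lit 15]), (nat_lit 9, [nat_lit 15]), (nat_lit 10, [nat_lit 15]), (nat_lit 11, [nat_lit 15]), (nat_lit 12, [nat_lit 15]), (nat_lit 13, [nat_lit 15]), (nat_lit 14, [nat_lit 15]), (nat_lit 15, [nat_lit 15]), (nat_lit 16, [nat_lit 15]), (nat_lit 17, [nat_lit 15]), (nat_lit 18, [nat_lit 15]),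 (nat_lit 19, [nat_lit 15]), (nat_lit 20, [nat_lit 15]), (nat_lit 21, [nat_lit 15]), (nat_lit 22, [nat_lit 15]), (nat_lit 23, [nat_lit 15]), (nat_lit 24, [nat_lit 15]), (nat_lit 25, [nat_lit 15]), (nat_lit 26, [nat_lit 15])]]⟩

noncomputable def sl5 : SL :=
  ⟨(unp (nat_lit 5) (nat_lit 0x7eb3804)),
  [([nat_lit 24], nat_lit 27, [nat_lit 25, nat_lit 26])],
  [[], [nat_lit 24], [nat_lit 25], [nat_lit 26], [nat_lit 25, nat_lit 24], [nat_lit 26, nat_lit 24]],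
  [[(nat_lit 1, []), (nat_lit 0, [nat_lit 15]), (nat_lit 3, (unp (nat_lit 5) (nat_lit 0x7bf7b04))), (nat_lit 2, (unp (nat_lit 5) (nat_lit 0x3dfb03))), (nat_lit 5, [nat_lit 27]), (nat_lit 4, (unp (nat_lit 5) (nat_lit 0x3f7b03)))],
  [(nat_lit 2, []), (nat_lit 4, []), (nat_lit 5, [nat_lit 27]), (nat_lit 1, [nat_lit 27]), (nat_lit 3, [nat_lit 27, nat_lit 27]), (nat_lit 0, [nat_lit 27, nat_lit 27])],
  [(nat_lit 3, []), (nat_lit 5, []), (nat_lit 4, (unp (nat_lit 5) (nat_lit 0x3dfb03))), (nat_lit 0, [nat_lit 15]), (nat_lit 2, (unp (nat_lit 5) (nat_lit 0x7bf7b04))), (nat_lit 1, [nat_lit 15])],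
  [(nat_lit 0, [nat_lit 15]), (nat_lit 1, [nat_lit 15]), (nat_lit 2, [nat_lit 15]), (nat_lit 3, [nat_lit 15]), (nat_lit 4, [nat_lit 15]), (nat_lit 5, [nat_lit 15])]]⟩

noncomputable def sl6 : SL :=
  ⟨[nat_lit 27, nat_lit 15],
  [],
  [[], [nat_lit 27], [nat_lit 27, nat_lit 27]],
  [[(nat_lit 1, []), (nat_lit 2, []), (nat_lit 0, [])],
  [(nat_lit 0, [nat_lit 15]), (nat_lit 1, [nat_lit 15]), (nat_lit 2, [nat_lit 15])]]⟩

noncomputable def sl7 : SL :=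
  ⟨[nat_lit 15],
  [],
  [[], [nat_lit 15], [nat_lit 15, nat_lit 15]],
  [[(nat_lit 1, []), (nat_lit 2, []), (nat_lit 0, [])]]⟩

noncomputable def lv : List SL :=
  [sl0, sl1, sl2, sl3, sl4, sl5, sl6, sl7]

noncomputable def ds : List (List ℕ × ℕ × List ℕ) :=
  [([], nat_lit 28, (unp (nat_lit 5) (nat_lit 0x1fab518c06))),
  ([], nat_lit 29, (unp (nat_lit 5) (nat_lit 0x6f74b314a07))),
  ([], nat_lit 30, (unp (nat_lit 5) (nat_lit 0x1bde333b4e2a09))),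
  ([], nat_lit 31, (unp (nat_lit 5) (nat_lit 0xc6a7304))),
  ([], nat_lit 32, (unp (nat_lit 5) (nat_lit 0x1bdcef605))),
  ([], nat_lit 33, (unp (nat_lit 5) (nat_lit 0x7ee769c54c08))),
  ([], nat_lit 34, [nat_lit 15, nat_lit 15]),
  ([], nat_lit 35, (unp (nat_lit 5) (nat_lit 0x3f7bd4eca07))),
  ([], nat_lit 36, (unp (nat_lit 5) (nat_lit 0xfc6a73534c5090000d))),
  ([], nat_lit 37, (unp (nat_lit 5) (nat_lit 0x3f73bda2c594a5000820f)))]

noncomputable def nets : List Net :=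
  [nt0, nt1, nt2, nt3, nt4, nt5, nt6, nt7, nt8, nt9, nt10, nt11, nt12, nt13, nt14, nt15, nt16, nt17, nt18, nt19, nt20, nt21, nt22, nt23, nt24, nt25, nt26, nt27, nt28, nt29, nt30, nt31, nt32, nt33, nt34, nt35, nt36, nt37]

noncomputable def d3rl : List (List (List ℕ)) :=
  [[[]],
  [[nat_lit 1], []],
  [(unp (nat_lit 3) (nat_lit 0xb5a04)), (unp (nat_lit 3) (nat_lit 0xb6204)), (unp (nat_lit 3) (nat_lit 0x1b503))],
  [(unp (nat_lit 3) (nat_lit 0x6d6b05)), (unp (nat_lit 3) (nat_lit 0xd6b04)), (unp (nat_lit 3) (nat_lit 0x16b03)), []],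
  [(unp (nat_lit 3) (nat_lit 0xd6c04)), (unp (nat_lit 3) (nat_lit 0x1ac03)), [nat_lit 4, nat_lit 6], [nat_lit 4], []],
  [[nat_lit 5], [nat_lit 5], [nat_lit 5], [nat_lit 5], [nat_lit 5], []],
  [[nat_lit 6], [nat_lit 6], [nat_lit 6], [nat_lit 6], [nat_lit 6], [nat_lit 6], []]]

noncomputable def d3fr : List (ℕ × List ℕ × List ℕ) :=
  [(nat_lit 7, [nat_lit 0], (unp (nat_lit 3) (nat_lit 0x16464807))),
  (nat_lit 7, [nat_lit 1], (unp (nat_lit 3) (nat_lit 0x1ad91b2400b))),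
  (nat_lit 7, [nat_lit 2], (unp (nat_lit 3) (nat_lit 0x68da44009))),
  (nat_lit 7, (unp (nat_lit 3) (nat_lit 0x16b03)), (unp (nat_lit 3) (nat_lit 0x35b1b06))),
  (nat_lit 7, (unp (nat_lit 3) (nat_lit 0x16c03)), (unp (nat_lit 3) (nat_lit 0x16303))),
  (nat_lit 7, (unp (nat_lit 3) (nat_lit 0x1b503)), (unp (nat_lit 3) (nat_lit 0xdad04))),
  (nat_lit 7, [nat_lit 6], [nat_lit 6]),
  (nat_lit 8, [nat_lit 3], (unp (nat_lit 3) (nat_lit 0x368c006))),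
  (nat_lit 8, [nat_lit 4], (unp (nat_lit 3) (nat_lit 0x46c905))),
  (nat_lit 9, [nat_lit 0], (unp (nat_lit 3) (nat_lit 0xd4804))),
  (nat_lit 9, [nat_lit 1], (unp (nat_lit 3) (nat_lit 0x6a4805))),
  (nat_lit 9, (unp (nat_lit 3) (nat_lit 0x16b03)), (unp (nat_lit 3) (nat_lit 0xb6304))),
  (nat_lit 9, (unp (nat_lit 3) (nat_lit 0x16c03)), (unp (nat_lit 3) (nat_lit 0x6d2305))),
  (nat_lit 9, (unp (nat_lit 3) (nat_lit 0x1b503)), (unp (nat_lit 3) (nat_lit 0xdad04))),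
  (nat_lit 9, [nat_lit 6], [nat_lit 6])]

noncomputable def d3D : PC :=
  ⟨nat_lit 3, nat_lit 7, nat_lit 28, nat_lit 2, nat_lit 15, nat_lit 417, nat_lit 15, d3rl, d3fr⟩

noncomputable def d3cs : List (Cn × ℕ) :=
  [(.con [nat_lit 2] (nat_lit 2) (nat_lit 2), (nat_lit 0x400200000000000000000000000000)),
  (.con [nat_lit 6] (nat_lit 2) (nat_lit 2), (nat_lit 0x10000000000000000000000000000000)),
  (.con [nat_lit 4, nat_lit 4] (nat_lit 4) (nat_lit 2), (nat_lit 0x40000000000000000000000000000000)),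
  (.con [nat_lit 5] (nat_lit 2) (nat_lit 0), (nat_lit 0x400000000000000000000000000)),
  (.con [nat_lit 5] (nat_lit 2) (nat_lit 1), (nat_lit 0x1000000000000000000000000000)),
  (.con [nat_lit 3, nat_lit 3] (nat_lit 3) (nat_lit 2), (nat_lit 0x8000000000000000000000000000)),
  (.con [nat_lit 6] (nat_lit 2) (nat_lit 0), (nat_lit 0x21000000000000000000000000000000)),
  (.con [nat_lit 6] (nat_lit 2) (nat_lit 1), (nat_lit 0x24000000000000000000000000000000)),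
  (.con [nat_lit 4] (nat_lit 1) (nat_lit 0), (nat_lit 0x101800a0000000000000000000000000)),
  (.con [nat_lit 4] (nat_lit 2) (nat_lit 1), (nat_lit 0x28602100000000000000000000000000)),
  (.con [nat_lit 3] (nat_lit 1) (nat_lit 0), (nat_lit 0x10280090000000000000000000000000)),
  (.con [nat_lit 3] (nat_lit 2) (nat_lit 1), (nat_lit 0x4401640200000000000000000000000)),
  (.con [nat_lit 2] (nat_lit 1) (nat_lit 0), (nat_lit 0x1890108004000000000000000000)),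
  (.con [nat_lit 4] (nat_lit 2) (nat_lit 0), (nat_lit 0x2481a00100000000000000000000000)),
  (.con [nat_lit 2] (nat_lit 1) (nat_lit 1), (nat_lit 0xa8202080800000000000000000000000)),
  (.con [nat_lit 2] (nat_lit 0) (nat_lit 0), (nat_lit 0x51048410000080000000000000000000)),
  (.con [nat_lit 2, nat_lit 2] (nat_lit 2) (nat_lit 1), (nat_lit 0x48508080400000000000000000000000)),
  (.fus (nat_lit 7) [nat_lit 4, nat_lit 2] (unp (nat_lit 3) (nat_lit 0x1a203)), (nat_lit 0x2980a800158026000000000000002000)),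
  (.fus (nat_lit 7) [nat_lit 4, nat_lit 0] (unp (nat_lit 3) (nat_lit 0xb6004)), (nat_lit 0xa1208460220009000000000000000400)),
  (.fus (nat_lit 7) [nat_lit 4, nat_lit 1] (unp (nat_lit 3) (nat_lit 0x6d6105)), (nat_lit 0x1520444001800a000000000000001800)),
  (.fus (nat_lit 7) (unp (nat_lit 1) (nat_lit 3)) [], (nat_lit 0x5224a860800040000000800000000000)),
  (.fus (nat_lit 7) [nat_lit 3, nat_lit 2] (unp (nat_lit 3) (nat_lit 0x36b5a06)), (nat_lit 0x86a46590098009000000000000001400)),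
  (.fus (nat_lit 7) (unp (nat_lit 1) (nat_lit 1795)) [], (nat_lit 0x991444a0800080000000400080000000)),
  (.fus (nat_lit 7) (unp (nat_lit 2) (nat_lit 0x2a03)) [nat_lit 5], (nat_lit 0x11645490aa4056004000400080000800)),
  (.fus (nat_lit 8) [nat_lit 8, nat_lit 7] [nat_lit 7, nat_lit 8], (nat_lit 0x96089400118005000000100000000000)),
  (.fus (nat_lit 9) [nat_lit 11, nat_lit 9] (unp (nat_lit 4) (nat_lit 0xeddb905)), (nat_lit 0x5a004800014004000000000024000000)),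
  (.fus (nat_lit 9) [nat_lit 12, nat_lit 10] (unp (nat_lit 4) (nat_lit 0xeedca05)), (nat_lit 0x22086880008009000000000018000000))]

noncomputable def d3Fs : List ℕ :=
  [(nat_lit 0),
  (nat_lit 0),
  (nat_lit 0),
  (nat_lit 0x40000004400000000000000),
  (nat_lit 0x40000005000000000000000),
  (nat_lit 0x40000004000000000000000),
  (nat_lit 0x40000000000000000000000)]

noncomputable def d3la : List (List ℕ) :=
  [[(nat_lit 0x110010208218)],
  [(nat_lit 0x16000119850a58), (nat_lit 0x10060118400)],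
  [(nat_lit 0), (nat_lit 0), (nat_lit 0)],
  [(nat_lit 0x14980a614a5a58), (nat_lit 0x28909959a54620), (nat_lit 0x985156020145), (nat_lit 0x1500526a9)],
  [(nat_lit 0x28909a62599029), (nat_lit 0x14640592a44800), (nat_lit 0), (nat_lit 0x4915080), (nat_lit 0x204591414)],
  [(nat_lit 0x114649802), (nat_lit 0x4519105), (nat_lit 0x228a2a508), (nat_lit 128), (nat_lit 512), (nat_lit 1024)],
  [(nat_lit 0x8916206), (nat_lit 0x114559802), (nat_lit 0x228a2a50a), (nat_lit 0x2008), (nat_lit 0x8008), (nat_lit 8), (nat_lit 32)]]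

noncomputable def Ls : List ℕ :=
  [(nat_lit 0x35de82e6fba1d6806a95088481b98436ad48b59941677421a2120f99840907c0e0802d0790cc4261081866c434b9cf60347a6c144c3d19cfac155be528a4822e614bf08ab082ec31adc58b0412cc9ada631c476f381220ca39749a008243f0bc44180a90802495733578351f389e05e238142e4b1a34c501d390c454c56609db8d20c8c0aa934e4151ade892315e8625380106436a48385f39a60d87465b51c8237f1e4b0b45dbd6170772af950fc54c3ddae67896a13067dc007e77882e108c87b1752a36511d4d4ef6e94cb2c970a781cce6dbddfe256c340aca58638ca2990811954143fa1d8045371ad1c0b1e939068151a5c340c0384c042b3e36400b11e0253ec27d29d3ac73814074a661a69fa8587435648a37a589f035d2d542ea5b1701a89301d864cf29078aef245a80525b5ec44f101), (nat_lit 0x31ce2e242ac5203c558988a022d40cb8c85005ca00935938dce308bb868f5760c17e1b23af942ce458d8d44464c25f23529ae93c1d1d095090f6a19d80d732b499878190b12614543991482538ce003831068025656015e4df3abd9763e208ed84e528a54529c6dc296f11121f1acd34d3c48c490442d1e0b7d1544263169dc1eb557078bab275409e0206d1c9b0644325038ed142d1024d5c83202402a1bc0c0d4f8658ae789378f6f834061b2972c438f47f7f33c57073f3fc24835230d54690fb342076308e4b70443a993aa37e93d12004c80d8c15471780e2a38180a4437e262104a7dab5ee237437570d148bce20a50b12d5237708397a481fa20624c749b1e89240342186d6089c26ca4da35de2f6aacdc857052f0b30d57888bec475b2c850617258f2dc58011447d5b3811905399d07a66)]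

noncomputable def Ts : List ℕ :=
  [(nat_lit 0x3f1d4e8603a51ae45ec358910894260abc49a6d32f917a6103078739982af25b81eaef6a8e5e4f86bab1689286271f70887afa16eb7630d08d15c2d8da743c200447e7a3dd5a4a6a111eccc6f0fd504c6eaccf6470a17c910644a3a00e75d3e9cab981a4208646933cc0ae331fc2059783b5e637550d53ea61c335b4a71eb143445349009d1148a2d18964bbf92afd5db8e04bf70a1a150142a1dc48841b09348f4520928a534108ae23361cdb82429034f879391e82601021d996c9190d152b221b28cedf298293c3e18a8d9c462e2c4a8d91003074b008870de1f0e848c4d06b34d40a21b16c92b732b60d4612ead4bc6b3800de2a4773215641198f18c2b173fc4e050c0a82e07128b05adb3a960ac7d070781e775086ce23004058500b0ca74c65a27940dc216393412290a8184c512a8087600), (nat_lit 0x2b97706553053ebc882a57ac45a42e0aa25c30960ad5b3f408ed7cbb9e6f27d3f1eaf07dbbde8f17c3ddecba8240e010955ab210b95fa7a050788a9a1b0158ad53ac357afa1cc087a8224a454295fea78528d64b750ace18e520385aa351a0ddd0c56f90490ea24b347ee01e91852dc1cb45d24b2534d962f138b87c2d18bac86476e90850934718cb28104a512a6f322410c6a48a10d25429828c28826a3c229b31018a2602da250e8b3f8351810399493499371d826704b1dd1a6802a48da5c05978289c3a95cfc5d3317d006c3d820e81241830aa793e1c9300e0781cfa387339d90e4693246c4563b89d8d86d3398c2c1d8e9ae256b111a8e319899943267b79a02b1e0a9b6d9660c0985a42938ac8a282089e7a33994e26b3c25cb01a0c85446170e87c38210d8802c241107830fe018080200),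 (nat_lit 0x2ee16e54228a02ee689de21077b4212ac85a2f8baeb2a0fceb03863c5129e802ba0ae282314c28f5cb5e24f21b2f5c2fc61bbdc0fa6091dcced49948b2ce5429812ac203d1c8bc243e5d0c65833438314620932392f8a86f11501a9b0c287b4e0ce34e4396f0955945fe64283f4b85a8137d22f03f219fc72269ba14582ab58bcad3ca40e2b85d16c528b50ad5ea78753edd84a24bdd2cdb6e9c082d00f2496c4b070f134c9378d0aca906ac4c69f0b94cdaa5428440a2530021b89414354e698438ed66c46f07488cb0c8585c043a1edb40f443303624468f9002d52030069d79a39a8d21a9d954c0452fd5e45679b09e0735a9c84d973be136e919a0c4262409e82a4e51898d20165048cc46868e858131909c3410110f4980a178e03e5763808feb218194f80b3ea5c30680319c4023158508600), (nat_lit 0x2e1d09c7db51ba4885aa213085ebda0b0c68a1130ad369d0a2fc7c91e1ef27624deac16bba5e8c0252fa20e661ba9f0b477bde249b222f1d6e083c35bc991f9e044e457ab21cd51c92d884c17a016c143dacd1a926617cfd0370b89e235772fdbec25db8d3ce51b1199d1145325167779ab9566a8034e14a9181b022a13123c36342e24462ed6c36cec941d0712b018310572a030b1564b01f328847141c08a68614038e4b567a398c172d964f423463710a6f4b034ac1e7f148d22e13b59fe9f3281c4a642e979447c3ea8c106865a94f20a102201efd3a810a8010b15cb02c22b9df50424b35a4ba1e10190894d2c5b2324107554a75b8dde0901990c24383fa98d6d00d04c488716814ce106d0f4544e3807d2e7352060182b3000cccc710a74b429048ed020213134aa630a940166e278640c00),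 (nat_lit 0x2e222ed792a88ce185c35c0ea5ea4e0ac381a38ecd42d948defc74afdf0c124c19eafb73bc61eaf1ab9938fa5e2b9e8e86011e244269431c4bb83ad99a8c458413a8977a4872d3800d9a2323636d5027340899ea035a0cc2c461411f2f3763ddbe488491536e55d2a534b41e9fd6a9425421aa41872adbcdd162c846143ea198e6a34b611510202c560dc09a052a997b0d1c8ac8123c5e98673653c1f519f8f8c5310e8f43f532890e634fa58e629809dcc00406964e009373f596c950b20f66d15828346442b1908081417ca6ff2e1e038570a878ac740b945fc4f0101c9c431bbc17ceb774296e4b1c24520b91f20024a74b8855a4c2238daed6198c194d017235483c05838b45e0d99430a5120c504660795454726609802052e864b02d1dacdb41144074f20633880e2752680c4a54061402c00), (nat_lit 0x2e1d0ed79bd05c407e0bdc0ae6fbda0a4262120f4f8232c1b8646b9115e4a1b24dea351cb9d80d45591538374f421deb456ade24615626d72bb5e9b14c1c08820148f5511de2c17c90606263d841642c5401cd2bf2604986d148b91e0d525b4a0ed884b58fce51a32449110a9b4460d69ba9e44974bed9e7f159a02e301138870ec6f238411051294e6590b1512a79833b98af75e3adfe726d19a042a65431010459818e82965b84623f54810a46340a599c77289bc263b462619a9f21be96cdd138a05b0b1f0f584db4eb65630d851f0dc626308474765aa51321f079f5460564401c6895d235246a12a117c862d1e0b0670080e1e18502421ce6199949c1a2d970640b0d8090a8a1e050d6532e934185f072089efd53a90e2a14d02506d00c95cc0750e941fc56661792e8b438798f012aa20e000),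 (nat_lit 0x44a231087c3a1b0c85c2a130883c1a0b0481c0a03007fbf9fafc7dbe9f2f87bbd9eaf479bc9e2f077bb9daec75ba9d2e873b99cae471b89c2e06fb79badc6db69b2d86bb59aad469b49a2d067b399acc65b2992c863b198ac461b0982c05faf97abc5dae972b85bad96ab459ac962b057ab95aac55aa952a853a994aa451a8942a04fa793a9c4da6932984ba592a9449a49229047a391a8c45a29128843a190a8441a0902803f9f8fa7c3d9e8f2783b9d8ea74399c8e270379b8da6c359a8d26833998ca6431988c2602f978ba5c2d968b2582b958aa5429948a250279389a4c259289248239188a442190882401f8f87a3c1d8e872381b8d86a34198c86230178b85a2c158a85228138984a241188842200f8783a1c0d86832180b8582a14098482210078381a0c058281208038180a04018080200)]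

end H27.CovMc
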