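import Cfsg.Agent.H27.CovTitsD0

/-! The order and the multiplier of the Tits group. Checks. -/

set_option maxRecDepth 100000
set_option Elab.async false

namespace H27.CovTits

open Cfsg H13 H15 H14.PK H14.RK

theorem c1_5 : relOk (fN 12 1755 nets) (ssE lv) (nat_lit 2934) (nat_lit 549) = true := by decide +kernel

theorem c1_3 : relOk (fN 12 1755 nets) (ssE lv) (nat_lit 1752) (nat_lit 631) = true := by decide +kernel

theorem c1_2 : relOk (fN 12 1755 nets) (ssE lv) (nat_lit 1198) (nat_lit 554) = true := by decide +kernel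

theorem d2low : MG.pcLow 12 1755 nets (defM ds (ssM lv)) 54 d2D [(nat_lit 1, [nat_lit 0]), (nat_lit 3, [nat_lit 1, nat_lit 3]), (nat_lit 11, [nat_lit 3, nat_lit 4]), (nat_lit 91, [nat_lit 5, nat_lit 10]), (nat_lit 27, [nat_lit 9])] = true := by decide +kernel

theorem d5low : MG.pcLow 12 1755 nets (defM ds (ssM lv)) 71 d5D [(nat_lit 1, [nat_lit 1]), (nat_lit 3, [nat_lit 0])] = true := by decide +kernel

theorem d2c_0 : rng (fun i => cnOk d2D (nthD (.con [] 0 0, 0) d2cs i)) (nat_lit 0) (nat_lit 57) = true := by decide +kernel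

theorem c2_0 : relOk (fN 12 1755 nets) (defE ds []) (nat_lit 0) (nat_lit 21) = true := by decide +kernel

theorem d3c_0 : rng (fun i => cnOk d3D (nthD (.con [] 0 0, 0) d3cs i)) (nat_lit 0) (nat_lit 5) = true := by decide +kernel

theorem cd5_0 : relOk (fN 12 1755 nets) (shE 71 (pcE d5D)) (nat_lit 0) (nat_lit 6) = true := by decide +kernel

theorem d5t_0 : tgAll d5D d5cs d5Fs d5la (nat_lit 0) (nat_lit 2) = true := by decide +kernel

theorem d2cn : Nat.beq d2cs.length 57 = true := by decide +kernel

theorem d3ok : d3D.ok = true := by decide +kernel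

theorem d3h3 : band (Nat.ble d3cs.length d3D.fuel) (allL (fun f => force (d3D.wd f) (bdOk d3D.b d3D.N d3D.t)) d3Fs) = true := by decide +kernel

theorem d5cn : Nat.beq d5cs.length 3 = true := by decide +kernel

end H27.CovTits
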