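import Cfsg.Agent.H27.CovTitsD0

/-! The order and the multiplier of the Tits group. Checks. -/

set_option maxRecDepth 100000
set_option Elab.async false

namespace H27.CovTits

open Cfsg H13 H15 H14.PK H14.RK

theorem c1_4 : relOk (fN 12 1755 nets) (ssE lv) (nat_lit 2383) (nat_lit 551) = true := by decide +kernel

theorem c1_1 : relOk (fN 12 1755 nets) (ssE lv) (nat_lit 645) (nat_lit 553) = true := by decide +kernel

theorem c1_0 : relOk (fN 12 1755 nets) (ssE lv) (nat_lit 0) (nat_lit 645) = true := by decide +kernel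

theorem d3low : MG.pcLow 12 1755 nets (defM ds (ssM lv)) 67 d3D [(nat_lit 0, [nat_lit 0, nat_lit 1])] = true := by decide +kernel

theorem c1_6 : relOk (fN 12 1755 nets) (ssE lv) (nat_lit 3483) (nat_lit 163) = true := by decide +kernel

theorem d2t_0 : tgAll d2D d2cs d2Fs d2la (nat_lit 0) (nat_lit 11) = true := by decide +kernel

theorem cd2_0 : relOk (fN 12 1755 nets) (shE 54 (pcE d2D)) (nat_lit 0) (nat_lit 70) = true := by decide +kernel

theorem okN : H13.band (Nat.blt 0 12) (H13.band (Nat.ble 1755 (p2 (12 - 1))) (allL (Net.ok 12 1755) nets)) = true := by decide +kernel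

theorem d5c_0 : rng (fun i => cnOk d5D (nthD (.con [] 0 0, 0) d5cs i)) (nat_lit 0) (nat_lit 3) = true := by decide +kernel

theorem d3t_0 : tgAll d3D d3cs d3Fs d3la (nat_lit 0) (nat_lit 3) = true := by decide +kernel

theorem cd3_0 : relOk (fN 12 1755 nets) (shE 67 (pcE d3D)) (nat_lit 0) (nat_lit 9) = true := by decide +kernel

theorem d2ok : d2D.ok = true := by decide +kernel

theorem d2h3 : band (Nat.ble d2cs.length d2D.fuel) (allL (fun f => force (d2D.wd f) (bdOk d2D.b d2D.N d2D.t)) d2Fs) = true := by decide +kernel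

theorem d3cn : Nat.beq d3cs.length 5 = true := by decide +kernel

theorem d5ok : d5D.ok = true := by decide +kernel

theorem d5h3 : band (Nat.ble d5cs.length d5D.fuel) (allL (fun f => force (d5D.wd f) (bdOk d5D.b d5D.N d5D.t)) d5Fs) = true := by decide +kernel

end H27.CovTits
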