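import Cfsg.Agent.H27.MG5
import Cfsg.Agent.H15.J2
import Cfsg.Agent.H15.J2Ad

/-! The Hall-Janko group on 100 points: `H27.J2.model`, element orders `pow_eq_one`, `exists_order`. -/

set_option autoImplicit false
set_option maxRecDepth 100000

namespace H27.J2
open H13 H14.PK H14.PK.TS H27.PKx H27.MG Cfsg

def Ls : List ℕ := [nat_lit 0x451e47305c62535b5123602a4a06361b462b5f3a042f24216127573d1d481c424b5414150d1859205250052d293f4d632c0e3b5d39341122164e4f3e490332375a0c0917402e4c5e443c1019381f3158283508022533070f0b13431a56014112260a5500, nat_lit 0x635d29084d182a5f2b42161420374c50391e1223533e3a2f4b1361603c2625595a33560b4e49524824171054325b5c0e3162400a381d06004f41192d45221147551a4a46305e1544350d3f581b09033d04270c361c215751432e023b282c34051f0f0701]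
def bs : List ℕ := [nat_lit 1, nat_lit 0, nat_lit 2, nat_lit 3]

theorem model : ∃ S : TS Spor.J2 8 100, Mdl S Ls bs 604800 :=
  mdl_act (H15.J2.Aq _ _ H15.J2.pi_surj (H15.J2.pi_ker.trans H15.J2.cov.cen).le) (us := [[nat_lit 15, nat_lit 4, nat_lit 14], [nat_lit 10, nat_lit 4, nat_lit 2]]) (pr := [[nat_lit 1, nat_lit 0, nat_lit 0],
   [nat_lit 1, nat_lit 1, nat_lit 0, nat_lit 0, nat_lit 0, nat_lit 2, nat_lit 0],
   [nat_lit 2, nat_lit 3, nat_lit 1, nat_lit 2, nat_lit 1, nat_lit 3, nat_lit 2],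
   [nat_lit 1, nat_lit 1, nat_lit 0],
   [nat_lit 2, nat_lit 0, nat_lit 1, nat_lit 1, nat_lit 1, nat_lit 0],
   [nat_lit 2, nat_lit 1],
   [nat_lit 1, nat_lit 0, nat_lit 0, nat_lit 0, nat_lit 1, nat_lit 0],
   [nat_lit 2, nat_lit 1, nat_lit 1, nat_lit 2, nat_lit 0, nat_lit 2, nat_lit 0]])
    (lv := [(nat_lit 1, [nat_lit 8, nat_lit 9]), (nat_lit 0, [nat_lit 6, nat_lit 5]), (nat_lit 2, [nat_lit 3, nat_lit 2]), (nat_lit 3, [nat_lit 0])]) H15.J2.card_J2 (by decide +kernel)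

/-- maximal element orders -/
def Ms : List ℕ := [7, 8, 10, 12, 15]

theorem pow_eq_one (x : Spor.J2) : ∃ m ∈ Ms, x ^ m = 1 := by
  obtain ⟨S, M⟩ := model
  have := S.finite
  refine spec_upper (ps := [3, 5, 7]) (q := 2) (fun p hp hd => ?_) (List.forall_mem_cons.2 ⟨?_, List.forall_mem_cons.2 ⟨?_,
    List.forall_mem_singleton.2 ?_⟩⟩) (orders_of M (j := 7) (m := 4725) (by norm_num) (by norm_num) (by norm_num)
    (pr := [[nat_lit 1, nat_lit 0, nat_lit 0],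
   [nat_lit 1, nat_lit 1, nat_lit 0, nat_lit 0, nat_lit 0, nat_lit 2, nat_lit 0],
   [nat_lit 2, nat_lit 3, nat_lit 1, nat_lit 2, nat_lit 1, nat_lit 3, nat_lit 2],
   [nat_lit 1, nat_lit 1, nat_lit 0],
   [nat_lit 2, nat_lit 0, nat_lit 1, nat_lit 1, nat_lit 1, nat_lit 0],
   [nat_lit 2, nat_lit 1],
   [nat_lit 1, nat_lit 0, nat_lit 0, nat_lit 0, nat_lit 1, nat_lit 0],
   [nat_lit 2, nat_lit 1, nat_lit 1, nat_lit 2, nat_lit 0, nat_lit 2, nat_lit 0],
   [nat_lit 0, nat_lit 0, nat_lit 3, nat_lit 2, nat_lit 6, nat_lit 4, nat_lit 4, nat_lit 4, nat_lit 4, nat_lit 8, nat_lit 8, nat_lit 9, nat_lit 8],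
   [nat_lit 4, nat_lit 3, nat_lit 4, nat_lit 7, nat_lit 7, nat_lit 7, nat_lit 9, nat_lit 9, nat_lit 10, nat_lit 10, nat_lit 10, nat_lit 8],
   [nat_lit 2, nat_lit 2, nat_lit 2, nat_lit 5, nat_lit 3, nat_lit 8, nat_lit 7, nat_lit 8, nat_lit 6, nat_lit 10, nat_lit 10, nat_lit 9, nat_lit 9, nat_lit 11, nat_lit 10]]) (pr' := [[],
   [nat_lit 2, nat_lit 1],
   [nat_lit 4, nat_lit 2],
   [nat_lit 3, nat_lit 4],
   [nat_lit 5, nat_lit 5],
   [nat_lit 7, nat_lit 6],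
   [nat_lit 6, nat_lit 8],
   [nat_lit 8, nat_lit 9],
   [nat_lit 10, nat_lit 10],
   [nat_lit 9, nat_lit 7],
   [nat_lit 11, nat_lit 8],
   [nat_lit 13, nat_lit 9],
   [nat_lit 12, nat_lit 9],
   [nat_lit 14, nat_lit 10],
   [nat_lit 16, nat_lit 11],
   [nat_lit 17, nat_lit 11],
   [nat_lit 16, nat_lit 11],
   [nat_lit 18, nat_lit 12],
   [nat_lit 20, nat_lit 13],
   [nat_lit 19, nat_lit 13],
   [nat_lit 21, nat_lit 14],
   [nat_lit 23, nat_lit 15],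
   [nat_lit 23, nat_lit 15],
   [nat_lit 25, nat_lit 16],
   [nat_lit 24, nat_lit 16],
   [nat_lit 26, nat_lit 17],
   [nat_lit 28, nat_lit 18],
   [nat_lit 28, nat_lit 18],
   [nat_lit 30, nat_lit 19],
   [nat_lit 31, nat_lit 19],
   [nat_lit 30, nat_lit 19],
   [nat_lit 32, nat_lit 20],
   [nat_lit 34, nat_lit 21],
   [nat_lit 33, nat_lit 21],
   [nat_lit 35, nat_lit 22],
   [nat_lit 37, nat_lit 23],
   [nat_lit 37, nat_lit 23],
   [nat_lit 39, nat_lit 24],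
   [nat_lit 38, nat_lit 24],
   [nat_lit 40, nat_lit 25],
   [nat_lit 42, nat_lit 26],
   [nat_lit 42, nat_lit 26],
   [nat_lit 44, nat_lit 27],
   [nat_lit 43, nat_lit 27],
   [nat_lit 45, nat_lit 28],
   [nat_lit 47, nat_lit 29],
   [nat_lit 48, nat_lit 29],
   [nat_lit 47, nat_lit 29],
   [nat_lit 49, nat_lit 30],
   [nat_lit 51, nat_lit 31],
   [nat_lit 50, nat_lit 31],
   [nat_lit 52, nat_lit 32],
   [nat_lit 54, nat_lit 33],
   [nat_lit 54, nat_lit 33],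
   [nat_lit 56, nat_lit 34],
   [nat_lit 55, nat_lit 34],
   [nat_lit 57, nat_lit 35],
   [nat_lit 59, nat_lit 36],
   [nat_lit 59, nat_lit 36],
   [nat_lit 61, nat_lit 37],
   [nat_lit 60, nat_lit 37],
   [nat_lit 62, nat_lit 38],
   [nat_lit 64, nat_lit 39],
   [nat_lit 64, nat_lit 39],
   [nat_lit 66, nat_lit 40],
   [nat_lit 67, nat_lit 40],
   [nat_lit 66, nat_lit 40],
   [nat_lit 67, nat_lit 40],
   [nat_lit 68, nat_lit 40],
   [nat_lit 70, nat_lit 41],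
   [nat_lit 70, nat_lit 40],
   [nat_lit 72, nat_lit 41],
   [nat_lit 74, nat_lit 42],
   [nat_lit 75, nat_lit 42],
   [nat_lit 74, nat_lit 42],
   [nat_lit 76, nat_lit 43],
   [nat_lit 78, nat_lit 44],
   [nat_lit 77, nat_lit 44],
   [nat_lit 79, nat_lit 45],
   [nat_lit 81, nat_lit 46],
   [nat_lit 81, nat_lit 46],
   [nat_lit 83, nat_lit 47],
   [nat_lit 82, nat_lit 47],
   [nat_lit 84, nat_lit 48],
   [nat_lit 86, nat_lit 49],
   [nat_lit 86, nat_lit 49],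
   [nat_lit 88, nat_lit 50],
   [nat_lit 87, nat_lit 50],
   [nat_lit 89, nat_lit 51],
   [nat_lit 91, nat_lit 52],
   [nat_lit 91, nat_lit 52],
   [nat_lit 93, nat_lit 53],
   [nat_lit 94, nat_lit 53],
   [nat_lit 93, nat_lit 53],
   [nat_lit 94, nat_lit 53],
   [nat_lit 95, nat_lit 53],
   [nat_lit 97, nat_lit 54],
   [nat_lit 98, nat_lit 53],
   [nat_lit 99, nat_lit 53],
   [nat_lit 101, nat_lit 54],
   [nat_lit 101, nat_lit 54],
   [nat_lit 103, nat_lit 55],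
   [nat_lit 104, nat_lit 52],
   [nat_lit 104, nat_lit 52],
   [nat_lit 106, nat_lit 53],
   [nat_lit 107, nat_lit 51],
   [nat_lit 108, nat_lit 50],
   [nat_lit 107, nat_lit 44],
   [nat_lit 109, nat_lit 43],
   [nat_lit 111, nat_lit 44],
   [nat_lit 111, nat_lit 39],
   [nat_lit 112, nat_lit 39],
   [nat_lit 114, nat_lit 40],
   [nat_lit 114, nat_lit 40],
   [nat_lit 116, nat_lit 41],
   [nat_lit 117, nat_lit 38],
   [nat_lit 117, nat_lit 38],
   [nat_lit 119, nat_lit 39],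
   [nat_lit 120, nat_lit 37],
   [nat_lit 121, nat_lit 36],
   [nat_lit 120, nat_lit 30],
   [nat_lit 122, nat_lit 29],
   [nat_lit 124, nat_lit 30],
   [nat_lit 123, nat_lit 25],
   [nat_lit 124, nat_lit 13]])
    (qs := [nat_lit 2, nat_lit 1, nat_lit 0]) (by decide +kernel)) x
  · simpa [or_comm] using primes_of (ps := [2, 3, 5, 7]) (k := 7) (by decide +kernel) hp (M.card ▸ hd)
  · refine of_classes (classes_of M (j := 3) (m := 22400) (by norm_num) (by norm_num) (by norm_num)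
    (pr := [[nat_lit 1, nat_lit 0, nat_lit 0],
   [nat_lit 1, nat_lit 1, nat_lit 0, nat_lit 0, nat_lit 0, nat_lit 2, nat_lit 0],
   [nat_lit 2, nat_lit 3, nat_lit 1, nat_lit 2, nat_lit 1, nat_lit 3, nat_lit 2],
   [nat_lit 1, nat_lit 1, nat_lit 0],
   [nat_lit 2, nat_lit 0, nat_lit 1, nat_lit 1, nat_lit 1, nat_lit 0],
   [nat_lit 2, nat_lit 1],
   [nat_lit 1, nat_lit 0, nat_lit 0, nat_lit 0, nat_lit 1, nat_lit 0],
   [nat_lit 2, nat_lit 1, nat_lit 1, nat_lit 2, nat_lit 0, nat_lit 2, nat_lit 0],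
   [nat_lit 3, nat_lit 2, nat_lit 2, nat_lit 2, nat_lit 5, nat_lit 6, nat_lit 4, nat_lit 6, nat_lit 4, nat_lit 8, nat_lit 8, nat_lit 9, nat_lit 9],
   [nat_lit 4, nat_lit 3, nat_lit 4, nat_lit 4, nat_lit 6, nat_lit 7, nat_lit 6, nat_lit 5, nat_lit 10, nat_lit 8, nat_lit 8, nat_lit 10],
   [],
   [nat_lit 3, nat_lit 3, nat_lit 3, nat_lit 5, nat_lit 5, nat_lit 9, nat_lit 9, nat_lit 9, nat_lit 9, nat_lit 11, nat_lit 10, nat_lit 11, nat_lit 12],
   [],
   [nat_lit 6, nat_lit 10, nat_lit 10, nat_lit 9, nat_lit 13, nat_lit 12],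
   [nat_lit 6, nat_lit 6, nat_lit 9, nat_lit 8, nat_lit 9, nat_lit 8, nat_lit 12, nat_lit 12, nat_lit 10, nat_lit 14, nat_lit 15, nat_lit 15, nat_lit 13, nat_lit 15],
   [nat_lit 7, nat_lit 7, nat_lit 7, nat_lit 10, nat_lit 8, nat_lit 13, nat_lit 12, nat_lit 12, nat_lit 12, nat_lit 11, nat_lit 16, nat_lit 14],
   [nat_lit 8, nat_lit 8, nat_lit 10, nat_lit 14, nat_lit 13, nat_lit 16, nat_lit 17, nat_lit 15, nat_lit 16, nat_lit 17],
   [nat_lit 9, nat_lit 9, nat_lit 11, nat_lit 12, nat_lit 11, nat_lit 11, nat_lit 14, nat_lit 14, nat_lit 15, nat_lit 18, nat_lit 16, nat_lit 17, nat_lit 17, nat_lit 18],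
   [nat_lit 10, nat_lit 10, nat_lit 10, nat_lit 12, nat_lit 13, nat_lit 15, nat_lit 15, nat_lit 14, nat_lit 19, nat_lit 17, nat_lit 17, nat_lit 19, nat_lit 17],
   [nat_lit 11, nat_lit 11, nat_lit 13, nat_lit 14, nat_lit 14, nat_lit 13, nat_lit 15, nat_lit 17, nat_lit 16, nat_lit 17, nat_lit 19, nat_lit 18, nat_lit 20, nat_lit 20, nat_lit 18],
   [nat_lit 12, nat_lit 12, nat_lit 18, nat_lit 16, nat_lit 16, nat_lit 16, nat_lit 17, nat_lit 20, nat_lit 20, nat_lit 21, nat_lit 21, nat_lit 20],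
   [nat_lit 13, nat_lit 13, nat_lit 13, nat_lit 15, nat_lit 15, nat_lit 15, nat_lit 18, nat_lit 18, nat_lit 17, nat_lit 18, nat_lit 22, nat_lit 22],
   [nat_lit 17, nat_lit 16, nat_lit 19, nat_lit 20, nat_lit 18, nat_lit 22, nat_lit 21, nat_lit 22, nat_lit 22, nat_lit 21],
   [nat_lit 15, nat_lit 15, nat_lit 15, nat_lit 18, nat_lit 17, nat_lit 17, nat_lit 21, nat_lit 20, nat_lit 19, nat_lit 21, nat_lit 23, nat_lit 23, nat_lit 24, nat_lit 24, nat_lit 24, nat_lit 22],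
   [nat_lit 22, nat_lit 22, nat_lit 20, nat_lit 21, nat_lit 24, nat_lit 25, nat_lit 25, nat_lit 24],
   [nat_lit 17, nat_lit 19, nat_lit 19, nat_lit 21, nat_lit 21, nat_lit 26, nat_lit 24, nat_lit 24, nat_lit 26],
   [nat_lit 18, nat_lit 18, nat_lit 20, nat_lit 24, nat_lit 27, nat_lit 27, nat_lit 26, nat_lit 25],
   [nat_lit 19, nat_lit 22, nat_lit 21, nat_lit 22, nat_lit 22, nat_lit 21, nat_lit 24, nat_lit 24, nat_lit 24, nat_lit 27, nat_lit 26, nat_lit 27, nat_lit 28],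
   [nat_lit 20, nat_lit 20, nat_lit 22, nat_lit 26, nat_lit 26, nat_lit 24, nat_lit 24, nat_lit 28, nat_lit 28, nat_lit 27, nat_lit 28, nat_lit 29, nat_lit 28],
   [nat_lit 21, nat_lit 21, nat_lit 21, nat_lit 23, nat_lit 24, nat_lit 23, nat_lit 26, nat_lit 27, nat_lit 29, nat_lit 30, nat_lit 29],
   [nat_lit 22, nat_lit 24, nat_lit 24, nat_lit 28, nat_lit 27, nat_lit 27, nat_lit 30, nat_lit 31, nat_lit 31, nat_lit 30, nat_lit 29],
   [nat_lit 23, nat_lit 23, nat_lit 26, nat_lit 25, nat_lit 26, nat_lit 25, nat_lit 25, nat_lit 27, nat_lit 27, nat_lit 28, nat_lit 31, nat_lit 31, nat_lit 30, nat_lit 31, nat_lit 32, nat_lit 31],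
   [nat_lit 24, nat_lit 24, nat_lit 24, nat_lit 27, nat_lit 26, nat_lit 27, nat_lit 27, nat_lit 30, nat_lit 30, nat_lit 28, nat_lit 29, nat_lit 32, nat_lit 32, nat_lit 33, nat_lit 33, nat_lit 31, nat_lit 33],
   [nat_lit 25, nat_lit 27, nat_lit 28, nat_lit 31, nat_lit 30, nat_lit 30, nat_lit 30, nat_lit 29, nat_lit 33, nat_lit 33, nat_lit 34, nat_lit 34, nat_lit 34, nat_lit 32],
   [],
   [nat_lit 29, nat_lit 30, nat_lit 28, nat_lit 29, nat_lit 33, nat_lit 31, nat_lit 33, nat_lit 31, nat_lit 35, nat_lit 35, nat_lit 34, nat_lit 35, nat_lit 34],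
   [nat_lit 28, nat_lit 31, nat_lit 30, nat_lit 30, nat_lit 33, nat_lit 34, nat_lit 36, nat_lit 37, nat_lit 35, nat_lit 35, nat_lit 35]]) (pr' := [[],
   [nat_lit 1, nat_lit 1],
   [nat_lit 3, nat_lit 2],
   [nat_lit 3, nat_lit 4],
   [nat_lit 5, nat_lit 5],
   [nat_lit 6, nat_lit 3],
   [nat_lit 6, nat_lit 3],
   [nat_lit 8, nat_lit 4],
   [nat_lit 8, nat_lit 4],
   [nat_lit 10, nat_lit 5],
   [nat_lit 10, nat_lit 5],
   [nat_lit 11, nat_lit 5],
   [nat_lit 13, nat_lit 6],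
   [nat_lit 13, nat_lit 6],
   [nat_lit 15, nat_lit 7],
   [nat_lit 15, nat_lit 7],
   [nat_lit 17, nat_lit 6],
   [nat_lit 18, nat_lit 6],
   [nat_lit 18, nat_lit 6],
   [nat_lit 20, nat_lit 7],
   [nat_lit 20, nat_lit 7],
   [nat_lit 22, nat_lit 6],
   [nat_lit 23, nat_lit 6],
   [nat_lit 24, nat_lit 3],
   [nat_lit 25, nat_lit 3]])
    (qs := [nat_lit 28, nat_lit 27]) (cs := [nat_lit 26, nat_lit 25, nat_lit 24, nat_lit 23, nat_lit 22, nat_lit 21, nat_lit 20, nat_lit 19, nat_lit 18, nat_lit 17, nat_lit 16, nat_lit 15, nat_lit 14, nat_lit 13, nat_lit 12, nat_lit 11, nat_lit 10, nat_lit 9, nat_lit 8, nat_lit 7, nat_lit 6, nat_lit 5, nat_lit 4, nat_lit 3, nat_lit 2, nat_lit 1, nat_lit 0])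
    (Z := [nat_lit 0x59511d53491b4c215e402e4f3428201c3d0247360455384448574509625c5f5d541e080d2d50603c41183915373e354a0b333a610a6324120e1925144226113f220f464e1f2730435b1a16312c2a4d561017290323065a0c32014b3b072b525813052f00, nat_lit 0x535c615e512e1e4559323d2234243e5d1b5621110f360a270957474b464962424443183302255b073a1226011a293c4a03102c3016600508584d4e3f1c0c5552062b5f5037541d4c631f381741152f2d0d3b205a0e4f0b39132a48313504142340281900]) (by decide +kernel)) (by norm_num) ?_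
    simp only [List.forall_mem_cons]
    exact ⟨(M.cen (A := nat_lit 0x59511d53491b4c215e402e4f3428201c3d0247360455384448574509625c5f5d541e080d2d50603c41183915373e354a0b333a610a6324120e1925144226113f220f464e1f2730435b1a16312c2a4d561017290323065a0c32014b3b072b525813052f00) (Ms := Ms) (gs := [nat_lit 0x451e47305c62535b5123602a4a06361b462b5f3a042f24216127573d1d481c424b5414150d1859205250052d293f4d632c0e3b5d39341122164e4f3e490332375a0c0917402e4c5e443c1019381f3158283508022533070f0b13431a56014112260a5500, nat_lit 0x635d29084d182a5f2b42161420374c50391e1223533e3a2f4b1361603c2625595a33560b4e49524824171054325b5c0e3162400a381d06004f41192d45221147551a4a46305e1544350d3f581b09033d04270c361c215751432e023b282c34051f0f0701, nat_lit 0x5f32125a2b154d273f25594607402c374f2a3b025c3663554a2922572430353306483d31194e043934621651562d0e3a0a381c1f1342280b525d610d4918450c2e091b3c175b500f033e215e05441d584b2f434754081a11412053600010144c1e260123,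 nat_lit 0x8006120265912551135501f1738623a1e4d090a2c3f2b27135f402151232a455b19044e463022633431331a3d06180b4a0c4837025c411c441d5a10532f60430d58325e3e57524705242e5d030e29363c15561b144b4954282507164f2d3b0f4c390142, nat_lit 0x4b222b4a5d612a0d1a153c6219543446575007290c100a40445e4e0b043e6018414f2753423703254921260523303928455638062f173a2d330e12000f1d355b32551413471f593d11432e204c63525116084836244d3f0931025c5a2c3b1b1c1e5f0158, nat_lit 0x6127634b5d4a5f1c34081d28532d2c474815421314170e495e604c1b1e54444551213a3b230309263132350607103c3d5a0d0b2e2f30223e160229245c39250f4f0443121f465962570c053336522b3f2050114e582a4137400a5b181a193856554d0100, nat_lit 0x29586120025e0e435b13256231423d214e454f5051534d063318050b041c522b5c562c100f3e553c173435381f36393a4b0957302f112341442a631e142659222d24546037281d461b00194a3b1615275a082e403f5d0307480a32120c4c49470d5f011a, nat_lit 0x632261505d205f5655085943105c5b4f36520f60541b2a4912134c172314444558240d3b1e3d3e354032261937533c03183a0b302f2e27092b4d29212d3925424762285e003f1d044e1a3833481516464a4b1157510e4107310a2c5a0c06051c3402011f,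 nat_lit 0x635429332a5a4d3f0d5e5923571e41620b521c18223b5d38124a1917432416154714551b5c3a32354e3e394c1a313c34603d36112f2e21092b5f612728261d46584f2d08075625514037495048454442134b3010040e5b00530a2c201f06050f0302010c])
    (pr := [[nat_lit 1, nat_lit 0, nat_lit 0],
   [nat_lit 1, nat_lit 1, nat_lit 0, nat_lit 0, nat_lit 0, nat_lit 2, nat_lit 0],
   [nat_lit 2, nat_lit 3, nat_lit 1, nat_lit 2, nat_lit 1, nat_lit 3, nat_lit 2],
   [nat_lit 1, nat_lit 1, nat_lit 0],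
   [nat_lit 2, nat_lit 0, nat_lit 1, nat_lit 1, nat_lit 1, nat_lit 0],
   [nat_lit 2, nat_lit 1],
   [nat_lit 1, nat_lit 0, nat_lit 0, nat_lit 0, nat_lit 1, nat_lit 0],
   [nat_lit 2, nat_lit 1, nat_lit 1, nat_lit 2, nat_lit 0, nat_lit 2, nat_lit 0],
   [nat_lit 0, nat_lit 3, nat_lit 2, nat_lit 2, nat_lit 2, nat_lit 6, nat_lit 6, nat_lit 4, nat_lit 5, nat_lit 8, nat_lit 9, nat_lit 7],
   [nat_lit 1, nat_lit 1, nat_lit 3, nat_lit 3, nat_lit 3, nat_lit 7, nat_lit 6, nat_lit 6, nat_lit 6, nat_lit 5],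
   [nat_lit 5, nat_lit 4, nat_lit 8, nat_lit 6, nat_lit 7, nat_lit 6],
   [nat_lit 3, nat_lit 3, nat_lit 5, nat_lit 5, nat_lit 5, nat_lit 7, nat_lit 9],
   [nat_lit 7, nat_lit 6, nat_lit 7, nat_lit 6, nat_lit 6],
   [nat_lit 5, nat_lit 5, nat_lit 7, nat_lit 8, nat_lit 11, nat_lit 9, nat_lit 11],
   [nat_lit 6, nat_lit 6, nat_lit 9, nat_lit 8, nat_lit 8, nat_lit 8, nat_lit 11, nat_lit 11, nat_lit 10],
   [nat_lit 7, nat_lit 9, nat_lit 10, nat_lit 8, nat_lit 13, nat_lit 11, nat_lit 13, nat_lit 12]])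
    (prs := [(nat_lit 1, [(nat_lit 0, nat_lit 0), (nat_lit 1, nat_lit 1), (nat_lit 0, nat_lit 1), (nat_lit 1, nat_lit 2), (nat_lit 0, nat_lit 2), (nat_lit 1, nat_lit 3), (nat_lit 0, nat_lit 3), (nat_lit 1, nat_lit 4), (nat_lit 0, nat_lit 4), (nat_lit 1, nat_lit 5), (nat_lit 0, nat_lit 5), (nat_lit 1, nat_lit 6), (nat_lit 0, nat_lit 6), (nat_lit 1, nat_lit 7), (nat_lit 0, nat_lit 7), (nat_lit 1, nat_lit 8), (nat_lit 0, nat_lit 8), (nat_lit 1, nat_lit 9), (nat_lit 0, nat_lit 9), (nat_lit 1, nat_lit 10), (nat_lit 0, nat_lit 10), (nat_lit 1, nat_lit 11), (nat_lit 1, nat_lit 11), (nat_lit 0, nat_lit 11), (nat_lit 1, nat_lit 12), (nat_lit 0, nat_lit 12), (nat_lit 1, nat_lit 13), (nat_lit 0, nat_lit 13), (nat_lit 1, nat_lit 13), (nat_lit 0, nat_lit 12), (nat_lit 1, nat_lit 13), (nat_lit 0, nat_lit 13), (nat_lit 1, nat_lit 14), (nat_lit 0, nat_lit 14), (nat_lit 1, nat_lit 15), (nat_lit 0, nat_lit 15), (nat_lit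 1, nat_lit 16), (nat_lit 0, nat_lit 16), (nat_lit 1, nat_lit 17), (nat_lit 1, nat_lit 17), (nat_lit 0, nat_lit 17), (nat_lit 1, nat_lit 18), (nat_lit 1, nat_lit 18), (nat_lit 0, nat_lit 18), (nat_lit 1, nat_lit 19), (nat_lit 1, nat_lit 19), (nat_lit 1, nat_lit 19), (nat_lit 0, nat_lit 19), (nat_lit 1, nat_lit 20), (nat_lit 1, nat_lit 20), (nat_lit 0, nat_lit 20), (nat_lit 1, nat_lit 21), (nat_lit 0, nat_lit 21), (nat_lit 0, nat_lit 21), (nat_lit 0, nat_lit 21), (nat_lit 1, nat_lit 22), (nat_lit 0, nat_lit 22), (nat_lit 1, nat_lit 23), (nat_lit 0, nat_lit 23), (nat_lit 1, nat_lit 24), (nat_lit 1, nat_lit 24), (nat_lit 0, nat_lit 23), (nat_lit 1, nat_lit 24), (nat_lit 0, nat_lit 23), (nat_lit 1, nat_lit 24), (nat_lit 1, nat_lit 24), (nat_lit 0, nat_lit 22), (nat_lit 0, nat_lit 22), (nat_lit 1, nat_lit 23), (nat_lit 0, nat_lit 23), (nat_lit 1, nat_lit 24), (nat_lit 0, nat_lit 24), (nat_lit 1, nat_lit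 24), (nat_lit 0, nat_lit 23), (nat_lit 1, nat_lit 24), (nat_lit 0, nat_lit 23), (nat_lit 1, nat_lit 24), (nat_lit 0, nat_lit 23), (nat_lit 1, nat_lit 24), (nat_lit 0, nat_lit 21), (nat_lit 1, nat_lit 22), (nat_lit 1, nat_lit 22), (nat_lit 0, nat_lit 22), (nat_lit 1, nat_lit 23), (nat_lit 0, nat_lit 21), (nat_lit 0, nat_lit 21), (nat_lit 0, nat_lit 20), (nat_lit 1, nat_lit 20), (nat_lit 1, nat_lit 20), (nat_lit 1, nat_lit 18), (nat_lit 0, nat_lit 18), (nat_lit 0, nat_lit 18), (nat_lit 0, nat_lit 17), (nat_lit 1, nat_lit 18), (nat_lit 0, nat_lit 16), (nat_lit 1, nat_lit 17), (nat_lit 1, nat_lit 10), (nat_lit 1, nat_lit 4), (nat_lit 0, nat_lit 4)]),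
   (nat_lit 47, [(nat_lit 2, nat_lit 0), (nat_lit 3, nat_lit 1), (nat_lit 2, nat_lit 1), (nat_lit 3, nat_lit 2), (nat_lit 2, nat_lit 2), (nat_lit 3, nat_lit 3), (nat_lit 2, nat_lit 3), (nat_lit 3, nat_lit 3), (nat_lit 2, nat_lit 3), (nat_lit 2, nat_lit 3), (nat_lit 3, nat_lit 4), (nat_lit 2, nat_lit 4), (nat_lit 3, nat_lit 5), (nat_lit 3, nat_lit 5), (nat_lit 2, nat_lit 5), (nat_lit 3, nat_lit 6), (nat_lit 2, nat_lit 6), (nat_lit 3, nat_lit 7), (nat_lit 2, nat_lit 7), (nat_lit 2, nat_lit 7), (nat_lit 3, nat_lit 8), (nat_lit 2, nat_lit 8), (nat_lit 2, nat_lit 8), (nat_lit 2, nat_lit 8), (nat_lit 3, nat_lit 9), (nat_lit 2, nat_lit 9), (nat_lit 3, nat_lit 10), (nat_lit 3, nat_lit 10), (nat_lit 2, nat_lit 9), (nat_lit 3, nat_lit 10), (nat_lit 3, nat_lit 9), (nat_lit 2, nat_lit 9), (nat_lit 2, nat_lit 8), (nat_lit 3, nat_lit 8), (nat_lit 3, nat_lit 6)]),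
   (nat_lit 10, [(nat_lit 4, nat_lit 0), (nat_lit 4, nat_lit 0), (nat_lit 4, nat_lit 0), (nat_lit 4, nat_lit 0), (nat_lit 4, nat_lit 0), (nat_lit 4, nat_lit 0)]),
   (nat_lit 2, [(nat_lit 5, nat_lit 0), (nat_lit 6, nat_lit 1), (nat_lit 5, nat_lit 1), (nat_lit 5, nat_lit 1), (nat_lit 5, nat_lit 1)]),
   (nat_lit 3, [(nat_lit 7, nat_lit 0)]),
   (nat_lit 4, [(nat_lit 8, nat_lit 0)])]) (by decide +kernel)).2,
    (M.cen (A := nat_lit 0x535c615e512e1e4559323d2234243e5d1b5621110f360a270957474b464962424443183302255b073a1226011a293c4a03102c3016600508584d4e3f1c0c5552062b5f5037541d4c631f381741152f2d0d3b205a0e4f0b39132a48313504142340281900) (Ms := Ms) (gs := [nat_lit 0x451e47305c62535b5123602a4a06361b462b5f3a042f24216127573d1d481c424b5414150d1859205250052d293f4d632c0e3b5d39341122164e4f3e490332375a0c0917402e4c5e443c1019381f3158283508022533070f0b13431a56014112260a5500, nat_lit 0x635d29084d182a5f2b42161420374c50391e1223533e3a2f4b1361603c2625595a33560b4e49524824171054325b5c0e3162400a381d06004f41192d45221147551a4a46305e1544350d3f581b09033d04270c361c215751432e023b282c34051f0f0701,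 nat_lit 0x26040e085920395462602f0b38370947071d342b412d35465f2a243b4c4e524a062e325c211a0f332300151c4f554b3e123f3d314d360d283c255d4256615a53482c0363051f133a43512244174518110a025730141658400c5e1e29491b19275b500110, nat_lit 0x202d25452b4d5e49075d0e1c57115641342f3f2932285a5b3513580f09366118372e3e001b3040150d4826274c466042501924044a0b3a4e08633c431f5944314f5c1e021a17333d233b0c4b54121606521d620555394751032a380a2c531021145f0122, nat_lit 0x5251502b251d60233635084f53170322625f3d4d55581527290e4047410f025a2d3b3448001b0d160c494a5b4338180563284e3e2a42463a133c452e062f12541c2124445c11613f301f195d070a5e4c394b560b1a20310904261e333214102c57590137, nat_lit 0x251e166012264a411b2b6328034f3d484e13623c58530a464502230f00055a332c5124541036555e32433938475b355c52570d3015074c224b1d595637502934063a0b2004422a493e14195f09612f1f440e0c214018172e3f4d315d111c2d1a3b080127, nat_lit 0x590915395a5e33213e0229321e03535c3d1817503b551d045d5227414c1a4a12540d0b34225b4e3c514020382d1b60100e62283016071f48080a25570526633f370f433523314d00361c19454f2f61495f2b0c3a244b562e2c2a58441147140642130146])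
    (pr := [[nat_lit 1, nat_lit 0, nat_lit 0],
   [nat_lit 1, nat_lit 1, nat_lit 0, nat_lit 0, nat_lit 0, nat_lit 2, nat_lit 0],
   [nat_lit 2, nat_lit 3, nat_lit 1, nat_lit 2, nat_lit 1, nat_lit 3, nat_lit 2],
   [nat_lit 1, nat_lit 1, nat_lit 0],
   [nat_lit 2, nat_lit 0, nat_lit 1, nat_lit 1, nat_lit 1, nat_lit 0],
   [nat_lit 2, nat_lit 1],
   [nat_lit 1, nat_lit 0, nat_lit 0, nat_lit 0, nat_lit 1, nat_lit 0],
   [nat_lit 2, nat_lit 1, nat_lit 1, nat_lit 2, nat_lit 0, nat_lit 2, nat_lit 0],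
   [nat_lit 0, nat_lit 2, nat_lit 2, nat_lit 6, nat_lit 5, nat_lit 5, nat_lit 8, nat_lit 9, nat_lit 8],
   [nat_lit 1, nat_lit 4, nat_lit 3, nat_lit 3, nat_lit 3, nat_lit 6, nat_lit 7, nat_lit 6, nat_lit 5],
   [nat_lit 2, nat_lit 2, nat_lit 2, nat_lit 3, nat_lit 8, nat_lit 7, nat_lit 6, nat_lit 6],
   [nat_lit 3, nat_lit 6, nat_lit 4, nat_lit 9, nat_lit 9, nat_lit 9],
   [nat_lit 4, nat_lit 5, nat_lit 9, nat_lit 9, nat_lit 8, nat_lit 8],
   [nat_lit 5, nat_lit 7, nat_lit 11, nat_lit 10, nat_lit 11, nat_lit 10]])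
    (prs := [(nat_lit 1, [(nat_lit 0, nat_lit 0), (nat_lit 1, nat_lit 1), (nat_lit 0, nat_lit 1), (nat_lit 1, nat_lit 2), (nat_lit 0, nat_lit 2), (nat_lit 1, nat_lit 3), (nat_lit 0, nat_lit 3), (nat_lit 1, nat_lit 4), (nat_lit 0, nat_lit 4), (nat_lit 1, nat_lit 5), (nat_lit 0, nat_lit 5), (nat_lit 1, nat_lit 6), (nat_lit 0, nat_lit 6), (nat_lit 1, nat_lit 7), (nat_lit 0, nat_lit 7), (nat_lit 1, nat_lit 8), (nat_lit 0, nat_lit 8), (nat_lit 1, nat_lit 9), (nat_lit 0, nat_lit 9), (nat_lit 1, nat_lit 10), (nat_lit 0, nat_lit 10), (nat_lit 1, nat_lit 11), (nat_lit 1, nat_lit 11), (nat_lit 0, nat_lit 11), (nat_lit 1, nat_lit 12), (nat_lit 0, nat_lit 12), (nat_lit 1, nat_lit 13), (nat_lit 0, nat_lit 13), (nat_lit 1, nat_lit 13), (nat_lit 0, nat_lit 12), (nat_lit 1, nat_lit 13), (nat_lit 0, nat_lit 13), (nat_lit 1, nat_lit 14), (nat_lit 0, nat_lit 14), (nat_lit 1, nat_lit 15), (nat_lit 0, nat_lit 15), (nat_lit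 1, nat_lit 16), (nat_lit 0, nat_lit 16), (nat_lit 1, nat_lit 17), (nat_lit 1, nat_lit 17), (nat_lit 0, nat_lit 17), (nat_lit 1, nat_lit 18), (nat_lit 1, nat_lit 18), (nat_lit 0, nat_lit 18), (nat_lit 1, nat_lit 19), (nat_lit 1, nat_lit 19), (nat_lit 1, nat_lit 19), (nat_lit 0, nat_lit 19), (nat_lit 1, nat_lit 20), (nat_lit 1, nat_lit 20), (nat_lit 0, nat_lit 20), (nat_lit 1, nat_lit 21), (nat_lit 0, nat_lit 21), (nat_lit 0, nat_lit 21), (nat_lit 0, nat_lit 21), (nat_lit 1, nat_lit 22), (nat_lit 0, nat_lit 22), (nat_lit 1, nat_lit 23), (nat_lit 0, nat_lit 23), (nat_lit 1, nat_lit 24), (nat_lit 1, nat_lit 24), (nat_lit 0, nat_lit 23), (nat_lit 1, nat_lit 24), (nat_lit 0, nat_lit 23), (nat_lit 1, nat_lit 24), (nat_lit 1, nat_lit 24), (nat_lit 0, nat_lit 22), (nat_lit 0, nat_lit 22), (nat_lit 1, nat_lit 23), (nat_lit 0, nat_lit 23), (nat_lit 1, nat_lit 24), (nat_lit 0, nat_lit 24), (nat_lit 1, nat_lit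 24), (nat_lit 0, nat_lit 23), (nat_lit 1, nat_lit 24), (nat_lit 0, nat_lit 23), (nat_lit 1, nat_lit 24), (nat_lit 0, nat_lit 23), (nat_lit 1, nat_lit 24), (nat_lit 0, nat_lit 21), (nat_lit 1, nat_lit 22), (nat_lit 1, nat_lit 22), (nat_lit 0, nat_lit 22), (nat_lit 1, nat_lit 23), (nat_lit 0, nat_lit 21), (nat_lit 0, nat_lit 21), (nat_lit 0, nat_lit 20), (nat_lit 1, nat_lit 20), (nat_lit 1, nat_lit 20), (nat_lit 1, nat_lit 18), (nat_lit 0, nat_lit 18), (nat_lit 0, nat_lit 18), (nat_lit 0, nat_lit 17), (nat_lit 1, nat_lit 18), (nat_lit 0, nat_lit 16), (nat_lit 1, nat_lit 17), (nat_lit 1, nat_lit 10), (nat_lit 1, nat_lit 4), (nat_lit 0, nat_lit 4)]),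
   (nat_lit 25, [(nat_lit 2, nat_lit 0), (nat_lit 3, nat_lit 1), (nat_lit 2, nat_lit 1), (nat_lit 3, nat_lit 2), (nat_lit 2, nat_lit 2), (nat_lit 3, nat_lit 3), (nat_lit 2, nat_lit 3), (nat_lit 3, nat_lit 4), (nat_lit 2, nat_lit 4), (nat_lit 3, nat_lit 5), (nat_lit 3, nat_lit 5), (nat_lit 2, nat_lit 5), (nat_lit 3, nat_lit 6), (nat_lit 2, nat_lit 6), (nat_lit 3, nat_lit 7), (nat_lit 2, nat_lit 7), (nat_lit 2, nat_lit 7), (nat_lit 3, nat_lit 8), (nat_lit 2, nat_lit 8), (nat_lit 3, nat_lit 9), (nat_lit 2, nat_lit 9), (nat_lit 2, nat_lit 9), (nat_lit 2, nat_lit 9), (nat_lit 3, nat_lit 10), (nat_lit 2, nat_lit 10), (nat_lit 2, nat_lit 10), (nat_lit 3, nat_lit 11), (nat_lit 2, nat_lit 11), (nat_lit 3, nat_lit 12), (nat_lit 2, nat_lit 12), (nat_lit 3, nat_lit 13), (nat_lit 2, nat_lit 13), (nat_lit 2, nat_lit 13), (nat_lit 3, nat_lit 14), (nat_lit 2, nat_lit 14), (nat_lit 3, nat_lit 15), (nat_lit 2, nat_lit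 15), (nat_lit 3, nat_lit 16), (nat_lit 2, nat_lit 16), (nat_lit 2, nat_lit 16), (nat_lit 3, nat_lit 17), (nat_lit 3, nat_lit 17), (nat_lit 2, nat_lit 17), (nat_lit 2, nat_lit 16), (nat_lit 3, nat_lit 15), (nat_lit 2, nat_lit 15), (nat_lit 3, nat_lit 16), (nat_lit 3, nat_lit 16), (nat_lit 2, nat_lit 15), (nat_lit 2, nat_lit 15), (nat_lit 3, nat_lit 13), (nat_lit 3, nat_lit 12), (nat_lit 3, nat_lit 12), (nat_lit 2, nat_lit 12), (nat_lit 3, nat_lit 13), (nat_lit 2, nat_lit 12), (nat_lit 3, nat_lit 11), (nat_lit 2, nat_lit 10), (nat_lit 3, nat_lit 10), (nat_lit 2, nat_lit 6), (nat_lit 3, nat_lit 4), (nat_lit 2, nat_lit 1)]),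
   (nat_lit 56, [(nat_lit 4, nat_lit 0), (nat_lit 4, nat_lit 0), (nat_lit 5, nat_lit 1), (nat_lit 4, nat_lit 0), (nat_lit 5, nat_lit 1)]),
   (nat_lit 2, [(nat_lit 5, nat_lit 0), (nat_lit 6, nat_lit 1), (nat_lit 5, nat_lit 1), (nat_lit 6, nat_lit 2), (nat_lit 6, nat_lit 2), (nat_lit 5, nat_lit 2), (nat_lit 6, nat_lit 3), (nat_lit 6, nat_lit 3), (nat_lit 6, nat_lit 3), (nat_lit 6, nat_lit 3), (nat_lit 6, nat_lit 3), (nat_lit 6, nat_lit 3), (nat_lit 6, nat_lit 2), (nat_lit 6, nat_lit 2), (nat_lit 6, nat_lit 1)])]) (by decide +kernel)).2, by simp⟩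
  · refine of_classes (classes_of M (j := 2) (m := 24192) (by norm_num) (by norm_num) (by norm_num)
    (pr := [[nat_lit 1, nat_lit 0, nat_lit 0],
   [nat_lit 1, nat_lit 1, nat_lit 0, nat_lit 0, nat_lit 0, nat_lit 2, nat_lit 0],
   [nat_lit 2, nat_lit 3, nat_lit 1, nat_lit 2, nat_lit 1, nat_lit 3, nat_lit 2],
   [nat_lit 1, nat_lit 1, nat_lit 0],
   [nat_lit 2, nat_lit 0, nat_lit 1, nat_lit 1, nat_lit 1, nat_lit 0],
   [nat_lit 2, nat_lit 1],
   [nat_lit 1, nat_lit 0, nat_lit 0, nat_lit 0, nat_lit 1, nat_lit 0],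
   [nat_lit 2, nat_lit 1, nat_lit 1, nat_lit 2, nat_lit 0, nat_lit 2, nat_lit 0],
   [nat_lit 0, nat_lit 2, nat_lit 2, nat_lit 5, nat_lit 6, nat_lit 4, nat_lit 6, nat_lit 4, nat_lit 8, nat_lit 8, nat_lit 8, nat_lit 8],
   [nat_lit 2, nat_lit 6, nat_lit 7, nat_lit 10, nat_lit 10, nat_lit 9],
   [],
   [],
   [],
   [],
   [nat_lit 9, nat_lit 8, nat_lit 9, nat_lit 8, nat_lit 8, nat_lit 11, nat_lit 11, nat_lit 10, nat_lit 12, nat_lit 14, nat_lit 14, nat_lit 15, nat_lit 15],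
   [nat_lit 7, nat_lit 9, nat_lit 11, nat_lit 11, nat_lit 12, nat_lit 15, nat_lit 15, nat_lit 15],
   [nat_lit 8, nat_lit 8, nat_lit 10, nat_lit 11, nat_lit 9, nat_lit 12, nat_lit 12, nat_lit 13, nat_lit 17, nat_lit 15, nat_lit 15, nat_lit 16, nat_lit 16],
   [nat_lit 9, nat_lit 11, nat_lit 12, nat_lit 12, nat_lit 11, nat_lit 14, nat_lit 17, nat_lit 17, nat_lit 18, nat_lit 17],
   [nat_lit 10, nat_lit 10, nat_lit 10, nat_lit 13, nat_lit 12, nat_lit 13, nat_lit 13, nat_lit 12, nat_lit 16, nat_lit 14, nat_lit 16, nat_lit 18, nat_lit 18, nat_lit 19, nat_lit 18, nat_lit 17, nat_lit 17, nat_lit 19],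
   [nat_lit 11, nat_lit 11, nat_lit 11, nat_lit 13, nat_lit 14, nat_lit 12, nat_lit 13, nat_lit 17, nat_lit 16, nat_lit 17, nat_lit 19, nat_lit 19, nat_lit 19],
   [nat_lit 12, nat_lit 14, nat_lit 18, nat_lit 18, nat_lit 16, nat_lit 17, nat_lit 21, nat_lit 19, nat_lit 19, nat_lit 19, nat_lit 20, nat_lit 20],
   [nat_lit 14, nat_lit 19, nat_lit 18, nat_lit 19, nat_lit 17, nat_lit 21, nat_lit 22, nat_lit 22, nat_lit 20, nat_lit 22],
   [nat_lit 14, nat_lit 17, nat_lit 16, nat_lit 17, nat_lit 15, nat_lit 20, nat_lit 18, nat_lit 20, nat_lit 18, nat_lit 22, nat_lit 22, nat_lit 23, nat_lit 23, nat_lit 22],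
   [nat_lit 15, nat_lit 15, nat_lit 15, nat_lit 17, nat_lit 18, nat_lit 18, nat_lit 21, nat_lit 19, nat_lit 20, nat_lit 21, nat_lit 24, nat_lit 22, nat_lit 23, nat_lit 24, nat_lit 23],
   [nat_lit 16, nat_lit 16, nat_lit 19, nat_lit 18, nat_lit 19, nat_lit 19, nat_lit 22, nat_lit 22, nat_lit 24, nat_lit 23, nat_lit 25, nat_lit 25],
   [nat_lit 17, nat_lit 17, nat_lit 19, nat_lit 20, nat_lit 18, nat_lit 23, nat_lit 22, nat_lit 22, nat_lit 23, nat_lit 25, nat_lit 24, nat_lit 25],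
   [nat_lit 18, nat_lit 22, nat_lit 22, nat_lit 23, nat_lit 27, nat_lit 25, nat_lit 27, nat_lit 26],
   [nat_lit 22, nat_lit 20, nat_lit 23, nat_lit 25, nat_lit 24, nat_lit 27, nat_lit 28, nat_lit 26, nat_lit 27, nat_lit 28],
   [nat_lit 20, nat_lit 20, nat_lit 20, nat_lit 23, nat_lit 22, nat_lit 23, nat_lit 23, nat_lit 24, nat_lit 24, nat_lit 28, nat_lit 29, nat_lit 27, nat_lit 28, nat_lit 29],
   [nat_lit 21, nat_lit 21, nat_lit 21, nat_lit 23, nat_lit 23, nat_lit 26, nat_lit 27, nat_lit 30, nat_lit 28, nat_lit 28, nat_lit 29],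
   [nat_lit 25, nat_lit 23, nat_lit 28, nat_lit 27, nat_lit 26, nat_lit 26, nat_lit 30, nat_lit 31, nat_lit 29],
   [nat_lit 26, nat_lit 25, nat_lit 26, nat_lit 26, nat_lit 29, nat_lit 31, nat_lit 30, nat_lit 31],
   [],
   [nat_lit 25, nat_lit 25, nat_lit 26, nat_lit 31, nat_lit 30, nat_lit 31, nat_lit 31, nat_lit 33, nat_lit 33, nat_lit 34, nat_lit 34, nat_lit 33, nat_lit 34],
   [nat_lit 28, nat_lit 29, nat_lit 29, nat_lit 27, nat_lit 32, nat_lit 31, nat_lit 30, nat_lit 32, nat_lit 31, nat_lit 34, nat_lit 34, nat_lit 34, nat_lit 34, nat_lit 33, nat_lit 33]]) (pr' := [[],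
   [nat_lit 1, nat_lit 1],
   [nat_lit 3, nat_lit 2],
   [nat_lit 4, nat_lit 4],
   [nat_lit 4, nat_lit 2],
   [nat_lit 6, nat_lit 3],
   [nat_lit 7, nat_lit 3],
   [nat_lit 8, nat_lit 3],
   [nat_lit 8, nat_lit 3],
   [nat_lit 10, nat_lit 4],
   [nat_lit 11, nat_lit 4],
   [nat_lit 12, nat_lit 4],
   [nat_lit 13, nat_lit 4],
   [nat_lit 14, nat_lit 4],
   [nat_lit 15, nat_lit 4],
   [nat_lit 16, nat_lit 4],
   [nat_lit 17, nat_lit 4],
   [nat_lit 18, nat_lit 3],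
   [nat_lit 19, nat_lit 3],
   [nat_lit 20, nat_lit 3],
   [nat_lit 21, nat_lit 2],
   [nat_lit 22, nat_lit 2],
   [nat_lit 23, nat_lit 1]])
    (qs := [nat_lit 26, nat_lit 25]) (cs := [nat_lit 24, nat_lit 23, nat_lit 22, nat_lit 21, nat_lit 20, nat_lit 19, nat_lit 18, nat_lit 17, nat_lit 16, nat_lit 15, nat_lit 14, nat_lit 13, nat_lit 12, nat_lit 11, nat_lit 10, nat_lit 9, nat_lit 8, nat_lit 7, nat_lit 6, nat_lit 5, nat_lit 4, nat_lit 3, nat_lit 2, nat_lit 1, nat_lit 0])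
    (Z := [nat_lit 0xd082527240e5130221b11631d332a23601a504d16122f47050f3f414206622d3b610300541c0213395b4e495c57481e10203c405d29171407453a4a3e5e4c0b382e3d560c525a533604010959263528194344322c4f4b5f1f182b550a21583415463137, nat_lit 0x2b353a081728384e241c400c310a10294d4a0f11262c415c47561a033609600e15043f33225a584f391620231f52513c1905491443276106183b4c5b2d485532121d0145505f2e0b2f0d023e441e25635e5313425937622a3d46072157305d341b4b54, nat_lit 0x310b4a59363952635306260102230c3017031a041229342c132f3742140a240e5b28614b5c442b20221c2e00583d4748383f320d1e274f512a5f3e4d113b0f57406009545a41462d2115330816434c50563a5e495d4e3c1b1d62551f4518193525071005, nat_lit 0x3f461e3b2b27253216082249454b213c430f4c471c44421a2341014d040b022917342f56314e5f30594f1119102a502805635c20615e3a15363d0e483960520713260c0d184a6212552c005a5b535135402d2e58033e54090a1d1b06571f38145d243733]) (by decide +kernel)) (by norm_num) ?_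
    simp only [List.forall_mem_cons]
    exact ⟨(M.cen (A := nat_lit 0xd082527240e5130221b11631d332a23601a504d16122f47050f3f414206622d3b610300541c0213395b4e495c57481e10203c405d29171407453a4a3e5e4c0b382e3d560c525a533604010959263528194344322c4f4b5f1f182b550a21583415463137) (Ms := Ms) (gs := [nat_lit 0x451e47305c62535b5123602a4a06361b462b5f3a042f24216127573d1d481c424b5414150d1859205250052d293f4d632c0e3b5d39341122164e4f3e490332375a0c0917402e4c5e443c1019381f3158283508022533070f0b13431a56014112260a5500, nat_lit 0x635d29084d182a5f2b42161420374c50391e1223533e3a2f4b1361603c2625595a33560b4e49524824171054325b5c0e3162400a381d06004f41192d45221147551a4a46305e1544350d3f581b09033d04270c361c215751432e023b282c34051f0f0701, nat_lit 0x572146304b43614c54555e3e454e0447633142171f2a33441b1c601d5b623d5c1e09370a110d2750023a2529052b16493b56204a015d0b4f361524065335391a28412e07584859345f1012383c230c0f2219521814132c32085a512d3f260e03402f4d00,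 nat_lit 0x4347301d5c5b5e63490e46154a2f162e600562250119044b2154575d1e091b1c4c273f0f242d5318402c281f37224f5f3a263c3d58593b13294e5238510b06365a2345554d426134440a2a320720563933313e17502b081003144802120d41350c111a00, nat_lit 0x2e27603d5b45434b5d3b54351c391644300862244d20281b09492146515f34484a470d063e0f5331053c1458371104572613331d1a5c3f075a4e500a1e3202413640592a384261635e0155123a191f150c102b0b22252303184f4c2d170e292f2c525600, nat_lit 0x5e30274234495f5c48504a0b54125521475a1d021720034c575b43595344451b636011082925512f064f3a07373b13090a351f6210463f4d052a0d3261563e232b414b16333d1e1c2e2c4e143919180c28010f0422362d1538315d40580e243c1a522600, nat_lit 0x496261600943345c59025b382101554b53501e5239161a4c5448634a471b452e5e420f400d3e1d100e174f583706285d3113333004442903242a2d352712252b051157190a513d1c464d200c3a4e14153226223c413b3f18071f5f080b36232f2c5a5600])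
    (pr := [[nat_lit 1, nat_lit 0, nat_lit 0],
   [nat_lit 1, nat_lit 1, nat_lit 0, nat_lit 0, nat_lit 0, nat_lit 2, nat_lit 0],
   [nat_lit 2, nat_lit 3, nat_lit 1, nat_lit 2, nat_lit 1, nat_lit 3, nat_lit 2],
   [nat_lit 1, nat_lit 1, nat_lit 0],
   [nat_lit 2, nat_lit 0, nat_lit 1, nat_lit 1, nat_lit 1, nat_lit 0],
   [nat_lit 2, nat_lit 1],
   [nat_lit 1, nat_lit 0, nat_lit 0, nat_lit 0, nat_lit 1, nat_lit 0],
   [nat_lit 2, nat_lit 1, nat_lit 1, nat_lit 2, nat_lit 0, nat_lit 2, nat_lit 0],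
   [nat_lit 2, nat_lit 3, nat_lit 3, nat_lit 4, nat_lit 6, nat_lit 5, nat_lit 8, nat_lit 9, nat_lit 9, nat_lit 7, nat_lit 9],
   [nat_lit 1, nat_lit 1, nat_lit 1, nat_lit 3, nat_lit 4, nat_lit 5, nat_lit 7, nat_lit 7, nat_lit 9, nat_lit 9, nat_lit 8, nat_lit 9],
   [nat_lit 4, nat_lit 5, nat_lit 3, nat_lit 8, nat_lit 6, nat_lit 8, nat_lit 7, nat_lit 10, nat_lit 10, nat_lit 9, nat_lit 11, nat_lit 11],
   [nat_lit 3, nat_lit 3, nat_lit 3, nat_lit 6, nat_lit 5, nat_lit 6, nat_lit 6, nat_lit 9, nat_lit 8, nat_lit 11, nat_lit 11, nat_lit 11, nat_lit 11, nat_lit 12],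
   [nat_lit 4, nat_lit 4, nat_lit 4, nat_lit 6, nat_lit 7, nat_lit 7, nat_lit 6, nat_lit 10, nat_lit 10, nat_lit 10, nat_lit 10, nat_lit 12, nat_lit 11, nat_lit 13, nat_lit 11],
   [nat_lit 5, nat_lit 5, nat_lit 5, nat_lit 7, nat_lit 8, nat_lit 7, nat_lit 13, nat_lit 13]])
    (prs := [(nat_lit 0, [(nat_lit 1, nat_lit 0), (nat_lit 0, nat_lit 0), (nat_lit 1, nat_lit 1), (nat_lit 0, nat_lit 1), (nat_lit 1, nat_lit 2), (nat_lit 0, nat_lit 2), (nat_lit 1, nat_lit 3), (nat_lit 0, nat_lit 3), (nat_lit 1, nat_lit 4), (nat_lit 0, nat_lit 4), (nat_lit 1, nat_lit 5), (nat_lit 0, nat_lit 5), (nat_lit 1, nat_lit 6), (nat_lit 0, nat_lit 6), (nat_lit 1, nat_lit 7), (nat_lit 0, nat_lit 7), (nat_lit 1, nat_lit 8), (nat_lit 0, nat_lit 8), (nat_lit 1, nat_lit 9), (nat_lit 0, nat_lit 9), (nat_lit 1, nat_lit 10), (nat_lit 0, nat_lit 10), (nat_lit 1, nat_lit 11), (nat_lit 1, nat_lit 11), (nat_lit 0, nat_lit 11), (nat_lit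 1, nat_lit 12), (nat_lit 0, nat_lit 12), (nat_lit 1, nat_lit 13), (nat_lit 0, nat_lit 13), (nat_lit 1, nat_lit 13), (nat_lit 0, nat_lit 12), (nat_lit 1, nat_lit 13), (nat_lit 0, nat_lit 13), (nat_lit 1, nat_lit 14), (nat_lit 0, nat_lit 14), (nat_lit 1, nat_lit 15), (nat_lit 0, nat_lit 15), (nat_lit 1, nat_lit 16), (nat_lit 0, nat_lit 16), (nat_lit 1, nat_lit 17), (nat_lit 1, nat_lit 17), (nat_lit 0, nat_lit 17), (nat_lit 1, nat_lit 17), (nat_lit 0, nat_lit 17), (nat_lit 1, nat_lit 18), (nat_lit 1, nat_lit 18), (nat_lit 1, nat_lit 18), (nat_lit 0, nat_lit 18), (nat_lit 1, nat_lit 19), (nat_lit 1, nat_lit 19), (nat_lit 0, nat_lit 19), (nat_lit 1, nat_lit 20), (nat_lit 0, nat_lit 20), (nat_lit 0, nat_lit 20), (nat_lit 0, nat_lit 20), (nat_lit 1, nat_lit 21), (nat_lit 0, nat_lit 21), (nat_lit 1, nat_lit 22), (nat_lit 0, nat_lit 22), (nat_lit 1, nat_lit 23), (nat_lit 1, nat_lit 23), (nat_lit 0, nat_lit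 22), (nat_lit 1, nat_lit 23), (nat_lit 0, nat_lit 22), (nat_lit 1, nat_lit 23), (nat_lit 1, nat_lit 23), (nat_lit 0, nat_lit 22), (nat_lit 0, nat_lit 22), (nat_lit 1, nat_lit 23), (nat_lit 0, nat_lit 23), (nat_lit 1, nat_lit 24), (nat_lit 0, nat_lit 24), (nat_lit 1, nat_lit 24), (nat_lit 0, nat_lit 23), (nat_lit 1, nat_lit 24), (nat_lit 0, nat_lit 23), (nat_lit 1, nat_lit 24), (nat_lit 0, nat_lit 23), (nat_lit 1, nat_lit 24), (nat_lit 0, nat_lit 21), (nat_lit 1, nat_lit 22), (nat_lit 1, nat_lit 22), (nat_lit 0, nat_lit 22), (nat_lit 1, nat_lit 23), (nat_lit 0, nat_lit 21), (nat_lit 0, nat_lit 21), (nat_lit 0, nat_lit 20), (nat_lit 1, nat_lit 20), (nat_lit 1, nat_lit 20), (nat_lit 1, nat_lit 18), (nat_lit 0, nat_lit 18), (nat_lit 0, nat_lit 18), (nat_lit 0, nat_lit 17), (nat_lit 1, nat_lit 18), (nat_lit 0, nat_lit 16), (nat_lit 1, nat_lit 17), (nat_lit 1, nat_lit 10), (nat_lit 1, nat_lit 4), (nat_lit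 0, nat_lit 4)]),
   (nat_lit 55, [(nat_lit 0, nat_lit 0), (nat_lit 2, nat_lit 1), (nat_lit 0, nat_lit 1), (nat_lit 2, nat_lit 2), (nat_lit 0, nat_lit 2), (nat_lit 2, nat_lit 3), (nat_lit 0, nat_lit 3), (nat_lit 2, nat_lit 4), (nat_lit 2, nat_lit 4), (nat_lit 0, nat_lit 4), (nat_lit 0, nat_lit 4), (nat_lit 2, nat_lit 5), (nat_lit 0, nat_lit 5), (nat_lit 2, nat_lit 6), (nat_lit 0, nat_lit 6), (nat_lit 2, nat_lit 7), (nat_lit 0, nat_lit 7), (nat_lit 2, nat_lit 8), (nat_lit 2, nat_lit 8), (nat_lit 0, nat_lit 8), (nat_lit 2, nat_lit 9), (nat_lit 0, nat_lit 9), (nat_lit 2, nat_lit 10), (nat_lit 0, nat_lit 10), (nat_lit 2, nat_lit 11), (nat_lit 0, nat_lit 11), (nat_lit 0, nat_lit 11), (nat_lit 2, nat_lit 12), (nat_lit 0, nat_lit 12), (nat_lit 2, nat_lit 13), (nat_lit 0, nat_lit 13), (nat_lit 2, nat_lit 14), (nat_lit 0, nat_lit 14), (nat_lit 2, nat_lit 15), (nat_lit 0, nat_lit 15), (nat_lit 0, nat_lit 14),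 (nat_lit 2, nat_lit 14), (nat_lit 0, nat_lit 14), (nat_lit 0, nat_lit 14), (nat_lit 2, nat_lit 15), (nat_lit 0, nat_lit 13), (nat_lit 2, nat_lit 13), (nat_lit 0, nat_lit 13), (nat_lit 2, nat_lit 13), (nat_lit 0, nat_lit 13), (nat_lit 2, nat_lit 14), (nat_lit 0, nat_lit 14), (nat_lit 2, nat_lit 14), (nat_lit 2, nat_lit 14), (nat_lit 0, nat_lit 14), (nat_lit 2, nat_lit 15), (nat_lit 0, nat_lit 15), (nat_lit 0, nat_lit 15), (nat_lit 2, nat_lit 13), (nat_lit 2, nat_lit 12), (nat_lit 0, nat_lit 9), (nat_lit 2, nat_lit 10), (nat_lit 0, nat_lit 8), (nat_lit 2, nat_lit 6), (nat_lit 2, nat_lit 2), (nat_lit 2, nat_lit 2), (nat_lit 0, nat_lit 1)]),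
   (nat_lit 92, [(nat_lit 3, nat_lit 0), (nat_lit 4, nat_lit 1), (nat_lit 3, nat_lit 1), (nat_lit 4, nat_lit 2), (nat_lit 3, nat_lit 2), (nat_lit 4, nat_lit 3), (nat_lit 3, nat_lit 3), (nat_lit 4, nat_lit 4), (nat_lit 3, nat_lit 4), (nat_lit 3, nat_lit 4), (nat_lit 3, nat_lit 4), (nat_lit 4, nat_lit 4), (nat_lit 3, nat_lit 4), (nat_lit 4, nat_lit 5), (nat_lit 3, nat_lit 5), (nat_lit 4, nat_lit 5), (nat_lit 3, nat_lit 5), (nat_lit 3, nat_lit 5), (nat_lit 4, nat_lit 6), (nat_lit 3, nat_lit 5), (nat_lit 4, nat_lit 5), (nat_lit 3, nat_lit 3), (nat_lit 3, nat_lit 3)]),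
   (nat_lit 48, [(nat_lit 5, nat_lit 0)]),
   (nat_lit 1, [(nat_lit 6, nat_lit 0)])]) (by decide +kernel)).2,
    (M.cen (A := nat_lit 0x2b353a081728384e241c400c310a10294d4a0f11262c415c47561a033609600e15043f33225a584f391620231f52513c1905491443276106183b4c5b2d485532121d0145505f2e0b2f0d023e441e25635e5313425937622a3d46072157305d341b4b54) (Ms := Ms) (gs := [nat_lit 0x451e47305c62535b5123602a4a06361b462b5f3a042f24216127573d1d481c424b5414150d1859205250052d293f4d632c0e3b5d39341122164e4f3e490332375a0c0917402e4c5e443c1019381f3158283508022533070f0b13431a56014112260a5500, nat_lit 0x635d29084d182a5f2b42161420374c50391e1223533e3a2f4b1361603c2625595a33560b4e49524824171054325b5c0e3162400a381d06004f41192d45221147551a4a46305e1544350d3f581b09033d04270c361c215751432e023b282c34051f0f0701, nat_lit 0x27211d543d5d472e5e17302959283809431f42190c3a2f3449464b1c5b4c601e5361082b134f5f323b22100e503c354a3924401b0663262c151a2d415c5802364d01622016445148573f11180a0b31142a5537045a120d05520f455625233e3307034e00,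 nat_lit 0x21304c2e601b57095f0e5d3f5e100a5461311c0852033c3d481d4a594951345347450c224d2d62142a351917250b2b1e1626064458463b05291f5a38630f042f0133425539275c5b4b3a3e23412c50243213404e021a3736280d43561218112015074f00, nat_lit 0x62634b605b595d5c5f5a5e5857350254344d513a404e5221614a49451d464844091b414f13073d110a50390816295653052f121e321c2025280f362b27232c0126144c2d1830472e4217061f1a3710223f313c152a0c040e0b3b43383e19330d03552400, nat_lit 0x483463514645421d1c505911610316543d1f5b15193a011e5d435c57475f27214a300b37220f44323936200e2d085a623355264b522e184f0c0617411b3e02134d255304074c09605e280a40293c35582a23051031560d2b1a2c494e2f24143b383f1200, nat_lit 0x6362485b46534249600b5923573818545e2f5141223a141e304a5c61475f2127435d5032193b1b373e4e26563c081a340d40204b522e16252b24171544392c2a584f4531074c091c3d353f55292d284d13111210040e330c5a021d361f06010f030a0500])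
    (pr := [[nat_lit 1, nat_lit 0, nat_lit 0],
   [nat_lit 1, nat_lit 1, nat_lit 0, nat_lit 0, nat_lit 0, nat_lit 2, nat_lit 0],
   [nat_lit 2, nat_lit 3, nat_lit 1, nat_lit 2, nat_lit 1, nat_lit 3, nat_lit 2],
   [nat_lit 1, nat_lit 1, nat_lit 0],
   [nat_lit 2, nat_lit 0, nat_lit 1, nat_lit 1, nat_lit 1, nat_lit 0],
   [nat_lit 2, nat_lit 1],
   [nat_lit 1, nat_lit 0, nat_lit 0, nat_lit 0, nat_lit 1, nat_lit 0],
   [nat_lit 2, nat_lit 1, nat_lit 1, nat_lit 2, nat_lit 0, nat_lit 2, nat_lit 0],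
   [nat_lit 0, nat_lit 0, nat_lit 5, nat_lit 6, nat_lit 8, nat_lit 7, nat_lit 8],
   [nat_lit 1, nat_lit 1, nat_lit 3, nat_lit 3, nat_lit 3, nat_lit 7, nat_lit 6, nat_lit 6, nat_lit 9, nat_lit 9, nat_lit 9, nat_lit 9, nat_lit 10, nat_lit 10],
   [nat_lit 2, nat_lit 2, nat_lit 5, nat_lit 4, nat_lit 5, nat_lit 4, nat_lit 8, nat_lit 6, nat_lit 6, nat_lit 6, nat_lit 7, nat_lit 11, nat_lit 11, nat_lit 10, nat_lit 11, nat_lit 11, nat_lit 10],
   [nat_lit 3, nat_lit 6, nat_lit 5, nat_lit 5, nat_lit 9, nat_lit 8, nat_lit 9, nat_lit 8, nat_lit 9, nat_lit 12, nat_lit 10, nat_lit 11, nat_lit 12, nat_lit 11],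
   [nat_lit 7, nat_lit 10, nat_lit 10, nat_lit 10, nat_lit 10, nat_lit 12, nat_lit 11, nat_lit 13, nat_lit 13],
   [nat_lit 5, nat_lit 5, nat_lit 5, nat_lit 8, nat_lit 7, nat_lit 7, nat_lit 9, nat_lit 11, nat_lit 11, nat_lit 13, nat_lit 13, nat_lit 14, nat_lit 13]])
    (prs := [(nat_lit 0, [(nat_lit 1, nat_lit 0), (nat_lit 0, nat_lit 0), (nat_lit 1, nat_lit 1), (nat_lit 0, nat_lit 1), (nat_lit 1, nat_lit 2), (nat_lit 0, nat_lit 2), (nat_lit 1, nat_lit 3), (nat_lit 0, nat_lit 3), (nat_lit 1, nat_lit 4), (nat_lit 0, nat_lit 4), (nat_lit 1, nat_lit 5), (nat_lit 0, nat_lit 5), (nat_lit 1, nat_lit 6), (nat_lit 0, nat_lit 6), (nat_lit 1, nat_lit 7), (nat_lit 0, nat_lit 7), (nat_lit 1, nat_lit 8), (nat_lit 0, nat_lit 8), (nat_lit 1, nat_lit 9), (nat_lit 0, nat_lit 9), (nat_lit 1, nat_lit 10), (nat_lit 0, nat_lit 10), (nat_lit 1, nat_lit 11), (nat_lit 1, nat_lit 11), (nat_lit 0, nat_lit 11), (nat_lit 1,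 nat_lit 12), (nat_lit 0, nat_lit 12), (nat_lit 1, nat_lit 13), (nat_lit 0, nat_lit 13), (nat_lit 1, nat_lit 13), (nat_lit 0, nat_lit 12), (nat_lit 1, nat_lit 13), (nat_lit 0, nat_lit 13), (nat_lit 1, nat_lit 14), (nat_lit 0, nat_lit 14), (nat_lit 1, nat_lit 15), (nat_lit 0, nat_lit 15), (nat_lit 1, nat_lit 16), (nat_lit 0, nat_lit 16), (nat_lit 1, nat_lit 17), (nat_lit 1, nat_lit 17), (nat_lit 0, nat_lit 17), (nat_lit 1, nat_lit 17), (nat_lit 0, nat_lit 17), (nat_lit 1, nat_lit 18), (nat_lit 1, nat_lit 18), (nat_lit 1, nat_lit 18), (nat_lit 0, nat_lit 18), (nat_lit 1, nat_lit 19), (nat_lit 1, nat_lit 19), (nat_lit 0, nat_lit 19), (nat_lit 1, nat_lit 20), (nat_lit 0, nat_lit 20), (nat_lit 0, nat_lit 20), (nat_lit 0, nat_lit 20), (nat_lit 1, nat_lit 21), (nat_lit 0, nat_lit 21), (nat_lit 1, nat_lit 22), (nat_lit 0, nat_lit 22), (nat_lit 1, nat_lit 23), (nat_lit 1, nat_lit 23), (nat_lit 0, nat_lit 22),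 (nat_lit 1, nat_lit 23), (nat_lit 0, nat_lit 22), (nat_lit 1, nat_lit 23), (nat_lit 1, nat_lit 23), (nat_lit 0, nat_lit 22), (nat_lit 0, nat_lit 22), (nat_lit 1, nat_lit 23), (nat_lit 0, nat_lit 23), (nat_lit 1, nat_lit 24), (nat_lit 0, nat_lit 24), (nat_lit 1, nat_lit 24), (nat_lit 0, nat_lit 23), (nat_lit 1, nat_lit 24), (nat_lit 0, nat_lit 23), (nat_lit 1, nat_lit 24), (nat_lit 0, nat_lit 23), (nat_lit 1, nat_lit 24), (nat_lit 0, nat_lit 21), (nat_lit 1, nat_lit 22), (nat_lit 1, nat_lit 22), (nat_lit 0, nat_lit 22), (nat_lit 1, nat_lit 23), (nat_lit 0, nat_lit 21), (nat_lit 0, nat_lit 21), (nat_lit 0, nat_lit 20), (nat_lit 1, nat_lit 20), (nat_lit 1, nat_lit 20), (nat_lit 1, nat_lit 18), (nat_lit 0, nat_lit 18), (nat_lit 0, nat_lit 18), (nat_lit 0, nat_lit 17), (nat_lit 1, nat_lit 18), (nat_lit 0, nat_lit 16), (nat_lit 1, nat_lit 17), (nat_lit 1, nat_lit 10), (nat_lit 1, nat_lit 4), (nat_lit 0,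 nat_lit 4)]),
   (nat_lit 84, [(nat_lit 0, nat_lit 0), (nat_lit 2, nat_lit 1), (nat_lit 0, nat_lit 1), (nat_lit 2, nat_lit 2), (nat_lit 0, nat_lit 2), (nat_lit 2, nat_lit 3), (nat_lit 0, nat_lit 3), (nat_lit 2, nat_lit 4), (nat_lit 0, nat_lit 4), (nat_lit 2, nat_lit 5), (nat_lit 0, nat_lit 5), (nat_lit 2, nat_lit 6), (nat_lit 0, nat_lit 6), (nat_lit 2, nat_lit 7), (nat_lit 2, nat_lit 7), (nat_lit 0, nat_lit 7), (nat_lit 0, nat_lit 7), (nat_lit 2, nat_lit 8), (nat_lit 2, nat_lit 8), (nat_lit 2, nat_lit 8), (nat_lit 0, nat_lit 7), (nat_lit 2, nat_lit 8), (nat_lit 0, nat_lit 7), (nat_lit 2, nat_lit 8), (nat_lit 0, nat_lit 8), (nat_lit 2, nat_lit 9), (nat_lit 2, nat_lit 9), (nat_lit 2, nat_lit 9), (nat_lit 0, nat_lit 9), (nat_lit 0, nat_lit 8), (nat_lit 0, nat_lit 8), (nat_lit 2, nat_lit 8), (nat_lit 2, nat_lit 8), (nat_lit 0, nat_lit 5), (nat_lit 2, nat_lit 3)]),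
   (nat_lit 16, [(nat_lit 3, nat_lit 0), (nat_lit 4, nat_lit 1), (nat_lit 3, nat_lit 1), (nat_lit 3, nat_lit 1), (nat_lit 3, nat_lit 0), (nat_lit 4, nat_lit 1), (nat_lit 3, nat_lit 1), (nat_lit 4, nat_lit 2), (nat_lit 3, nat_lit 2), (nat_lit 3, nat_lit 1), (nat_lit 3, nat_lit 1), (nat_lit 3, nat_lit 1), (nat_lit 4, nat_lit 2), (nat_lit 3, nat_lit 2), (nat_lit 4, nat_lit 3), (nat_lit 3, nat_lit 3), (nat_lit 3, nat_lit 2), (nat_lit 4, nat_lit 3), (nat_lit 4, nat_lit 2), (nat_lit 3, nat_lit 1)]),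
   (nat_lit 19, [(nat_lit 5, nat_lit 0), (nat_lit 5, nat_lit 0), (nat_lit 5, nat_lit 0)]),
   (nat_lit 1, [(nat_lit 6, nat_lit 0)])]) (by decide +kernel)).2,
    (M.cen (A := nat_lit 0x310b4a59363952635306260102230c3017031a041229342c132f3742140a240e5b28614b5c442b20221c2e00583d4748383f320d1e274f512a5f3e4d113b0f57406009545a41462d2115330816434c50563a5e495d4e3c1b1d62551f4518193525071005) (Ms := Ms) (gs := [nat_lit 0x451e47305c62535b5123602a4a06361b462b5f3a042f24216127573d1d481c424b5414150d1859205250052d293f4d632c0e3b5d39341122164e4f3e490332375a0c0917402e4c5e443c1019381f3158283508022533070f0b13431a56014112260a5500, nat_lit 0x635d29084d182a5f2b42161420374c50391e1223533e3a2f4b1361603c2625595a33560b4e49524824171054325b5c0e3162400a381d06004f41192d45221147551a4a46305e1544350d3f581b09033d04270c361c215751432e023b282c34051f0f0701, nat_lit 0x53431b5c5d342e4b5b2c1d021e0b4d44460f623c172516596021495461635748515e03521006272b4124073a3e0a5a4213220c30295f2a35501a1f391c321438362609312f454c3d472d33560155044e190e3f11400d122018234a58283715053b084f00,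 nat_lit 0x4a1e2e5c51491c4c483e63254538171b420a5e3f404d1f47442743214b3054621d091a0832296118203c554f521450604e3536591334240d0207060b4641102c125653190c3d575f5d2f223b2d58231128150e165a26370f312b5b3a0401052a33390300, nat_lit 0x9476261571e1d44275053205f3e245c590d54031f383b5d3d421b3060215e511c4a1a012918434e065a11252b024d45320f36482f4c412d552a4f525b263c372333630c3f342e4b492c10163956071428150e40221713080b314658043505123a0a1900, nat_lit 0x301e2e5c45624454485a6303514f1760420e3d5650580c5f1c275d214b4a4c493409393a2010573b32350b385224401b333c0d59111d1436020701554631292c123f5b221f5e6147432b1918284d2a132d040a0f3e372616412f5308150605234e1a2500])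
    (pr := [[nat_lit 1, nat_lit 0, nat_lit 0],
   [nat_lit 1, nat_lit 1, nat_lit 0, nat_lit 0, nat_lit 0, nat_lit 2, nat_lit 0],
   [nat_lit 2, nat_lit 3, nat_lit 1, nat_lit 2, nat_lit 1, nat_lit 3, nat_lit 2],
   [nat_lit 1, nat_lit 1, nat_lit 0],
   [nat_lit 2, nat_lit 0, nat_lit 1, nat_lit 1, nat_lit 1, nat_lit 0],
   [nat_lit 2, nat_lit 1],
   [nat_lit 1, nat_lit 0, nat_lit 0, nat_lit 0, nat_lit 1, nat_lit 0],
   [nat_lit 2, nat_lit 1, nat_lit 1, nat_lit 2, nat_lit 0, nat_lit 2, nat_lit 0],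
   [nat_lit 0, nat_lit 2, nat_lit 3, nat_lit 6, nat_lit 4, nat_lit 6, nat_lit 5, nat_lit 8, nat_lit 8, nat_lit 9, nat_lit 9, nat_lit 8],
   [nat_lit 1, nat_lit 1, nat_lit 1, nat_lit 4, nat_lit 3, nat_lit 3, nat_lit 3, nat_lit 7, nat_lit 6, nat_lit 6, nat_lit 9, nat_lit 8],
   [nat_lit 5, nat_lit 10],
   [nat_lit 3, nat_lit 3, nat_lit 3, nat_lit 5, nat_lit 6, nat_lit 4, nat_lit 5, nat_lit 8, nat_lit 9, nat_lit 8, nat_lit 7, nat_lit 12, nat_lit 10, nat_lit 10, nat_lit 10, nat_lit 11, nat_lit 11],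
   [nat_lit 4, nat_lit 4, nat_lit 4, nat_lit 6, nat_lit 7, nat_lit 7, nat_lit 6, nat_lit 9, nat_lit 9, nat_lit 8, nat_lit 9, nat_lit 12, nat_lit 12, nat_lit 13, nat_lit 12, nat_lit 11]])
    (prs := [(nat_lit 0, [(nat_lit 1, nat_lit 0), (nat_lit 0, nat_lit 0), (nat_lit 1, nat_lit 1), (nat_lit 0, nat_lit 1), (nat_lit 1, nat_lit 2), (nat_lit 0, nat_lit 2), (nat_lit 1, nat_lit 3), (nat_lit 0, nat_lit 3), (nat_lit 1, nat_lit 4), (nat_lit 0, nat_lit 4), (nat_lit 1, nat_lit 5), (nat_lit 0, nat_lit 5), (nat_lit 1, nat_lit 6), (nat_lit 0, nat_lit 6), (nat_lit 1, nat_lit 7), (nat_lit 0, nat_lit 7), (nat_lit 1, nat_lit 8), (nat_lit 0, nat_lit 8), (nat_lit 1, nat_lit 9), (nat_lit 0, nat_lit 9), (nat_lit 1, nat_lit 10), (nat_lit 0, nat_lit 10), (nat_lit 1, nat_lit 11), (nat_lit 1, nat_lit 11), (nat_lit 0, nat_lit 11), (nat_lit 1, nat_lit 12), (nat_lit 0, nat_lit 12), (nat_lit 1, nat_lit 13), (nat_lit 0, nat_lit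 13), (nat_lit 1, nat_lit 13), (nat_lit 0, nat_lit 12), (nat_lit 1, nat_lit 13), (nat_lit 0, nat_lit 13), (nat_lit 1, nat_lit 14), (nat_lit 0, nat_lit 14), (nat_lit 1, nat_lit 15), (nat_lit 0, nat_lit 15), (nat_lit 1, nat_lit 16), (nat_lit 0, nat_lit 16), (nat_lit 1, nat_lit 17), (nat_lit 1, nat_lit 17), (nat_lit 0, nat_lit 17), (nat_lit 1, nat_lit 17), (nat_lit 0, nat_lit 17), (nat_lit 1, nat_lit 18), (nat_lit 1, nat_lit 18), (nat_lit 1, nat_lit 18), (nat_lit 0, nat_lit 18), (nat_lit 1, nat_lit 19), (nat_lit 1, nat_lit 19), (nat_lit 0, nat_lit 19), (nat_lit 1, nat_lit 20), (nat_lit 0, nat_lit 20), (nat_lit 0, nat_lit 20), (nat_lit 0, nat_lit 20), (nat_lit 1, nat_lit 21), (nat_lit 0, nat_lit 21), (nat_lit 1, nat_lit 22), (nat_lit 0, nat_lit 22), (nat_lit 1, nat_lit 23), (nat_lit 1, nat_lit 23), (nat_lit 0, nat_lit 22), (nat_lit 1, nat_lit 23), (nat_lit 0, nat_lit 22), (nat_lit 1, nat_lit 23), (nat_lit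 1, nat_lit 23), (nat_lit 0, nat_lit 22), (nat_lit 0, nat_lit 22), (nat_lit 1, nat_lit 23), (nat_lit 0, nat_lit 23), (nat_lit 1, nat_lit 24), (nat_lit 0, nat_lit 24), (nat_lit 1, nat_lit 24), (nat_lit 0, nat_lit 23), (nat_lit 1, nat_lit 24), (nat_lit 0, nat_lit 23), (nat_lit 1, nat_lit 24), (nat_lit 0, nat_lit 23), (nat_lit 1, nat_lit 24), (nat_lit 0, nat_lit 21), (nat_lit 1, nat_lit 22), (nat_lit 1, nat_lit 22), (nat_lit 0, nat_lit 22), (nat_lit 1, nat_lit 23), (nat_lit 0, nat_lit 21), (nat_lit 0, nat_lit 21), (nat_lit 0, nat_lit 20), (nat_lit 1, nat_lit 20), (nat_lit 1, nat_lit 20), (nat_lit 1, nat_lit 18), (nat_lit 0, nat_lit 18), (nat_lit 0, nat_lit 18), (nat_lit 0, nat_lit 17), (nat_lit 1, nat_lit 18), (nat_lit 0, nat_lit 16), (nat_lit 1, nat_lit 17), (nat_lit 1, nat_lit 10), (nat_lit 1, nat_lit 4), (nat_lit 0, nat_lit 4)]),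
   (nat_lit 5, [(nat_lit 0, nat_lit 0), (nat_lit 2, nat_lit 1), (nat_lit 0, nat_lit 1), (nat_lit 2, nat_lit 2), (nat_lit 0, nat_lit 2), (nat_lit 2, nat_lit 3), (nat_lit 0, nat_lit 3), (nat_lit 2, nat_lit 4), (nat_lit 0, nat_lit 4), (nat_lit 2, nat_lit 5), (nat_lit 2, nat_lit 5), (nat_lit 0, nat_lit 5), (nat_lit 0, nat_lit 5), (nat_lit 2, nat_lit 6), (nat_lit 0, nat_lit 6), (nat_lit 2, nat_lit 7), (nat_lit 2, nat_lit 7), (nat_lit 0, nat_lit 7), (nat_lit 0, nat_lit 7), (nat_lit 2, nat_lit 8), (nat_lit 0, nat_lit 8), (nat_lit 2, nat_lit 9), (nat_lit 2, nat_lit 9), (nat_lit 0, nat_lit 9), (nat_lit 2, nat_lit 10), (nat_lit 0, nat_lit 10), (nat_lit 2, nat_lit 11), (nat_lit 2, nat_lit 10), (nat_lit 0, nat_lit 10), (nat_lit 2, nat_lit 10), (nat_lit 0, nat_lit 10), (nat_lit 0, nat_lit 10), (nat_lit 2, nat_lit 11), (nat_lit 0, nat_lit 11), (nat_lit 2, nat_lit 12), (nat_lit 0, nat_lit 12), (nat_lit 2, nat_lit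 13), (nat_lit 0, nat_lit 13), (nat_lit 2, nat_lit 14), (nat_lit 2, nat_lit 13), (nat_lit 0, nat_lit 13), (nat_lit 2, nat_lit 14), (nat_lit 0, nat_lit 13), (nat_lit 2, nat_lit 14), (nat_lit 0, nat_lit 13), (nat_lit 2, nat_lit 14), (nat_lit 0, nat_lit 14), (nat_lit 2, nat_lit 14), (nat_lit 0, nat_lit 11), (nat_lit 0, nat_lit 11), (nat_lit 2, nat_lit 12), (nat_lit 2, nat_lit 12), (nat_lit 0, nat_lit 12), (nat_lit 2, nat_lit 10), (nat_lit 0, nat_lit 10), (nat_lit 0, nat_lit 8), (nat_lit 2, nat_lit 7), (nat_lit 0, nat_lit 7), (nat_lit 0, nat_lit 7), (nat_lit 0, nat_lit 6), (nat_lit 2, nat_lit 7), (nat_lit 0, nat_lit 3)]),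
   (nat_lit 25, [(nat_lit 3, nat_lit 0), (nat_lit 4, nat_lit 1), (nat_lit 3, nat_lit 1), (nat_lit 4, nat_lit 2), (nat_lit 3, nat_lit 2), (nat_lit 4, nat_lit 3), (nat_lit 3, nat_lit 3), (nat_lit 4, nat_lit 4), (nat_lit 3, nat_lit 4), (nat_lit 4, nat_lit 5), (nat_lit 3, nat_lit 5), (nat_lit 3, nat_lit 5), (nat_lit 4, nat_lit 6), (nat_lit 3, nat_lit 6), (nat_lit 4, nat_lit 7), (nat_lit 3, nat_lit 7), (nat_lit 4, nat_lit 8), (nat_lit 3, nat_lit 8), (nat_lit 3, nat_lit 8), (nat_lit 4, nat_lit 9), (nat_lit 4, nat_lit 9), (nat_lit 3, nat_lit 9), (nat_lit 3, nat_lit 9), (nat_lit 4, nat_lit 9), (nat_lit 4, nat_lit 9), (nat_lit 3, nat_lit 9), (nat_lit 3, nat_lit 9), (nat_lit 3, nat_lit 8), (nat_lit 3, nat_lit 8), (nat_lit 4, nat_lit 8), (nat_lit 4, nat_lit 6)]),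
   (nat_lit 1, [(nat_lit 5, nat_lit 0), (nat_lit 5, nat_lit 0)])]) (by decide +kernel)).2,
    (M.cen (A := nat_lit 0x3f461e3b2b27253216082249454b213c430f4c471c44421a2341014d040b022917342f56314e5f30594f1119102a502805635c20615e3a15363d0e483960520713260c0d184a6212552c005a5b535135402d2e58033e54090a1d1b06571f38145d243733) (Ms := Ms) (gs := [nat_lit 0x451e47305c62535b5123602a4a06361b462b5f3a042f24216127573d1d481c424b5414150d1859205250052d293f4d632c0e3b5d39341122164e4f3e490332375a0c0917402e4c5e443c1019381f3158283508022533070f0b13431a56014112260a5500, nat_lit 0x635d29084d182a5f2b42161420374c50391e1223533e3a2f4b1361603c2625595a33560b4e49524824171054325b5c0e3162400a381d06004f41192d45221147551a4a46305e1544350d3f581b09033d04270c361c215751432e023b282c34051f0f0701, nat_lit 0x491b51096043464262055d12590e3a534b1330375204115c45484a5e4c2154271d4715174d50633e0f5507192d0d282e38101a44585725263f3c39355b2b0b31240c1e165a343d5f61200633400a3b0129364e4f5614022f2a031c08321f182c23224100,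 nat_lit 0x592749544c1e1d5b3d155d3621350b095c18630a380e321b47465360515e5f304544285002261c16552d1a560319084333200f574f48062a415a3f174a0d234e393b61252f622e4234222c373c0c524011011f3110073e1204144b3a2413584d052b2900, nat_lit 0x594509541e4c5c5153504b3a4415411d492d611903383c27475f211c601b46425e3d1a5a25315b5532370b0e564f364a33393e482c632a1328350229430d12083b04572207342e5d623f0a40162b2f18584d520f101f26012005304e06241423110c1700, nat_lit 0x301e2e5c45624454485a6303514f1760420e3d5650580c5f1c275d214b4a4c493409393a2010573b32350b385224401b333c0d59111d1436020701554631292c123f5b221f5e6147432b1918284d2a132d040a0f3e372616412f5308150605234e1a2500])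
    (pr := [[nat_lit 1, nat_lit 0, nat_lit 0],
   [nat_lit 1, nat_lit 1, nat_lit 0, nat_lit 0, nat_lit 0, nat_lit 2, nat_lit 0],
   [nat_lit 2, nat_lit 3, nat_lit 1, nat_lit 2, nat_lit 1, nat_lit 3, nat_lit 2],
   [nat_lit 1, nat_lit 1, nat_lit 0],
   [nat_lit 2, nat_lit 0, nat_lit 1, nat_lit 1, nat_lit 1, nat_lit 0],
   [nat_lit 2, nat_lit 1],
   [nat_lit 1, nat_lit 0, nat_lit 0, nat_lit 0, nat_lit 1, nat_lit 0],
   [nat_lit 2, nat_lit 1, nat_lit 1, nat_lit 2, nat_lit 0, nat_lit 2, nat_lit 0],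
   [nat_lit 3, nat_lit 2, nat_lit 3, nat_lit 3, nat_lit 2, nat_lit 5, nat_lit 8, nat_lit 9, nat_lit 9, nat_lit 8, nat_lit 7],
   [nat_lit 1, nat_lit 1, nat_lit 4, nat_lit 3, nat_lit 3, nat_lit 3, nat_lit 6, nat_lit 7, nat_lit 5, nat_lit 7, nat_lit 5, nat_lit 9, nat_lit 9, nat_lit 10, nat_lit 8],
   [nat_lit 2, nat_lit 2, nat_lit 4, nat_lit 5, nat_lit 8, nat_lit 8, nat_lit 8, nat_lit 8, nat_lit 10, nat_lit 9, nat_lit 11, nat_lit 9],
   [nat_lit 3, nat_lit 3, nat_lit 5, nat_lit 6, nat_lit 4, nat_lit 5, nat_lit 7, nat_lit 7, nat_lit 11, nat_lit 11, nat_lit 11, nat_lit 11, nat_lit 10, nat_lit 10],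
   [nat_lit 4, nat_lit 4, nat_lit 4, nat_lit 6, nat_lit 7, nat_lit 7, nat_lit 6, nat_lit 9, nat_lit 9, nat_lit 8, nat_lit 9, nat_lit 12, nat_lit 12, nat_lit 13, nat_lit 12, nat_lit 11]])
    (prs := [(nat_lit 0, [(nat_lit 1, nat_lit 0), (nat_lit 0, nat_lit 0), (nat_lit 1, nat_lit 1), (nat_lit 0, nat_lit 1), (nat_lit 1, nat_lit 2), (nat_lit 0, nat_lit 2), (nat_lit 1, nat_lit 3), (nat_lit 0, nat_lit 3), (nat_lit 1, nat_lit 4), (nat_lit 0, nat_lit 4), (nat_lit 1, nat_lit 5), (nat_lit 0, nat_lit 5), (nat_lit 1, nat_lit 6), (nat_lit 0, nat_lit 6), (nat_lit 1, nat_lit 7), (nat_lit 0, nat_lit 7), (nat_lit 1, nat_lit 8), (nat_lit 0, nat_lit 8), (nat_lit 1, nat_lit 9), (nat_lit 0, nat_lit 9), (nat_lit 1, nat_lit 10), (nat_lit 0, nat_lit 10), (nat_lit 1, nat_lit 11), (nat_lit 1, nat_lit 11), (nat_lit 0, nat_lit 11), (nat_lit 1, nat_lit 12), (nat_lit 0, nat_lit 12), (nat_lit 1, nat_lit 13), (nat_lit 0, nat_lit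 13), (nat_lit 1, nat_lit 13), (nat_lit 0, nat_lit 12), (nat_lit 1, nat_lit 13), (nat_lit 0, nat_lit 13), (nat_lit 1, nat_lit 14), (nat_lit 0, nat_lit 14), (nat_lit 1, nat_lit 15), (nat_lit 0, nat_lit 15), (nat_lit 1, nat_lit 16), (nat_lit 0, nat_lit 16), (nat_lit 1, nat_lit 17), (nat_lit 1, nat_lit 17), (nat_lit 0, nat_lit 17), (nat_lit 1, nat_lit 17), (nat_lit 0, nat_lit 17), (nat_lit 1, nat_lit 18), (nat_lit 1, nat_lit 18), (nat_lit 1, nat_lit 18), (nat_lit 0, nat_lit 18), (nat_lit 1, nat_lit 19), (nat_lit 1, nat_lit 19), (nat_lit 0, nat_lit 19), (nat_lit 1, nat_lit 20), (nat_lit 0, nat_lit 20), (nat_lit 0, nat_lit 20), (nat_lit 0, nat_lit 20), (nat_lit 1, nat_lit 21), (nat_lit 0, nat_lit 21), (nat_lit 1, nat_lit 22), (nat_lit 0, nat_lit 22), (nat_lit 1, nat_lit 23), (nat_lit 1, nat_lit 23), (nat_lit 0, nat_lit 22), (nat_lit 1, nat_lit 23), (nat_lit 0, nat_lit 22), (nat_lit 1, nat_lit 23), (nat_lit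 1, nat_lit 23), (nat_lit 0, nat_lit 22), (nat_lit 0, nat_lit 22), (nat_lit 1, nat_lit 23), (nat_lit 0, nat_lit 23), (nat_lit 1, nat_lit 24), (nat_lit 0, nat_lit 24), (nat_lit 1, nat_lit 24), (nat_lit 0, nat_lit 23), (nat_lit 1, nat_lit 24), (nat_lit 0, nat_lit 23), (nat_lit 1, nat_lit 24), (nat_lit 0, nat_lit 23), (nat_lit 1, nat_lit 24), (nat_lit 0, nat_lit 21), (nat_lit 1, nat_lit 22), (nat_lit 1, nat_lit 22), (nat_lit 0, nat_lit 22), (nat_lit 1, nat_lit 23), (nat_lit 0, nat_lit 21), (nat_lit 0, nat_lit 21), (nat_lit 0, nat_lit 20), (nat_lit 1, nat_lit 20), (nat_lit 1, nat_lit 20), (nat_lit 1, nat_lit 18), (nat_lit 0, nat_lit 18), (nat_lit 0, nat_lit 18), (nat_lit 0, nat_lit 17), (nat_lit 1, nat_lit 18), (nat_lit 0, nat_lit 16), (nat_lit 1, nat_lit 17), (nat_lit 1, nat_lit 10), (nat_lit 1, nat_lit 4), (nat_lit 0, nat_lit 4)]),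
   (nat_lit 51, [(nat_lit 0, nat_lit 0), (nat_lit 2, nat_lit 1), (nat_lit 0, nat_lit 1), (nat_lit 2, nat_lit 2), (nat_lit 0, nat_lit 2), (nat_lit 2, nat_lit 3), (nat_lit 0, nat_lit 3), (nat_lit 0, nat_lit 3), (nat_lit 2, nat_lit 4), (nat_lit 0, nat_lit 4), (nat_lit 2, nat_lit 5), (nat_lit 0, nat_lit 5), (nat_lit 2, nat_lit 6), (nat_lit 0, nat_lit 6), (nat_lit 2, nat_lit 7), (nat_lit 2, nat_lit 7), (nat_lit 0, nat_lit 7), (nat_lit 2, nat_lit 8), (nat_lit 0, nat_lit 8), (nat_lit 2, nat_lit 9), (nat_lit 0, nat_lit 9), (nat_lit 2, nat_lit 10), (nat_lit 0, nat_lit 10), (nat_lit 2, nat_lit 11), (nat_lit 0, nat_lit 11), (nat_lit 2, nat_lit 12), (nat_lit 2, nat_lit 12), (nat_lit 0, nat_lit 12), (nat_lit 2, nat_lit 13), (nat_lit 0, nat_lit 13), (nat_lit 2, nat_lit 14), (nat_lit 2, nat_lit 14), (nat_lit 0, nat_lit 14), (nat_lit 2, nat_lit 15), (nat_lit 0, nat_lit 15), (nat_lit 2, nat_lit 15), (nat_lit 0, nat_lit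 15), (nat_lit 2, nat_lit 15), (nat_lit 2, nat_lit 14), (nat_lit 0, nat_lit 14), (nat_lit 2, nat_lit 15), (nat_lit 0, nat_lit 15), (nat_lit 0, nat_lit 14), (nat_lit 2, nat_lit 15), (nat_lit 2, nat_lit 15), (nat_lit 0, nat_lit 14), (nat_lit 2, nat_lit 15), (nat_lit 0, nat_lit 15), (nat_lit 0, nat_lit 13), (nat_lit 2, nat_lit 14), (nat_lit 2, nat_lit 13), (nat_lit 0, nat_lit 11), (nat_lit 2, nat_lit 12), (nat_lit 2, nat_lit 12), (nat_lit 2, nat_lit 12), (nat_lit 2, nat_lit 12), (nat_lit 0, nat_lit 11), (nat_lit 0, nat_lit 11), (nat_lit 0, nat_lit 11), (nat_lit 0, nat_lit 11), (nat_lit 2, nat_lit 11), (nat_lit 0, nat_lit 8)]),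
   (nat_lit 5, [(nat_lit 3, nat_lit 0), (nat_lit 4, nat_lit 1), (nat_lit 3, nat_lit 1), (nat_lit 4, nat_lit 2), (nat_lit 3, nat_lit 2), (nat_lit 4, nat_lit 3), (nat_lit 3, nat_lit 3), (nat_lit 4, nat_lit 4), (nat_lit 3, nat_lit 4), (nat_lit 4, nat_lit 5), (nat_lit 3, nat_lit 5), (nat_lit 4, nat_lit 6), (nat_lit 3, nat_lit 5), (nat_lit 4, nat_lit 6), (nat_lit 3, nat_lit 6), (nat_lit 4, nat_lit 7), (nat_lit 3, nat_lit 7), (nat_lit 4, nat_lit 8), (nat_lit 4, nat_lit 8), (nat_lit 3, nat_lit 7), (nat_lit 4, nat_lit 7), (nat_lit 4, nat_lit 6), (nat_lit 4, nat_lit 6), (nat_lit 4, nat_lit 6), (nat_lit 4, nat_lit 6), (nat_lit 3, nat_lit 5), (nat_lit 4, nat_lit 6), (nat_lit 3, nat_lit 5), (nat_lit 4, nat_lit 6), (nat_lit 3, nat_lit 5), (nat_lit 4, nat_lit 6)]),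
   (nat_lit 1, [(nat_lit 5, nat_lit 0), (nat_lit 5, nat_lit 0)])]) (by decide +kernel)).2, by simp⟩
  · obtain ⟨a, b⟩ := (M.cen (A := nat_lit 0x401b0b41610f07392c032a081049330a434e3a443b294a4d603e2e481615225c5b200913312d544b0055460551632b365e1e230c592f5a023c1419453f1f5727620e211a251d113424325f4f01280d5604184230370650265217353d5347121c4c5d5838) (Ms := Ms) (gs := [nat_lit 0x451e47305c62535b5123602a4a06361b462b5f3a042f24216127573d1d481c424b5414150d1859205250052d293f4d632c0e3b5d39341122164e4f3e490332375a0c0917402e4c5e443c1019381f3158283508022533070f0b13431a56014112260a5500, nat_lit 0x635d29084d182a5f2b42161420374c50391e1223533e3a2f4b1361603c2625595a33560b4e49524824171054325b5c0e3162400a381d06004f41192d45221147551a4a46305e1544350d3f581b09033d04270c361c215751432e023b282c34051f0f0701, nat_lit 0x5f095e57275b341c61401e3247580e5c51184c3e064f36634942603d2e214a454662390c2d155d0a4125134d3f385a59052b041d164b1f355219020b532a2822372443310f481b54301a3c562c2f504e100d3307233a1217550144033b29201108142600,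 nat_lit 0x30094843574b5f21600d493b442b123451184c4f50332c421c3d4a54451e59532e5d10113a0762080e402038310f0c61520117270b5b551556412606465805355a241d3f235e1b635c023c28323e16031f292f224d2d190a392a471336254e37041a1400, nat_lit 0x275e5b2159095334540d30044c5032435d2d622b4f3b0a5763465f1d1c3d424a614720403f22440e010c39381835115c520819492f1b030f1a3614121e172615293a6024234b48452e563c28062c411f55372a4d0731583e100b511316254e5a33020500, nat_lit 0x301e2e5c45624454485a6303514f1760420e3d5650580c5f1c275d214b4a4c493409393a2010573b32350b385224401b333c0d59111d1436020701554631292c123f5b221f5e6147432b1918284d2a132d040a0f3e372616412f5308150605234e1a2500])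
    (pr := [[nat_lit 1, nat_lit 0, nat_lit 0],
   [nat_lit 1, nat_lit 1, nat_lit 0, nat_lit 0, nat_lit 0, nat_lit 2, nat_lit 0],
   [nat_lit 2, nat_lit 3, nat_lit 1, nat_lit 2, nat_lit 1, nat_lit 3, nat_lit 2],
   [nat_lit 1, nat_lit 1, nat_lit 0],
   [nat_lit 2, nat_lit 0, nat_lit 1, nat_lit 1, nat_lit 1, nat_lit 0],
   [nat_lit 2, nat_lit 1],
   [nat_lit 1, nat_lit 0, nat_lit 0, nat_lit 0, nat_lit 1, nat_lit 0],
   [nat_lit 2, nat_lit 1, nat_lit 1, nat_lit 2, nat_lit 0, nat_lit 2, nat_lit 0],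
   [nat_lit 0, nat_lit 0, nat_lit 3, nat_lit 2, nat_lit 2, nat_lit 6, nat_lit 6, nat_lit 4, nat_lit 8, nat_lit 7],
   [nat_lit 1, nat_lit 1, nat_lit 4, nat_lit 3, nat_lit 4, nat_lit 4, nat_lit 3, nat_lit 7, nat_lit 7, nat_lit 5, nat_lit 6, nat_lit 9, nat_lit 10, nat_lit 8],
   [nat_lit 2, nat_lit 2, nat_lit 2, nat_lit 5, nat_lit 4, nat_lit 5, nat_lit 3, nat_lit 8, nat_lit 7, nat_lit 7, nat_lit 7, nat_lit 6, nat_lit 11, nat_lit 9, nat_lit 10],
   [nat_lit 3, nat_lit 3, nat_lit 3, nat_lit 5, nat_lit 6, nat_lit 6, nat_lit 4, nat_lit 8, nat_lit 9, nat_lit 8, nat_lit 7, nat_lit 12, nat_lit 10, nat_lit 10, nat_lit 12, nat_lit 11],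
   [nat_lit 4, nat_lit 4, nat_lit 4, nat_lit 6, nat_lit 7, nat_lit 7, nat_lit 6, nat_lit 9, nat_lit 9, nat_lit 8, nat_lit 9, nat_lit 12, nat_lit 12, nat_lit 13, nat_lit 12, nat_lit 11]])
    (prs := [(nat_lit 0, [(nat_lit 1, nat_lit 0), (nat_lit 0, nat_lit 0), (nat_lit 1, nat_lit 1), (nat_lit 0, nat_lit 1), (nat_lit 1, nat_lit 2), (nat_lit 0, nat_lit 2), (nat_lit 1, nat_lit 3), (nat_lit 0, nat_lit 3), (nat_lit 1, nat_lit 4), (nat_lit 0, nat_lit 4), (nat_lit 1, nat_lit 5), (nat_lit 0, nat_lit 5), (nat_lit 1, nat_lit 6), (nat_lit 0, nat_lit 6), (nat_lit 1, nat_lit 7), (nat_lit 0, nat_lit 7), (nat_lit 1, nat_lit 8), (nat_lit 0, nat_lit 8), (nat_lit 1, nat_lit 9), (nat_lit 0, nat_lit 9), (nat_lit 1, nat_lit 10), (nat_lit 0, nat_lit 10), (nat_lit 1, nat_lit 11), (nat_lit 1, nat_lit 11), (nat_lit 0, nat_lit 11), (nat_lit 1, nat_lit 12), (nat_lit 0, nat_lit 12), (nat_lit 1, nat_lit 13), (nat_lit 0, nat_lit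 13), (nat_lit 1, nat_lit 13), (nat_lit 0, nat_lit 12), (nat_lit 1, nat_lit 13), (nat_lit 0, nat_lit 13), (nat_lit 1, nat_lit 14), (nat_lit 0, nat_lit 14), (nat_lit 1, nat_lit 15), (nat_lit 0, nat_lit 15), (nat_lit 1, nat_lit 16), (nat_lit 0, nat_lit 16), (nat_lit 1, nat_lit 17), (nat_lit 1, nat_lit 17), (nat_lit 0, nat_lit 17), (nat_lit 1, nat_lit 17), (nat_lit 0, nat_lit 17), (nat_lit 1, nat_lit 18), (nat_lit 1, nat_lit 18), (nat_lit 1, nat_lit 18), (nat_lit 0, nat_lit 18), (nat_lit 1, nat_lit 19), (nat_lit 1, nat_lit 19), (nat_lit 0, nat_lit 19), (nat_lit 1, nat_lit 20), (nat_lit 0, nat_lit 20), (nat_lit 0, nat_lit 20), (nat_lit 0, nat_lit 20), (nat_lit 1, nat_lit 21), (nat_lit 0, nat_lit 21), (nat_lit 1, nat_lit 22), (nat_lit 0, nat_lit 22), (nat_lit 1, nat_lit 23), (nat_lit 1, nat_lit 23), (nat_lit 0, nat_lit 22), (nat_lit 1, nat_lit 23), (nat_lit 0, nat_lit 22), (nat_lit 1, nat_lit 23), (nat_lit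 1, nat_lit 23), (nat_lit 0, nat_lit 22), (nat_lit 0, nat_lit 22), (nat_lit 1, nat_lit 23), (nat_lit 0, nat_lit 23), (nat_lit 1, nat_lit 24), (nat_lit 0, nat_lit 24), (nat_lit 1, nat_lit 24), (nat_lit 0, nat_lit 23), (nat_lit 1, nat_lit 24), (nat_lit 0, nat_lit 23), (nat_lit 1, nat_lit 24), (nat_lit 0, nat_lit 23), (nat_lit 1, nat_lit 24), (nat_lit 0, nat_lit 21), (nat_lit 1, nat_lit 22), (nat_lit 1, nat_lit 22), (nat_lit 0, nat_lit 22), (nat_lit 1, nat_lit 23), (nat_lit 0, nat_lit 21), (nat_lit 0, nat_lit 21), (nat_lit 0, nat_lit 20), (nat_lit 1, nat_lit 20), (nat_lit 1, nat_lit 20), (nat_lit 1, nat_lit 18), (nat_lit 0, nat_lit 18), (nat_lit 0, nat_lit 18), (nat_lit 0, nat_lit 17), (nat_lit 1, nat_lit 18), (nat_lit 0, nat_lit 16), (nat_lit 1, nat_lit 17), (nat_lit 1, nat_lit 10), (nat_lit 1, nat_lit 4), (nat_lit 0, nat_lit 4)]),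
   (nat_lit 56, [(nat_lit 0, nat_lit 0), (nat_lit 2, nat_lit 1), (nat_lit 0, nat_lit 1), (nat_lit 2, nat_lit 2), (nat_lit 0, nat_lit 2), (nat_lit 2, nat_lit 3), (nat_lit 0, nat_lit 3), (nat_lit 2, nat_lit 4), (nat_lit 0, nat_lit 4), (nat_lit 2, nat_lit 5), (nat_lit 0, nat_lit 5), (nat_lit 2, nat_lit 6), (nat_lit 0, nat_lit 6), (nat_lit 0, nat_lit 6), (nat_lit 2, nat_lit 7), (nat_lit 0, nat_lit 7), (nat_lit 2, nat_lit 8), (nat_lit 0, nat_lit 8), (nat_lit 2, nat_lit 9), (nat_lit 0, nat_lit 9), (nat_lit 2, nat_lit 10), (nat_lit 0, nat_lit 10), (nat_lit 0, nat_lit 9), (nat_lit 0, nat_lit 9), (nat_lit 0, nat_lit 9), (nat_lit 2, nat_lit 9), (nat_lit 0, nat_lit 9), (nat_lit 2, nat_lit 10), (nat_lit 0, nat_lit 10), (nat_lit 2, nat_lit 11), (nat_lit 2, nat_lit 11), (nat_lit 0, nat_lit 11), (nat_lit 2, nat_lit 12), (nat_lit 0, nat_lit 12), (nat_lit 0, nat_lit 12), (nat_lit 2, nat_lit 13), (nat_lit 0, nat_lit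 13), (nat_lit 2, nat_lit 14), (nat_lit 2, nat_lit 14), (nat_lit 2, nat_lit 14), (nat_lit 0, nat_lit 13), (nat_lit 2, nat_lit 14), (nat_lit 0, nat_lit 13), (nat_lit 2, nat_lit 14), (nat_lit 0, nat_lit 14), (nat_lit 2, nat_lit 15), (nat_lit 0, nat_lit 14), (nat_lit 2, nat_lit 15), (nat_lit 2, nat_lit 15), (nat_lit 2, nat_lit 14), (nat_lit 0, nat_lit 13), (nat_lit 0, nat_lit 12), (nat_lit 2, nat_lit 13), (nat_lit 0, nat_lit 13), (nat_lit 2, nat_lit 14), (nat_lit 0, nat_lit 14), (nat_lit 0, nat_lit 13), (nat_lit 0, nat_lit 11), (nat_lit 0, nat_lit 10), (nat_lit 2, nat_lit 10), (nat_lit 2, nat_lit 8), (nat_lit 0, nat_lit 7)]),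
   (nat_lit 5, [(nat_lit 3, nat_lit 0), (nat_lit 3, nat_lit 0), (nat_lit 4, nat_lit 1), (nat_lit 3, nat_lit 1), (nat_lit 3, nat_lit 1), (nat_lit 4, nat_lit 2), (nat_lit 3, nat_lit 2), (nat_lit 4, nat_lit 3), (nat_lit 4, nat_lit 3), (nat_lit 3, nat_lit 3), (nat_lit 3, nat_lit 3), (nat_lit 3, nat_lit 3), (nat_lit 4, nat_lit 4), (nat_lit 3, nat_lit 4), (nat_lit 4, nat_lit 5), (nat_lit 4, nat_lit 5), (nat_lit 3, nat_lit 5), (nat_lit 4, nat_lit 6), (nat_lit 4, nat_lit 6), (nat_lit 3, nat_lit 6), (nat_lit 3, nat_lit 5), (nat_lit 3, nat_lit 5), (nat_lit 3, nat_lit 5), (nat_lit 3, nat_lit 5), (nat_lit 4, nat_lit 6), (nat_lit 4, nat_lit 6), (nat_lit 4, nat_lit 6), (nat_lit 4, nat_lit 4), (nat_lit 3, nat_lit 2), (nat_lit 3, nat_lit 2), (nat_lit 3, nat_lit 2)]),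
   (nat_lit 18, [(nat_lit 5, nat_lit 0), (nat_lit 5, nat_lit 0)])]) (by decide +kernel))
    exact of_sylow_prime (N := 86400) (by norm_num) M.card (by norm_num) (a.order (by norm_num) (by decide +kernel)) b

theorem exists_order : ∀ m ∈ Ms, ∃ x : Spor.J2, orderOf x = m :=
  let ⟨_, M⟩ := model
  M.exists_order (us := [[nat_lit 0, nat_lit 1], [nat_lit 0], [nat_lit 1, nat_lit 0, nat_lit 1], [nat_lit 0, nat_lit 1, nat_lit 0, nat_lit 0, nat_lit 1, nat_lit 0, nat_lit 0], [nat_lit 0, nat_lit 1, nat_lit 0, nat_lit 0, nat_lit 0]]) (by decide +kernel)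

end H27.J2
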