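import Cfsg.Agent.H27.Pt
import Cfsg.Agent.H14.McL

/-! The McLaughlin group on 275 points: `H27.McL.model`. -/

set_option autoImplicit false
set_option maxRecDepth 100000

namespace H27.McL
open H13 H14.PK H14.PK.TS H27.PKx H27.MG Cfsg H14

def Ls : List ℕ := [nat_lit 0x204a2984b010a48c41af560cb741b1760a21070628f23415c2a52e8041810000f8f8850403c1611121304c74469c9fb12321995a543cae4b0685927d6ca8678bc1a2e621a4f66e4e1ea146d5728d80992e299ec20038e424530c839249527a20aa82718586edb11a2c4e431f8a4743231afd341f2080942fa098d19c1a0486c3c21238ec6d063995d79012cb4594ef813fa109b43186210086289225f421358aeb44b913d0d5c250b676753b552dc7da75bacd64bf07a22140d61711471f5550337a4dc0df6a30dce6243b05d2c269bcde8e53bb1914f96cb89e2480a9009460401d4caa44ba800cda3c16830446629c0a4b128a920ac33b596e71019417cb558bd4282b0b8e0603c359145b097fc1d5eb42717966f0871f9ae7f7c37956702b2e9eed273341dc1d3532066c7248b1d90f6ab6208f2,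
  nat_lit 0x70ee8a8196d08e56c414a2c626a59fd0837b25c2dd2ca52028f69929a8641b0540ed7369a9c06c0d3cc2cab7380938203d904fa1b2337dd8033d1851c91200292663348b8ca173f84442c1021213635113a0c42c5c3544658644461c5c7b3c43ce36ca85965053225444f801493ce42e9e59e257f9e218c55e97c62ef68b41e4292bb3a206e42b0d0ce25da1c7702388f214b26f1d506eb6142d34fb87b6c50c7753e530b97e96a0e0d271511809822553a1941205daba2b1ccbc995a2d4e872542353e0059c25b40e734187a76382c110cd45bb9f8ca1d075b8a91f94e1a39059ad6ed6229f810266009056671990924aa7a0d030ad260b4f8307a91dd2ae009995eac028dc26d2258bc4e1207a418868221257e1f7c0508610030e100a05f449460c783e8aa325b331ee2a302954e97522c47cbc]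
def bs : List ℕ := [nat_lit 0, nat_lit 51, nat_lit 100, nat_lit 252, nat_lit 1, nat_lit 2, nat_lit 4]

theorem model : ∃ S : TS ↥(GM) 9 275, Mdl S Ls bs 898128000 ∧
    ∀ g : ↥(GM), ∀ i < 275, (g : Co0) • (mkPts ok275).pt i = (mkPts ok275).pt (S.ap g i) :=
  exists_mdl sys275 (genS_mem MsM_mem _) set275 inv275 faith275 card_GM (us := [[0], [1]]) (pr := [[nat_lit 0, nat_lit 1, nat_lit 0, nat_lit 0, nat_lit 0],
   [nat_lit 2, nat_lit 2, nat_lit 2, nat_lit 2, nat_lit 1, nat_lit 1, nat_lit 2],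
   [nat_lit 2, nat_lit 1, nat_lit 2, nat_lit 3, nat_lit 3, nat_lit 1, nat_lit 1, nat_lit 2, nat_lit 3],
   [nat_lit 1, nat_lit 1, nat_lit 0, nat_lit 0],
   [nat_lit 2, nat_lit 2, nat_lit 2, nat_lit 2, nat_lit 1, nat_lit 0, nat_lit 1],
   [nat_lit 3, nat_lit 3, nat_lit 3, nat_lit 2, nat_lit 1, nat_lit 2, nat_lit 1, nat_lit 3],
   [nat_lit 0, nat_lit 0, nat_lit 0, nat_lit 1],
   [nat_lit 2, nat_lit 2, nat_lit 1, nat_lit 1, nat_lit 2, nat_lit 2, nat_lit 2, nat_lit 1, nat_lit 1],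
   [nat_lit 3, nat_lit 1, nat_lit 3, nat_lit 2, nat_lit 1, nat_lit 2, nat_lit 2, nat_lit 1],
   [nat_lit 4, nat_lit 2, nat_lit 4, nat_lit 3, nat_lit 3, nat_lit 2, nat_lit 3, nat_lit 3, nat_lit 2],
   [nat_lit 0, nat_lit 2, nat_lit 1, nat_lit 0, nat_lit 2, nat_lit 1],
   [nat_lit 2, nat_lit 1, nat_lit 1, nat_lit 1, nat_lit 1, nat_lit 2],
   [nat_lit 2, nat_lit 3, nat_lit 2],
   [nat_lit 3, nat_lit 4, nat_lit 5, nat_lit 3, nat_lit 4],
   [nat_lit 4, nat_lit 4, nat_lit 6, nat_lit 5],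
   [nat_lit 1, nat_lit 4, nat_lit 2],
   [nat_lit 2, nat_lit 5, nat_lit 5, nat_lit 1, nat_lit 1],
   [nat_lit 4, nat_lit 4, nat_lit 2],
   [nat_lit 2, nat_lit 0, nat_lit 2, nat_lit 0, nat_lit 1, nat_lit 0]]) (lv := [(nat_lit 0, [nat_lit 19, nat_lit 20]), (nat_lit 51, [nat_lit 17, nat_lit 16]), (nat_lit 100, [nat_lit 14, nat_lit 13]), (nat_lit 252, [nat_lit 9]), (nat_lit 1, [nat_lit 8, nat_lit 7, nat_lit 5]), (nat_lit 2, [nat_lit 3, nat_lit 1]), (nat_lit 4, [nat_lit 0])])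
    (by rw [mkPts_n]; decide +kernel)

end H27.McL
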