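import Cfsg.Agent.H27.AutB
import Cfsg.Agent.H27.O83

/-! Classes of elements of order 3 of `PΩ⁺(8,3)`. -/

set_option autoImplicit false
set_option maxRecDepth 100000

namespace H27.O83
open H13 H14.PK H14.PK.TS H27.PKx H27.MG

def T0 : List ℕ := [nat_lit 0x7d0f9cfa1f13ee7e1f23e27c27bdef3dd3da95601c014a6ff92d3fc4b0fed27a517f2fdd0741d41f0690941882e8460b41441704d03c3643d0d50da2186688a18c2f4310b10b42b404f6ded1ff7aef59033d440a7e8febd17a08e11d3f57e68f5f93f07de8edf6a34462fad232478210360540949292a0440748490e0322b4590a213a2e45f09a12c2484288d1241e3c8799e73cc3d07a9e53c878e77cf0bc57869c5b9b724dc9cd3b36e6dadadb526c6d09adc6ad3718b416bb885aae1d66b8659ce11c128b51ae9dd2ba4522a39d1287740e79cea85534f09e029853ca81debbb772a59dba9476cd99b2a7f4f8a11b0b605049e53d35e6b8d6d5ab8156cdf9beabc6f8ae1583786eeabdbb2c458ae65cc39758cb1dca2be57ee4dc939154eaa1dabb2762ab5573b0756ea950aa275298531b596ae99934355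6a69712f35169ed38bc97a5fa5dd7d2f95eebd97a2f32e45d4b79d53acc5ce99da62a7718a1d8626c4587b0d666cc998b3032acbccb32d328cacc598d312680d0b4b33cd21a3344334d0cce342330d04bf17f5e05f0c2988304bb5762ea5d2b9d7330c616c29849bd37e6ecda30536ac0cd9b0164cc9592323396731911cd39cc84e49ca640d019fb3e67a69cd43363526a99a9a534ccd0b31685c8b88b516c5c0b796e9612c6b6d6cb626c6a0d40a804fc9f5b3b644f6d7d3c2776baa7ddf29d778a71e0a9b532efd4bbb8774a5549b7b576ae9bd2b96feaddc02b4566ac9bcab16eae256c38a5acb516938e5a2e2d67b85598e0d65a754e8dc13936f6e89c137b714dada5b626a4d2e8d4929051ee85d33a8518a2944a8873ee71432ac556eb9d7aaa766ed154aa654aa91d63ad546e55cb2ca592b21cd39b586b0960ac071ee415eb546ac99d32a646b0d69312604bed41a925d4b6f55ec204406f7100a007b27f8fe1fb7a67e5e94324410c10fa1d86e8721a21a85a8661721742a8f9f8bee478fd1fb23946e8d9f62354668c9f53fd7fe9652bc024ac952002524a0fe9273f849af94fb1f57c67ccf93e97cc7c1efbe03dc7b0f5a1483284e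0ac1b42107106a0c82482904c114108c21142345b0a61522a4528a20fc2044e89912a4c81703125c0e81e92122a444829020240547ef25e59e93cef35e79e53c6789e23c63c0778ee98730c610c1981300bc57917d5de5ed75aee5d0d1cd2349346d14d134c69a67da519d336664cbb07380c20df3063786e8dc9b836e6d98130460076cec9d7630c64ea3163a4c40e8b123a0c38e7af85f6bd57f2ff2f0bf0bb1742e65c4b816e2dacb19732a326648c899031eca0c7329318c9cc53396746c99db3c362cdd9c1b035e6b8d69ac356720e39c638a7118e31d386c798f9c2634c6ce0adf5c25acb4ae35ca59cb29645b4b70b11602be2108a1131042248810f10e1fc8610b0fa3ac7692d2563c07912924e398741252465185114513c508539411464f84e93d1322c0ae0ae2b62d4ac0b32ae2acaa0a92a62404990820e2544c10420622c471001fe488670cb240478698d0238468648c62304e86e8de2724d8710e326a4c86c0d92625485e0bd29e538608c22965285b8b828e1cc3a8fd1f61e03d0f91ee1b8380f51e625c4b1061284144909121423c8488d118408451012b22d8ad0b41645745895e15e2b4aa8ac2ac2a85411d1a83486891b2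4233c668cc23e464650c818e45c7892a1de4a0770ec25c3a8960e91ce498729241c84448908810c2148a9161062044010d21c1f83e07b2802985293f148510508a028627c9e09c1364ec4d14c29a314620c32a0544600bf17c520a48bb1742e4708e02664d06f8dc1b64dc9c0da1ae358979301aa3e07d0790ee1d87e0fe0e81c8388f41ec1bc3686c01c04405817034050028080040f41d83906e0d41983105e0b4118250420a41582703a07c0d8360d60e0350340d20f03403e0ce0e8330300ca0c83202e0c60640c01602a04c0901001e0340600a01201c0300400600400055058158150540501601305904815c1105204014c0f05103811c240620921283084508c1802684e0be13c2805e0961302e841084170218440b60fc2005a,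
  nat_lit 0x2ba570ad95e2ae5685a1592b0558aa9542a6544a814f2a452ca70c329a530a514929051ca29442865189f94214a504a013e27a4f09d9392704dc9d1342664d8701352644c49812f25a4b09592e25049c950ef252498929242464849011f2444708d91e1a24748d11923045c8a914226458890882224408790e21a4308590921041c8510520840c83094204404800ff1fc3f47e0fb1f43e47c0f70ec3d87a8f41e69652c2574b494d2b2554a89452824f49c93525a4a49293122a4848e91921a424829011fa3d4788ed1f2374748e51c2354688cd1923145e8b916a304528b115a2a44e89912a244468851021f44486d0f21d4388650c21742c85509a1242285106a1041e83905a0a41282103a0540880d031ff404805001fd3f87ecfd1f93ee7d8fa9f83e27d0f99f23de7b8f69ec3d67a8f49e83ce798f29e43c6784f01df3bc775a634a33ad35a2b44692d21a3b46686d09a0b3f67a6ada033866ecf19db3a672cd99ab34664cc0c7b33656ca997b2e65acb194b2864ec95919c464cc819132163ec798eb1c636c698c3163a4c6589b15628c4988b1061ec3986b0b6126d986306610c1d82b04606c0980b005fcbf0bb2ff5eab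d179afb5f4be57c2f75ecbc57797b5e4bb976aec5d6ba974ae85ceb9970ae05beb796e2db5b4b64afae55c8b8d7143586886a1bc368610be19c328630ba16c2c8570a213a288550a611c2284d0961242184107e0f41b8348320ec1c82d0560cc1882f05209c1282303e0740d4890420440c81702a04c0780d01602402803001294037f6ffdff3fd7f8fe9fcbf87eefd5fa3f346cfd9f73f27e2fc1f7bed7d8fadf53e63e0fa5f43e77c6f89f0be57c8f81efbde7baf71edbda7b27f9ec3d77acf55ea3d37a4f45e83cf79cf35e61e2796f29e4bc878ef19e2bc47863c0770f21e23a4768ec1d63a8740e71cc394720e11be38c710da1bc3746e0db1b23606b8d61aa348680d41a632c678ce19a330650c919031c630c4184304628bd1783005f8be1762e85c8b816e2d4598b216c2b8568b11602bc560ab1542a4540a614828c5389f13c288508a013a2704d89a1322544c09712c24c4909112023c4708d11822c4508910e21842882102200420830fe1f83e87c0f61e83c8780ee1d43a0730e41c43806f0dc1b4361da3b2760eb9dc3b674ceb3173aa750e89d039e730e59ca392738e69c5390c90e39c6386708e09be37a6f0dd9c037e6dcdd30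a3726e0da9b43666c4d81b23586bd9f1ae35a6a8d49a834e698d29a3344690cf1a1696680cf99c336668cc99832e654ca19632064d98992322638c698c316628c498530860cc1181300620c39862f85fd7817e2fa5dcbd2fd2f25e0ba9742e65c8b89702de5b8b69632c4584b016c2d65a8b4add2d059cb31652c8b5d6aad45b0b4169ad25a2b3966acc596b2563ac6594b0962ac4586b015fabe57aaed5cab8578ad15bab656aac958ab055eab1552ae55aa9954aa854ea9151aa2542a794e2a053ea614da9a532a594aa94526a4147292522a2946a8c516a2143a8650aa11412815009f13fa7e4fa9e93ca784ee9cd3b2754e89b938a704de9b135a6a4d29a133a664ca98d312614c09792ea5c4b6f05e03bf52ef09de3bb77ca75debba772ee1dbbb6768ecdd92a576aebdd73b1556ec1d6bac756ea9d4ba774ce9544ba8744e85d228f746e81cfb9e73ae71ccb98582e6dcd39472eb21cb395726e49c8b9071ee31c5acf71ce35c3b8a5ace25c438670ae11c1b826fedf959b81700de9beaba6f8dedbcb786eedd9bab746e6dc9b8a6d6dedb9b6b704e4db1b5b6a6d2da1b227b6ced99b2b63506d89b0b606bed79aeb5c6b6d69acb586ae97dab3556a8d4d323526a2d41a7b4e0d41a4358660d019c328640c6184300620ba17c2f05c0b61682c0570b21502b0550a61482884e09a1302585009e1182284a092120238440861082084007e0f01d83a0720f81e8340660e01b83606a0c81883005e0b81682a0520a01382c0560881082604a0901182003e0780e81c03605c0b01502804c0901a0320600580a0120440800f01c0340600800e0180280400600800800,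
  nat_lit 0x85b0b215c2e86b0d10d43786d0ca1842f8670820fc1e8430a213a288550a612c2384509a09c128230520dc1a4190760e41882d0560cc0680b01203c0f81d035224108150220640b7f2fe1fbbfa80500600252806ff5fdbff7fcfb1f5bea7dafd5fa3f346cfd9f83ee7e4fc5efbde7baf81f31f07d2fa1f3be57c6f89f0bd27a2f41e9bdc7b6f69ec9fe7aaf61ebbd678cf15e23c379ef39e6bcc3c4f2de53c9790ef5de3bb77cee1db3ba772f05e03bf52ef09d83af75cec5d5ba975aeb1da3b3764a95daba3744e85d239e738e81cfba774ce9544ba872ce55ca397724e41c7b93732e6160b9b734e25c4387714e15c1b8270ce31c5acf71ce35be37b6f4df5bc3766eade5bfb7e566e05c036f6dcdb5b83696d8dadb53746e6dc9b8a6d6c4d85b03636bed75ae35b6c89edb3b666cad59aab546a6d49a8b5069ed69acb586ae97da634a33ad35a3b4668ad11a4b48684d05a1b3f67a6ada033a672ce19bb3c676cd59a336664cc0c7b3365acb195b2a65ecb994327652c95919c464cc859032263ac718db1a63ec798c3163a4c658a31362ac4187b0e61ac4988b0b6126d98630760cc2181b02602c0182b045fcbf0bb2ff5f0b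dd7b2f55e8bcd7dafa5f2bc57797b5e4bad752e95d0b9d732ee5dabb170ae05beb796e2db5b4b64afae55c8b8d712cb59ce1166acc5aab516c2d75acb4169ad25a2af56039157eaf963ac6594b25642c258ab1161aaf564ddd58ab0572ae15e2bb574ad15bab656aa8950aa4754a8d552ae55aab155aa6552aa153a94526a59dba95538a814fa9e53aa614da9a532a1942a8873aa1d47292522a4147a8a51aa3145a7a6bc9e53c277504a05402845069f13fa7e4fa9ad352694d8da13b2754e89cd3926e4e29c137a5e4ba9712db4e4d099d332654c898d312614c094d2b2554a893528a5049e9392c2574b4ff12ca4549091d2323f48690920a40494925264094968dd1d2394708c51aa344668c91e23b47cfbd1ea294588ad1522444689d1322545a8c21222f45c86d0f21d4388590aa1943085d0fa228628851020d42083d0720840e82d052094228520ba134247fd012014007f4fe1fb3f47e502a04406819ea1f13e87ccf91ed3d87acf79ee3f0f90fb9f63ea798f29e43c6784f01df3bc774f51e93d079de39d83ae770ed9da3b274ceb3173aa750e79d13a0728e49ce39a730e59c5390c90e39c638270ce11bc376700df9be37a6dcdd30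a3726e0d99b53686c0d91b13586bd9f1ae35a698d29aa3526a0d39a234868ccf1a1696680cf99832e670cd99a332650cb19532064d98992322628c498e31a630c5982302600c418730c614c21832f85fd7817e2fa5dcbd2fd2f25e0b796e2da5d4ba1732e45c4b81632c4584b016c2d65a8b4add2d059cb31652c8558aa9542a6578ae95c2b6568ac9582ae528a494828e548a895029e538a694c2964f89e93c276518a2944286508a094027e4c89893025e4e89c93826e4d89a934266498929242464b89692c2564a89492824e4688c91822e4889092023e4788e91c2364388690c2164588a9142264488891021e408809001fe4288490820e418829042063d87a8f41e63f87e8fc1f63e87c8f81ee3b4760eb1d43a4740e71cc394720f21e23c0778ee1bc3746e0db1b43646c0d71ac354718e21c23806f8cf19c334660cb194324640c718c350698d21a2340600bf17c2f45e0bb1742e45c0b718a310618c21822c4580af15c2b4560ab1542a4540b616a2d0598b21442845009f13c2744e09b134264538a614a290518931242444808f11c2344608b1142604b89612a250420831042044007f0fc1f43e07b1122204388610a1d43a0730e41c43806f0dc1b43607a0f21e03b8760d61a8348680ce198328640c6188308600be1782e85c0b61682c8580ae1582a8540a61482885009e1382684c0961282484808e118228440861082084007e0f81e83c0760e81c83806e0d81a8340660c81883005e0b81682c0560a81482804e098128240460881082003e0780e81c0360680c81802e0580a8140260480881001e0380680c0160280480800e0180280400600800800,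
  nat_lit 0x33ed35a634a690d19a3b45688d0cce342682d00d6b3f67acf19d339670cdd9b335352cd199991664cc197b2d658cad9532965063593b9b732b11cc397590e59cab94726e49c838f71ab4dc638b5ace29c438970ee19c2b83704e05bfab66fcdf55d37c6f6de9bcb786ecdd5f43e77d2f98fc3e57c6f89f09ee7baf7def3da7b8f6decbd77acf61033d53f2f49e8bd079ef39e6bcc790f2cf43ca792f15e19dd78d0d90f4358690ce1943085e85e1742c85b0ae1542845709e1342584708a10a2584107e0f41d83683e0d41983105a0ac1441304e0941164c71992b23644c84e6b2063ec758e31b6347518cb1862cc54ee314626c4587b1061cc35861b8616c258430737ec1982b03604c05803726e8dcdb8a726dedb9b6b6b6d4db1363696ccd95b3b64506d81b13614f4d7daeb5c6b6d69acb586aed55a9a646acd3da925c6a2d41e13c0782efd4ebbe540ef5de3bb772ee1db3b5768ecdd93b1556ec156baf75ceb5d5ba9750e9dd33a5748a3dd1a91744e85d039e73904207c0e81b0320540880e9020324280b01201c01805001ff3fd7f6939fd2517f2fe1fbbf67eafd1f9bf27e0fb9f6a327d88d1f5bea2f05e97f2fc5f4b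e57daf65f0bdd7aaf45e65f4bfaf15debb5762ee5d2bad752e85ceb99722e22c8b956f2e12d4b816fadc5b6b696c9db3b2768ec1d762e758ea9d33a4745891d039e738e61cb394724e432438e714e21c3384c78e09c037c6f4de1bb374c28dc9b736c6d4da3043668c21222f45c8b51622a8528a51422744c89111c3144488110a1f43b0dd0e21b4348650c21642a8520ba134248450820e8388350620b41482103b63508a0940a804fc9f53fa7c4f6d793ba794f09d53a2766e09cd37a714e09b936b684d69a934a654d0d5133a664c698930a604be9752db4e4bcb616bad55a8b49c72d15a0b3dc22ce598b3565aca592b1d632c5586e69612c1580e455fabe57aaf15dab9570add5ab80568acd59377562ac1579b2362cecd81af67c6b8d61ab3546a0d39a634a691a49a3344d2cd09a033c674cd999334660cb99632acb8ca193662648c818f31c630c598a312f5102a04406801012013fe7f8fe1fb3faf4cfd3e43ea7dcfb1f33e47d0f89f07c07bcf69ec3d67a4f3bc73d4798f29e43c6788ef1e1788780efbfc4b4ffd2ca584ae9592a2554a69492824f49a93204a4b81692924a4848e91922a444869051fa3e7de8f5f8a3c4768e91ca3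846e8d91aa33462ab9562aa552aa153aa654aa91d52a3758a8950a9f53ca714da99534a614bbb752cee94aa94526a494828e51aa3145a8a512a21cea8773ea194298730c620c1985308608c09805e0bc8bf17c2f6bf57f9792ee5d8ba1732ea5c0b91712de5b8b696b2d2b74b61652d0b8cb39662c6588b09602be1ac1c06a0d21a01f0670cc194190640c6188308490c017c2f04f0ba1702d8430b41642c0250ae1582a82b0a814c2901f0a2314620c21823005f8bd1782ec5d0b816e2d85a8b31642c4580ae15a2b0558a915029c530a41462885089f13c2744e09a13220c89915228220879112201f88590d21823c8490820e25082904206228809001fe3f47d8711fc3e47b8761f43d47986c1ec2bcaf15c2ba56c5a15a2b0564ab8aa2ac550aa9532a42f8a895029e5386194d29852ca50b9292520a3946140514a2143284294a094027e4f84d93d2784ec2804e09a1302584a09011c230450881082084007e0f41d83c0740e41b83506c0d01983105e0c01702d0580a81482804e098120230440841001e03a0700d89712c260830951242444990a1202344608e20422c8908910e218429161082084088021c1fc3e87c0f61dc3d0f80f21e0390751f81d03986d0e03d03786e1e23c0770ec1d63a4738e61c838c708df1bc3706d0d91ae3546a0d21a033c668cb1943206313a1b64e46e93826e4d8701351c44d0999321ac4c46c13025e3a8970ed25a4b0958ef2543c89492824e394930e824a490919221984846712023e4786891d1a64708d91a18e4646491822e0640c01a02a05c0b0140260480800f0220300700d0160280480700c0200180500800800800,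
  nat_lit 0x34067cd0b4a692691a3345688669a119b682a9d542a9764aad573b075eeb9d62a4756ea60e20e4210690921483105a0aa0941704e089c6390c95919cb39873990b2063c70d8db1a71ce316938b5aeb596c38870eb35673837048e11d3f57e6fc51ea3e7e0fb9192357d6fa8bcaff2f0bf17baf65eabd1799722e85d4b9a7e4fe9f5b22846c6a0db0b604f2d75ae35b79ef39e6bcc3d27a9e51e779077de21e13bb0de1aa1d8688851143085e8610ba198590acd69af67ecf59d9b2670cdcd39a8354cd59a28b51ae9dd2a8f524e89d0b9f50ea21cf39c48c91d2440d8169320540848090e03405808754ea1d662c7698a1db626c48e8b0f61cc35c02b556edf95d2bc6f8de9582b26f0dd9ba9f33e87c9f31f77c6f89f09ef7c07b9ef3dd2fcbc8beaef30a61cc41865d4ba5742e75ccd69acb586ae999aa2684c89752f3514b6d3d4d29b780efd4f29d77aa7dde3bb774a59db4294590a213a2e45e8c212c2384489513c1e32264d9933065c654cb32d656ca8c598e64ee6962b99730b216539457cafd60392720e3d2aa56803001ffa5a7f693d273f94a0fe1fb9b8374c2d849bd380c19821b436ac0d80b004e2dcdb93714e6d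c1392754ec9d1b7b6e6da809edbda7b27e9e99f93f87f4fdbd27a2f40b32e32d0590b596c5c05a56f2dc5b6b696c9dc62a764ec1d7630c5d8c9d33a4c40e831139f0260624b4949260740f8209152224280e9051fb7b6faaed5cab856cdfdc0ab4566dddbcab155ece59d33c3626c19f34035c6b0d59a966c698d2c328630cd1021f43c8721b21b4350b61721642aa45d1ba4520a39d33a8518a2944b9d740a1942984306608c09805e25fd7817c2f6bad76aee5d8f94fc3e43ec7d5f43e97ce7c4f83df3da7b0f5b556ac99da9a654c698930a604bed412e35269ce25c52d55a8b4d68b8d5a0b3dc2b8470cb31659cd644728e4b2464c71ce29c4638c758f9c2382fbdf923c476fd1fb23946e8d91a3ec7da8cd18aad762ab1553b3768ed5532a5754eb551aa2542d1cd1b48344d31a5b4d33c674ce343332660cbc1783284d08a0f83707506a0c8250510520840ed8941281500d99b3b654f89edafa7a6bc9e13baf85f4bed7cafe2f4bf4bb9762e25c0b796e2daf24f43cb78e798f29e43c6789e2bc63c0f0cef3fd7f8965ff2584af00a01a544a694928bfa49ae55cb397592b1d632c4736b0d612c1722e4d5e9bf60ec20df1bc376c29861b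936e6d9813053670921322d4570a91522945107e1042144c89111aa077ca71e0bc2532a614bbb876ea55dca94526cb197994662cccc919031e63594329318628c4bd540cf51ebbd87ac815022037b8805001ff3fcdd13826f4dc9b5b4a6c6d0dadb636a4d69a934adf2d4b856eae45ca59d711652c6588b09602be0d8350370d20f03383d0cc0c0320310c63889b0e11be3749d0dc1b4360990d71aa280511452862945394127e26c4e93d27613c2f84c0961243104608a10c2e04007e564ad0b3164574af0ae15a554ab0a91503306792023e3446a11c23631c6511822e0380801101e05c0c81a0300140380800c4444388610a454410811004343e87c0f61cc7e0750e21e07c07a0ec1b87a0700d82c0578b12b856c5a8b416c560ab8ab1542b0aa15308e120250610c0134270500bc1742084208816c2d0d323a478690d019c484910cd1963248c91a1903186d8de2724e09b8e01c64d49a1331ac3649893025e0f83403b0740e41c06b06a0d0198320ca0bc1702d280508530a4146510a30a113e2789e13e1382684c88422c20c8a1131124484411021e1fc8707e21842c0b01502804c0900d01802c0500900800c010010003e47d0791ee1dc7e8fe0e83ec390f51ec1bc7986d1e44a8770ed25c3a4741261c82f86014f186314a58b917651c118260ae0a41605403a0802894c29a538620c2182540a895217e2f45e1482925285d0b816e3ac7512d1d84b0958f01de4a47892824e398729251ce4909182b0aa1581502804e0942c0590480881081f0a414c0f01c0362408508f12424c4890921041c4a90612825c4c09620a4108188b2042284688e118404800ff,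
  nat_lit 0x15e578ae15b2b4560ac8b32ae558aa9542a65485f15129e538a694c296304a514929051ca30a028a50ca11412804fc5193e27a4f09daae558aad552a9766aa153aa6548a8d512a153ea754f29c782a6d4ca9a530a594aa94526a494828f51ca35d328c516a294428750ca15f43e77d27c0fc3e57c2f8df13e07bef79eebdb7b4f70ff3d67b0f5d033d57a6f49e8bd079cf30f13cf790f2cf43ca792f19e2bc47863c4778f01dc3b07592c1d23a0738e61ca390718e11c037c6f0dc1b44dc6c8d81ae3586a8d41a4344680cf19a32c8f8ca192320638c646109117a2d4588aa14a2944e89912a244470c51122043e8761ba1c4368650c21742c8550a4174268450820e83883505a0a41282103b736e4dd136a736dadbdb736c6d6da9b4b686ccd95b3a7b508d81b13616bed79aeb5c6b6d65aba5f6b4d4dab2666aad49a8b5069ed383586a0701a41e06807c19c1d0660ca190318620c21243005f09a1782785d0961702d85a0b2160128570ac0a42a82b0a809c298520a26c8d8b3b3606bcd71ac3546a4d41a734c694d21a3692688d09a033c670cd99a332660cb99632acb8ca193324640c718d31862cc51892f0bf4bd1765f2b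ed7d2f65f0bdd79af55e85f57817f2f6bb976aec5d6ba974ae85ceb99722e22c8b95702de5bab84b52db5b257d6e43686a8790d4344430ce1942f8610ba16c2c8570aa1422b84e8a21322e84b08e1142184107e0f41d83683e0d20c83284a0c41682b05209c128224e86d9391ba4e09b1351c44d0999322624c0978ea25c4b47692b2543c894927250498929242464886612119c4808f11d1a64708d91a2324608ba836c6a05402824fa9fd3f3644f89e93ca784ee9d53a2764e4dc137a714e0dc53726c4d69a934a674ca991343544c098dac2624c29792ea5c4b6f09e029777eef9503bd776ef1dd3b9770edddb3b5768ec952bb1760ab5d7bae75aeb1d5baa752ea1d3ba5512e91d1a91744e85d039f73ce75ce0c518830c610c02a02fc5e8bc1762e85c8b816e2d85a0b5164574588b015a2b8560ab1542a4540a714c294520a22882844f89e13a2704d89a132f510220340a801012017b27fcfe9fc3f67e8fcbe43ec7d4fb9f23e87cdf31f13de7b8f69ec3d67a4f3bc73d478cf33cd3ca790f09e03be778ee99f69ad2da619d694d21a3347688d15a1b42682d00d6b3f67ccf4d5b3c674ce59c33766ccd59a333322cc998b3031ecbd96b2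c656ca994b2864e1402704c0941202384608a110218420821001f83d0760e41b83506c0cc1a0320620c01782e05a0b01502804c090118220420800f81e03a0700d98730c620c218330a604c01825e2bc8bf2ef2f8bf97f9795f85dcba9742e65c8b89702de5b8b69692d8b7cb59652d0b8cb39662c058d6d1622c2b616b2d75a8b49c72d15a0b3966acc596b2964ac858eb1561b9a584b015fabe57aaf15daba572add5ab80568ac958ab055f04207c0d4890320540849301e0340580900e00a52800ff9fea587f6fe9fcbf87eefd9fabf346cfc9f83ee476fb5f63eb7d420c8a11322a224879112204388690c21623c8410721225481905208408809001fe3f47d8711fc3dc7d0781f23d87a8f41e6ff12d2597fe95e012564a895529a514a093d2724d49902525c0b4949220724748c91521a424829011fa3e7de8f5f8a3c474fd11ca3846e8d51a2334648c5cdb99588e6160b9772ce55ca2c6726e49c8b9071ee35c62d359ee2dc5388712b55c3b8670ae11c1b82702dfd5b37e566df5be37b6f4ae1bcb786eedd9ba89712c2604a10612224c4910a1202384688c1162284411210c21443916108200410810fe1f83e87c0f61e43b8760f43e0390751f81d0398700de1b83686c3b6764eb9d63aa74ce89d039e738e61ca39071ce29c3384704e01be3786e8dc9b736a6d0d9b2638cc9592323388c88e5b2139ac80e4b1f63cc758e31b6347518cb176307498b1da62a7718a1d8626c4988b1061ec3986b0c370c2d8530936cc20deb0737ec18ddb05608c0d813016000640c01a02c0540b813024050078110200300700d01202c0500800e0180280400600800800,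
  nat_lit 0x42f0ba1642b86d0d50f21a8690ce18c3285f08512c2083d0aa1422b84e8a21342584908e0a2098270460ec1b41f0690641983105e0b40c815026044074810192140582103e06a447fcff1febfb49cfe9fca517ef00e00a52800fc9f83ef7dcfb5193ec468fadfb3f57e68d9f43e77d27c1f21f87c4f85f19ee7bcf75efbdb7b4f70ff3d77acf61ea2063f2f45e83d279cf30f13cf794f21e3bcb3d0f15e19dd78cee5dbbb876cf09e029777ea75df3bd540eedd6bab754ea5dabb4764a95d8aab760ab5d7ba073ce75ce3a874ee9544ba451ee8d48ba272eb21cb394726e49c8b90736e6562398582b59c538870ee19c2385704e35c62d359ee2dbeaba6f8de9bcb786eedd9c0b7f56cdf959b736e4dd136a726dcdb5b7b6b6d4db1b426c6ccd95b3a7b506d85b03626bc9e9ae35b6bad65aba5f6b4d55a9a646acd45a7b4e6a4971a1b42338d04cfb4d696d30ceb4a690d19a233666a6a59a34035acfd9f33d356cf19d338652ca0c6b276666459933166063d97b2d656c89909cd640c7d8eb1b64c71992b246467118ab143b8c4d88b0f61a7518cb176307498b30860e6fd83305606c05861b8616c29849b62f0bf4bd1765f4b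e57daf75ecbe17a2f35ea5f57817f2f6bb5762ee5d4ba575ae75ccba1722e22c8b95702de5bab84b52db5b257d6e2ce598b35c1acb712b616bad45aab49c72d15a0b015fabe57ae3d65395592b1d632c5586e69612b2562ac157b75578ded5dab9570add5ab80568aa5d9aa854ea99522a3758a8950aae558aa9d73c1536a654d29852cee94aa93528a7d4f3bc538a35d328c516a294428773ea1942a92520a39d0b63508a01412814fa9fd3f3644f8d7d3ba794f09d13b2756e09cd37a714e0dc5373694d29ad352654d0d5133a664c098dac2624c296d2f3504ba94127bf849a969ffa594ae962012564a895529a434828fe0224c49702d2524949103923a4648a8d519a317d48f91ebf14788ed1d3f44728e11ba2c4550a514a2783e899122234608bd1722d8448761ba1c4370b50ca1842a859112204430c10fa1041d07106a0b8248290420742884d0921182af5501a05408801012017b27fcfd9fd3f8f4cfd3e53ea7dcfb1f23e87cdf31f17c07bcf59ed3d879cf53c93d278cf33cd3ca790ef1e1788780efb103a2c48e830e39e76cec9da3ae760eb1d53a670d8e1c263c7058d1ce39872ce51c939071ce29b56046d1821b3600700df1b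d3786ecdd1b936e6bcd71ac3546a0d39a634a6c99c9b16766c19b9a1340678cd99933465ccc347348d24d1b4534464cc919031c630c598a3126599619565c6519518631061cc1985308600c11815e2bc8bf2ef2f8bf97f9795f85dcb99752e85c0b91712da5bcb71692d8b7cb59652d0b8cb39662c058d6d1622c2558aa9542a6578ae95c2b6568ac9582ae528a494828e548a895029e538a694c2964f89e93c276518a2944286508a094027e4d89a9342664c89893025e4e89c93826e4a89492824e498929242464b89692c2564788e91c2364688c91822e4889092023e4588a9142264488891021e4388690c2164288490820e41882904206408809001fe3f87e8fc1f63e87c8f81ee3d87a8f41e63a0738e61ca390790f11e03bc770ed1d83ac750e91b23606b8d61aa38c710e11c037c6f0dd1b836c6d0ca192320638c61a834c690d11a033c670cd19832c600bf17c2f45e0bb1742e45c0b718a310618c21822c4580af15c2b4560ab1542a4540b616a2d0598b21442845009f13c2744e09b134264538a614a2905189812e2584a8941262484889011e2384688c1162284488810e21842884106208408800fe1f83e87c0f61e83c8780ee1d83a8740e61c8388700de1b83686c0ca1903186b0d41a4340670cc1702d85a0c41843005f0bc174298520a21642c0570ac1542a04a0921202384608a110218420821001f85009e1382684c0960e01b83606a0d0198320620c01782e05a0f81e83c0760e81c82604a090118220420800f81e03a0700d82c0560a81482804e0680c81802e0580a8140260480881001e0380680c0160280480800e0180280400600800800,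
  nat_lit 0x1602bcae8ae16a2d8ac157164558aa9542a6e55cb2c858ce65cdac3730b09602bf57caf60e20e41e83109a148308460b41482704a088db1ba3789b8e126c38c9a8df2644c49812f540ef94ebbc536f01e129977ea594aa945268e1fa23a46c8f5f923e7e08f1f6bec7d6fa8421161062088810f10c21c4290e21a43085b704e69c9b7b736e8dc93826f4d89ad352693c8f34f31e23d27a9e51e7790f19e2bc47863c8950ef2504b4970e92563a0738e61ca39204c0b81892607c1081a91521a424829011fa8b74ca3544a90524a39d13a073ee79ceb9c298534618c12a25485f94f1762e85c8b816f0ca18a218610d50e4368688650c21742c855c02b556cacd5dabc6f8ae5bcb786eedd9ba90612a250828922104248388e11a2304588a7ca7e1f23e33e6fa1f4be73de7b8f69ec3d6985ac2634be99d343554cad49a8b5069ed381b03806e0d03403b0ce0f4330390ca190319cd396c88e4b25390c98e3b2338a70ce11c1322cc4c998f32acbccb32d328cad94b2864e13c2685f0961843106008810c210410800fda3b49690d15a634d694670cd99a332660cb9b86146e8db1be3806f182b04606c0980b0001c0440780b02c0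5c0a81903406009814024be17daf95ea5d4ba1732e45c4b816f2dc5b4b32e32d0590b52df2d8b74b49615b458cafc3743c8750da1a8668811121f85f0ba16c2c8562f8a80c01782f46214e18a308a594a292520a3b7b574df55c37a6feaddc0b7e568ac958ab055e91923c0e49091125a4c81492a0440780d016020eb1d43b47612c1e04a4788ee24e49892924246a45d1a8f748e85d3ba8518e954528850ea19429f43e47c5f31f03ec7dcfabe27c2f81efbde7ba2408508f1262444b89812c410819022024007fb544ccd59323536b2d69313574c09792ea5c4b6a69e0a9852ea79dea9f538eeddd3b9770edddb0e21c04cc9a1392743709c0da1b23606b8d61aafbdf8a3b7dcfd5fb2397e68dd1aa344668c918b9a588b1560ac972eb2963b94726e49c8b9071e564ad0b41662c4ae15e2b62b4560ab1542a4544174250660ac1b4210760d20d41682904a0840e9c5373714da9d53b2746dcdb5b636b6d4da5b41112242244411422a44c408800fe1f83e87c0f6f24f43cb78ef39e79e579878cf09e03be778ee9a033e685a599e33a68cd2346344d11a1b4268211c240490941142304e0a01782605d0b816c2d1bf60e6f5841bb60cc2d861b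96126dcda9b4366719921c4398739909ca640c7d8f31d638c6d8d03e0780e83506b06a1a4198320620c01782e05acb19732a664cccc9330320638c698c316628c49795fe5e0bd2fe5fa5dd7e1765f4bdd7b2f45e60400680c0140240400700c01402003004004002e05c25ad6f2e45ca59d711655b6b70b12d92c0e25c52d65aae3168b8d716b3966acc5970a515a2c4508bd1842545b0861041f83c280a20a213c298539411484f89e93c276ab555bae75eed1dabb254ca9151aa2542956012534a49652d3fb4aefe9fcbf87ee3306711f1963486a0d02384688c91822ed89b1a845069f9b33676ca9e93ca784ee808ffbd93fcf5d02205406f4de93d17a01cc7e0750e21e43d0f90ee3d87a8f41e6ff5fe3ff7fc9612b401806952002514a093d2724d54eaa1d9aa954aab1d8aae760aa9d6bac756ea9d48d323a3448f11b24233c910cd240328648c818e31a1222e84d08a11c288548aa13a2944e89912a24446e3969ad25a0b3d6bad8710e1d6a38670ae11c1b82280294a10a327e514a30a128627c4e89c1362684cbd540cf51ec3d67b6f71ed2014007f4fe1fb3f47e53fa7d4f8d913db616c0a05412806bed79aeb5c6b63e03c0fa0ec3dc7e8fe0e83ec390700de1b83686c3b8768ec318632c58e89d039e6b59f1ab3626c8d833666acd0118250420a8160280a614828b39674ced9e337670cfcd7b4035ccf4d61aa3526a0d39a634a754ea1d662e74ce93153b2c50edb133aec4988b1061ec398682b0aa0a42b0270a81601305904815c1102003e0780e81c0365f97917d2febc57817c5de5ecc218530661cc4186302608c02ee5dabb175aea5d2ba173ae6,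
  nat_lit 0x43085e16a1686e8790ea1b434885114318608b917c248448960fa2744689214a2b4588a20e20e41e8310941742905508a0982482d03a4048490e0224648f0392424481702524a4a7fe969fe25849e93928a507f0956012534a48e1fa23a46cfc51ebef47c8ed192347d48c4f7be03dc7b4fa1f23e2f98f81f73f0f95f22067aaf51029fa7a67e4fe9fb4047fdec9fe3c8f34f31e23d0f24f53c73ce77de21e13baee94b3b7528a69e0a9852ea794eaa053eef155aad55ceb9d63aa542a8953aa8766aa552a8b74ca3544a8f522e854739f50ee754428557cafdc8b8f734b1162ac1590e55652c658eb5d6b3895aab3567384706e3969ad25a0b3dc02b556cacd5d37b578ae158377564dd557a6c6d2da135a714dcdc536a736e09c93b274508d8d41a824f29e9afb5e4fe9f53e3644f6985ac2634be999aa2684c8971a825e69c96ccd19c336660d019f342d2ccf19d692d1da2b3b6726c99b9a73506a4d51a534c6b59f1ab322cc4c998f65c65596196654650c598d312c798e1c3634719921c4396730e69ce392728ed1dc3b67618931061c754ea1d662e74ce91b86146e8db1bd37e6ed821b46046d5801b32e45d4b996f2f2b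fcbc17a5fcbf4bbafc2ec614c41863045f97917d2febc57817c5de5ecb32e32d0590b52df2d8b74b49615b458cafb8570cb3165b825b0e21c53875a8e3168b8d716e65cdac3730b09c92c0726e415eb9672eb25ca37c6faaedbd2b96feaddc0b7e568de1bcab16ecead523ad546ea5d83b1558ebd553b476aec95329b780f094cbbf770a55dcbb6526ef5df29c776e8d493a4520e89d3ba8518e954539e740e71432784eed71aeb5b6c2d89b02815009f9b33676cadcdba3724e09bdb5b6c6d49a934a756dcdbdb6b556ac99da9a656b2d69313574c0d45a925d69efe5fd24d7eeff52cbfe7f695d2b4018069520040f82103522c0680e90602a3f8149320624b810fc1f93ee478fd5fb2397e68ddf62357da8cdf5c2084289a0f42546109a11a2d8510a9154274530d50e4368688661642e8568561943344087e17c1883284e0b41b4210760d20d827051054114107f1e8bd27a0f5dec3d640880dedbdc7b4805001f37d0fa5f3bde7bef74f61eb3ec7d5f13e37c2f29e59e9790f39e79e579878de2bc63c0f0cef1d161e741889cf61ac518a9d962675d8c31962cc94e432638ec8ce2b1d63e7098d9c1642c8990307380c20df306378c2d861b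96126dd81b05602cd59b334674cf0d8b38360cfcd7b4035ccf4d634c69ad29a1343332d04cb9a468c68da41a2688cb597b2b664cccc9330320ca0c7329318c9cc52ea5d6ba576aee5d8b9d742e630e610c19813005d0b89702dc5b57baf85ecbe97daf95e8bd579ae05c25ad6f2e45ca59d711655b6b70b12d92c0558aa9542a6578ae95c2b6568ac9582ae538a694c296528a494828e548a895029e518a2944286508a094027e4f89e93c2764c89893025e4e89c93826e4d89a9342664a89492824e498929242464b89692c2564889092023e4788e91c2364688c91822e4388690c2164588a9142264488891021e41882904206408809001fe4288490820e3f87e8fc1f63e87c8f81ee3d87a8f41e63a0738e61ca390790f11e03bc770ed1d83ac750e91bc3746e0db1b43646c0d71ac354718e21c23806f8d41a6348688d019e338668cc196328648c818e3185d8ba1722e05b8c518830c610c11802fc5f0bd1782c4580af15c2b4560ab1542a4540b616a2d0598b214e298528a4146288508a013e2784e89c1362684c88e11a2304588a13025c4b09512824c4909112023c420831042044007f0fc1f43e07b1122204388610a1e83c8780ee1d83a8740e61c8388700de1b83686c0ca1903186b0d41a4340670cc17c2f05d0b816c2d0620c21802c8580ae1582a8540a6148288440861082084007e1402784e09a1302584a0921202384608a0e01b83606a0d0198320620c01782e05a0f81e83c0760e81c82c0560a81482804e098128240460881082003e0780e81c0360440800f01c0340600b0140240400700c014020030040040001a0320600b81602a05009812,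
  nat_lit 0x4350d21b43585f0cd10c318650ad0bc2e85909d1442a85108e1322e84b0920f42144b0820d20c83b06e0b4194250620bc1182882609c0f81a9120840a81302124c0c80d01603a4080294a004037f8ff5fda587fcfe5fba4e7f4fd5f9a367ecfc1f7bee476fc9f63eb7da8c9f43e77d27c1f21f87c4f85f19ee7bcf75efbdb7b4f70ff3d77acf61ea2063f2f45e83d279cf30f13cf794f21e3bcb3d0f15e19dd78cefd4d3c2780eeddf2a077aa51db3b9774ee1d93b554eed1d7bb1760ab5d4aa175aeb1d5ba5750a2dd3ba2748e8d48b9c50ae81cfb9e732b11cc39b72ce5163397724e41c7b9357cb4dc638b71ae216ab87714e15c138359ae19bfab66fce05be37a570df5bc3766eade5583726e8dcd372736dadbdb736a6d8dad363696cad9db327c508d81b13614f4d7dadb5d6b8d5dad2616b2d4dab2666aad3da925c6a2d41a534d33ed31a2b44692d21a3b46682d0da133d6806b59fb3866ecf19db3a672cd19b335660cccc8b32656ca997b2e65acb193b29650c95919c464cc859032263ac718db1a63ec798c3163a4c658a31362ac4187b0e61ac4988b0b6126d98630760cc2181b02602c0182b045febf97eafc5f6b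e97caf85eebd97aaf45e6bc978af05debb976aec5d6ba974ae85ceb9972ae45c6b8970ae05beb796eadc5b6b696cad45b0e256b2d759eb41692d171cb2dc22ce598b1d65395592b21612c158ab0dcd2bd580e455fab9578ded5daba568acd5bab5700abd59377562ab155aaa75cab9542a654aaa5d9aa3544a91d529d53ca71de29f532a5d4c29b782a5549bb752ca4147a8e742a494628a512a35d328750ca21cea836c6a05402824fc9f53fa7b6c8d793c2774f29d53a2764e4dc13826f4e29b5b8b684d49a535a674ca991343544c49812fa636b09752db4e4bc95d2d3ff4b294e012564a8955fc24d4a094527a4a49892e05a4549103923a4647f01121a424828f11f23d7e28dd1d3f44728e118bea46a8d119a2f45b0891822a8528a51622b44c89111a2783e8821821f4450dd0e21b43a8790c21542d0b50ca134230550a20e8388350820f41482103a0b824f5501a05408801012017b27fcfd9fd3f8f4cfd3e53ea7dcfb1f23e87cdf31f17c07bcf59ed3d879cf53c93d278cf33cd3ca790ef1e1788780ef9d83ae770ed9da3b274ceb3173aa750e79d13a0728e49ce39a730e59c5390c90e39c638270ce11bc376700df9be37a6dcdd30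a3726e0d99b53686c4d81b235c6b0d59af67c6a0d39a634a6a8d49a3344690d019e33a685a599a332660cb99c336654ca196324640c7993662630c598a312638c698830e618c2984306608c09802fe5f8be97c2f65e8bc9782ee5d8ba9742e65c8b89702de5b8b696c2d65a8b49682ce598b29642c6588b09602be56c5795e2b855c5a15a2b054c551562a853ca90be2a252ca70c329a51ca50b929250ca30a028a4fca10a52824ec9f09b27a4e49c13a1b64d49a1361c04c4981321ac4b4958ea25c4a4938ef254494918e524c484901221984748e11e1a24648c11a18e20c8a11322a2208810f2221f88610b21a23c841072122508210320a228800ff2023f47d8711fc3e47b8761f43d47986c1ec4a0770f11e43c0960e91d83b4759241c839c740e61be4cc718e21c23689b8de1ba3706a92f1b23606b8d0236350698d219647c678ce19a3188b8ca192320620c2182314a60bf17a2f0601501742e05b8bb2902d4590b32b22d8580ad15c574588ab1502a4aa8ac14c290518a72802844f89e1445104e09a1322749e09613025c8309512224c4910a1202304708d20422c8908910a21c431161082004108121c1fc3d87d0f81dc3d0f80f21e0390751f81d03986d0e03d03786e0d21ac350660d019c318650c8180310610ba17c2f05a0b816c2b8590b01502b0550a214c2904e09a1302585009e1202384608a128248420821001f8440860f01d83a0720f81e83606a0d01983806e0c01782e05a0c81882a0520a01382c056090118220420981281e03a0700d82003e0680c81802e0580a8140260480881001e0380680c0160280480800e0180280400600800800,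
  nat_lit 0x43686a1ba1e860885102228628590c21785a8ad162288530921122d45c8be0fa234488960e20e41e8310941742905508a0982482d03a4448c91e0724949502d25c098089012124380494d292554b4ff12c2577fe945fc24f49c8e1fa23a46cfc51ebef47c8ed192347d48c4f8be63e07d0fb9f53f0f95f21ed3def80f71ff7b27f9012067aaf5102a033fa7e9e99f93c8f34f31e23d0f24f53c73ce77de21e13baa61e1299536a714f3bd53eed949a95772a5954aa6764aa1572aa558ec5523ab544ea551a8c51ae9d45290524a39d1287740a21cf286584e6161ac558eb25cbaca57aafdc9ac0724e31692d05a2b61c3ad45aeb3965b8270cb315ab8156ead15dabc6f8ae558ab26f0abdbb2704e29bdb9b6e4ea9d93a26a4d69a5b5b6a4fc9fd3eb666c2a05412806b8d6d3c2794ee98931b594c099d343554ca9752f3514b6d3da534d33ed31a2b44692d21a3b46682d0da133f67a6ada033a672ce19bb3c676cd59a336666cc998b3065ecb996b2c656ca994b2864ec8d931c664ac8191321636c698fb1e63ac718c3163a4c658a31362ac4187b0e61ac4988b0c616c2984b0860ec1982b04606c0980b005f8bfcbc2fe5eab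d179afb5f4be57c2f75ecbc57797b5e4bad752e95d0b9d732ee5dabb172ae45c6b8970ae05beb796eadc5b6b696cad5712e21c52d6716b3d69b8e71ae0dc2b8459ab216339472ae59cd39b582b11ccabe71ee41c8b7b574df55c37a56cdfdc02b36fcddd583796eaeb9d7aad760aad52bb3768a9ddaaa1754eb1d6bbe53aef1ddaa0534efd4bbc1780ee94a3b876ea45d1a8f748e85d328b750a25d2b9d73ea15ce3626c0d8d422836c89f13db676cad75afa7a6bcdc139a726dedb5b8a6e4dadd1b936c6d29b1b43544ccd59323536b0985ad25f6aed412e35269cfedfea597fd0012b40180695126bf77f2941fd40c8110292641081a91607a4880e90602a3f80cfc1f93ee478fd5fb2397e68ddf62357da8cdf5c2384a8c2134274530a21522a83d08113c2144d0cd0fc2f8648721b43486a8761742b42a8661641883284e0b41b4210760d20d82705105411410811ebbd87acf6dee3da402801e8bd27a07f0fd9f67c4f8df0be87d2f9cf99f23d87adef3df7baf29e59e9790f39e79e579878de2bc63c0f0cef1d83ae770ed9da3b274ceb3173aa750e79d13a0730e59ca392738e69c738a710e4324384704e19c037e6f8de9bc3766e8dc9b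836e6d8da9b43666c0d91b13586bd9f1ae35a698d29aa3526a0d39a3344690d019e33a685a599a332660cb99c336658ca994326648c899031e638c698c316628c4982302600c418730c614c21832f85fd7817e2fa5e4bb9762f4bf4b91712e05bcb716d2ea5d0b996c2d65a8b49682ce598b29642c6588b09602be2b8580af2ba2cc5a8b42b22a4558aa2aa5405e0bd17c530608c21865205b8b8172280a20a213c294a00a714626c9e09d1324dc6d8dd1bc4cc700e21c64bc6b0d81b23b4960eb1d43c8940f01de3a0920e61ca3306711f1963446991b1a031c6491718c2084211610621c449121101f43f90e0fc24c4810a11e2604a906128238459021141cc7e0750e21e07c07a0ec1b87a0700d83b8939291e24a87492b25a3b0970e42464947392626c3849a0df26a4e86e1381b44e4990d72603549891d1a84786911c24233c910cd2404646511a190460a594d18a5386214f2a2300a90bf28e5245d94a174568ab8b216c560af15b15a2c4ae1562a62a0561542825085313f148514a30a128627c9e93e1384ec4d10420a40c4b89621042483892122400808ff11a23043085220444878811004508a9130f81ec8610d2163e47d0791ee1dc7e8fe0e83ec390f51ec1bc7986d0d21ac350660d019c318650c8184300620bc1742f85b0b41702c8580ae1582a8540a61482884c0961402784e09a1182284a0921202384007e110218420820f01d83a0720f81e83606a0d01983806e0c01782e05a0c81882c0560a81482804e098128240460881082003e0780e81c03605c0b01502804c0901a0320600700d01802c050090220400780500800c0100100002003806,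
  nat_lit 0x4390dd0f21a4430c51121f86085d0cc2d42d0a51522b4508ba122308448b512c1f44e88e0e20e41e8310941742905508a0982482d03a4749103d22a4b8189320524a48290d1fc054a90052b2537fc9652d3fd4ae93d283f749a8e51d3f546e8f5f923e7e08f119a35462fadf3be97d07c4fc3e57c2f8df11ef7baf7def3db7b4f70ff3d77acf61ea2063f2f45e83d279ef39e6bcc796f29e4bc878ef19e2bc4786a694dbc152ea755029c778a55dd3b752ca5153bb3552a9555aad75caa9d62a3754a9150a8b74ca3544a8f522e854739f50ee7544285586e6d62ac2592b29cb2c757eb01c92bd720e3568ad25a0b5dc42d85a8b3167385704b2d5ab8156ead15dabc6f8ae558ab26f0abdbb3726e8dcd372736dadbdb736a6d8dad363696ccd95b3a7b506d85b03626bc9e9ae35b6bad69acb586aed59aab546a6d49a8b5069ed38cfb4b342674d1b49348d1cd1345334670cc1ad67c6bcd5b3b362ce4d933736069cd49a5322cc4c998f65c65596196654650c598d31271ce432538a730e71ca384c7ce1b1d382c6cea9d663074cec9db3aec44e830f3a2c34e79b9374c2cdb9be3806f0da30536ac0cd9b012f25e97f1775f2b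ed7d2f65f0bdd79af55e85f57817f2f6bb5762ee5d4ba575ae75ccba172ae45c6b8970ae05beb796eadc5b6b696cb895ace29c3ad5718b4dc72cf716e11c32cd706e556439758ce5162399734b05cc39157ce4dc7b7b574df55c37a56cdfdc02b36fcddd583796eaec1573b1558ebdda3b5550ec9533ab75aea55129f77aef94f3bb780a65e13bf530ee1dca9376ce8d493a4520e89d3ba8518e954539e740e7143363508a01412814fa9fd3f3644f8d7d3ba794f09d53a2764e4dc13826f4e29b5b8b684d49a535a684ce99932a644c698930a604be9792ea5c4b6ff1ffbfb4b100a01a554a5001fca5149cfe9fc4098169260440e48d0412240d48501920407808fbdf8a3b7dcfd11c3f646cfcd1a3ec464fb5f542584c8be11c284590aa13a298410851341e4490c91043385e8761ac3686886e1642e43085615c1883284e0b41b4210760d20d82705105411410f5501a05408801012017b27fcfd9fd3f8f4cfd3e43ec7d4fb9f33e47d0f83e63dcf80f61eb3da7a8f49e83ce798f29e43c6788f09e03be778eeb143b8c54ed3133b0c5cea3193a4c598831261c735909cb6447259032438cc98e2323638c798d1bf60e6f5841bb60cc28dc30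c36cc2581304600ce99e33867ed00d733d358cd4d5336350cd0d3346690d11a634d340d28cf19b684665a1997682cb597b2b664cccc9330320ca0c7329318c9cc518631061cc1985308600c11815e2bc8bf2ef2f8bf4bc2ff2ecbf0ba1732ea5c4b81722dc5b4b796c2d65a8b49682ce598b29642c6588b09602be2bc5895d15c2d05b1591662a8561551522f8a80c017830ca60c51822e4a40bb16e280a20a213c294a00a714626c9e09d1323706f0da270384718df26835c6c8d52603ac7612b1d23c0789271dc398739231c8334678cb2403486a0d0238320650c623021089915228224879112201fc8590d21823c841072122508210320a228800ff2023f87e8fc1f63e87c8f81ee3d87a8f41e64a4790ef2544a0968ed1d44b8961251d0394931241c44d4701362663749c8db2744dc6c1311ac4c8978d323a3448f11b19c4846612223e3248c8c723445ca694e18852c611512a42fca78bd2925285d147170560ad0b516455cae15e1602b4ad9542ac2ac541532825085313f148514a30a128627c9e93e1384ec4d09613025c8309512224c4910a1202304708d20422c4411210c2144388322c204400820fc4383e07b0fa1e83c8780ee1d83a8740e61c8388700de1b83686c06c0e01a03c07c0e81803205c11c2484509a13c258410860fc118250420a41582703a07c0d85e0a017c2705d098184250620901802305b0881702105a0800f43383b0d00e4330370d40d4358330d20c43202f0ca0b431855058158150540501601305904815c1105204014c0f0510380640c01a02c0540b8130240500800f0220340600e0140240580700c0200200300a00400002,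
  nat_lit 0x4aa9512b2534b2969fe2584ae93d28a5049a91d2324848a92d2640949492520a434848fd1ca384748dd1ea3e7de8f11da3346a8d118a2a4588ad14a2f45c8c21222d44c89d122234388790ea1b4428811143143e8610ca1642a8390820f41a84d0921482e8450520b41081d012014007fd033d440a811019fa3fa7f0fd9f43e67c8f89f73ec7d4fc3e43de7b4f61eb3cc794f21e33d47a4f41e778e784f01df3bcb4569ad25a0b5d6c2d55a8b35662ce708b2d61ac5588b0964aca58eb195fabe580e455eab556ead95a2bb578ae55c2b1560ac9bbaaf550a9d54aa6558ab956aaa546a91d52a2542a694ca9b530a795029f538a554b3b7528a4d4628b51aa2948292522a3943a8873aa1942a7f4fc9f53e284504a05402794f09dd3d35e4e29c137a6e4e69d93aa744d8da135a6a4d298d312614c09a133a664ca9792ea5c4b6d38ea9d662e74ced1d93b876cec1d73a0744e79c7390c90e29cc396738e69ca392708e19c13726e9851b737c6f4e01bf3786ecda1b53666b8d7b3e3586c4d91b035069cd51a934c694d01a1696678d19a4344668cc99c336660cb992326cc4c819532c650c618b31c634c51892fc5fd7817c30a6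10c198830e618c11813005e4bd2fd2ee5c8b89702ea5d0b996f2dc5b4b41672cc594b616b2d45a56e9632c4584b03bd77ca75de3bb782f01e13bf52eee1dd3b976cec1d8aab75eeb9da3b376aec952bab75aeb1d4ba3748a3dd13a174ee99d43a5512e79d039f738e59cab97590e51ccb9b734e6160b92726e41c7b89710e296b387718e39c6b8b59ee15c3383704df1bdb7d574de9bfb81700df959b786f2dd9bab704e4dbdb736d6e8dcdb93714dada5b636b6d4d89b0b606c6a0db3b666cad913db5f6bad71adb566aad51a9a646b4d65ac3574bed49a8b5069f0ca19c3085f0d61bc3686886a16c2c85c85e15c2584d08e114288550a613a2884107e10a2583d0620cc1682b06e0ec1c83483209c1282882608c0a81902e0440f81d04206a4480d01d20405808ff5ffbfe7f700a00c03800949fcbfa49cfe1fbbf07e4fc5f73f57e8fd9f9a367d8fb5193eb7d4f95f1be27c2fa5f43e77cc7c1efbde7baf80f73d57b0f5deb3dc7b6f69ec9fe7a67e5e93d17a0f2de53c9790f3de73cd798789e33c5788f0ceeb4768cd25a4345688d31a699f694675a1343682ce99cb3c676ce19bb3f6806b59e9ab66acd99a32d658cbd9732b654cc99999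166063d9432964ec859132064ac98e3323388c758e31f63cc6d8d31462ac4d8c3193a8c58e931061ec4988b0e61ac1d84306616c30dc30936cc0d81305608c05802f85eebd97dafa5f2bd57a2f35fcbfcbc2fc2ecbc57917d5de5ed75aea5d2bb976aec5d0b9d732e15c0b7d6f2e55c8b8d711645b8b6d6d2d92be3ac768ec1d23c0790f11dc398740e71c83706f0dd1b4384718e21be35c6c8d81aa334678ce1963486a0d31a0320650c918c2fc600bd178310628c21822e85d8b816e2c0588ae15a2d45b0b31642ac560a91502845109f13c298538a41462704e89a132240498921222544c09712c22c4708d118210410811002244388610a1fc3e87c0f61d43a0730e41e83c8780ee1c03786e0da564ac15a16855cae95c2bc2bcad9552a85585515329a530a70c3296544a815217c53ca49482942e4a39412805085293f28a510a30a02864f49e13e1364ec9a9361c04d09993927436c9c1372624c86b13025e4a4950ef25049c9692e1d44b09592524c3949212323a4786891c236484910cc24047c8c91a18e4608b91122043c8908822a450899161064348610b21c1f88309420a4108190a11e42484107204228809001fe3e87c8f81ee1d87f0fd1f83ec388f61ea3d07986c0ce1a03306a0d61a4320650c61782f85d0c21883005b0b81682a8560a81602c8570a414c2884808e1282484608a1382685009e130258420821102184007e0d81a83806e0d01983c0760f81e83a0720c0178320620b816824046098128220420a81482c0560a01381e03a0800f81c0360380680c0220400780b0140240b81602a0680c81802804c0900500800c0400700c00800800,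
  nat_lit 0x588e65cdb9872ce5d642c6728e495f393720e3169b8d716e21c52d670eb55c2b8659ae09bfab6702df9be37d574de95c3786f2ac1bb3c0784a69dfbbd540ef94ebbb770ee5db294768a9ddabb255aec1d8aab75eeadd6aa1752e9dd428b74ae8d48ba451ee89cf3a0738a15b9b746e49b939a726dcdbdb6a6c6d6db1b53666ced953e3616c4d81422834f4d71aeb5b6b2d6930b576aad59333534c8d45a925c69f03d2341081b02a0624981090a0340748101600c034ab001febfe7f6961fca517f4939fbbf57ec8e1f9bf07e4fb91dbec468fb5193eb86a87a1b4348650cd10c2f8590b90bc2b42c8ae1442a84f0951742684708210a2544707a0da0f83b06a0c41942505a09c1441304503be87d2f9cf89f87c4f8df0bde7bef74f79ee7b6f71ed1ff40cf5dec3d63f47e5e8bd27a0f39e79e4798f29e59e8790f15e31df78677592b2638cc8ce6b21396c88e4b2063ac7d8db186327518b3143b8c54ed3133b0c3d88b0d616c30dc30960e6fd841bd60c6ed81b05602d31a699f694d19a4344684671a199a6826619fb4035acf59d33c6706a59a9a766c6959a3326666459832d65ecad9418d65262d939892f45e4bc1775eeb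e17b2fa5f6be57a2f55e65fcbf17d2f8ba975ae95dabb9762e75d0b99702e12d4b79722e52ccb88b22db5b85856ca2f4610921122d8528a91622945089a0fa274488811143143f0c10e43743a86d0d2184330b50aa1342905d08c1541d0710820d41882905c12410965ffa5a7f895d2a25680494d2924f4a0935fc40b49693204a4a48f0392424548890521c0447e8f5f8a3e7de8f11ca3a7e88dd1b23346a8c5f53d57a881102a03402809003d93fcf4cfe1fd3f67d8fb9f57caf90f99f43e4f98f83e03d87b4f59e93d4f24f3bc73ca799e69e33c4780f0bc43bcab1573ae554aa1d9aa954ca95d62a3548ea95129e53ea71de299536f054c29752aee94b3b7526a414928e742a3146ba6514a2543b9f510e75432d75b0e256a2d171cb49682cf598b39c22cb706b25caaca58ee6961ac5584b055fac0722e3d5eabb578ded5cab5700add5a2b3562ac9bbaaf6ead8d40a825009f93fa7d6c89ed3c2794eed7daf3704ea9d93a2704e29bdb8a6d6d2da13526b4d299d343544ca98931b584c097d2ea5e6a096da733b362ce4d93373606b8d7b3e3586acd41aa34c68da49a468e689a29a0342d2ccf19d33266ccb99565c65996194654648c9b3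132063cc618e314764ed9d73aa7598b9d33a4741891d162073d871cc39c728e39c8648714e231e384c70e1b1a3826f8e01bc3726e9851b736c6d1821b56046cd8018430a60cc398830c604c11805e4bc5782ef2f6bfd7f2fd5f85d8b89722e05d0ba9732dc5bcb69672d0b8cb296b2d8b7cb4add2c458d6d1602be310a60c51842fca80c017a2e8a40bb1702d45b1591642c05895d15a2ac56155150298539401482845114413e2704e93c1343c0788ee2503ac760e9258398738e4248384719331be3706f1371b435c6c92f1aa3486a0d0236334678cb23e320650c622e4184b89812c428490931224084688e1184484308710a458408821004383e07d0f61e43d0f80ee1d03a8fc0e41bc380f40da3749c93a1b64e07113526c3809a0d82624c86b13025a3b4970ea2564a47912a1de49c928e824c3949192119c4886612023a34c8f0d12384646491a18e460ae15e15e56c571582b42d0ab8b32a855855153152544a90be17853ca694e186304a59492942e45b94728a5185014313c504a10a527e28c9e93e1364ec4c91422a44c42083220444878891104308690b0fe1f84808f2104248389512841082903116228801011fe3f47f0731f61c47c8fa0f03dc3b0f51ec1b87986c09c14026048094118210440800ec1e83906a0dc1982f0620b41502c0500901302203c0800e06a0701ac1b06906819c1f0680781981d0640641941806305c124308470c41143004f0bc1342f84b0ba10c2d8410b80fc2d05804a16411857042154158560521501385203e14c0e8510360580b8150320680c0130280480680e0180400880f01402c0480400a00c0380800c00401000,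
  nat_lit 0x82091a07a4581893204c084929060324280a8721b21e8688861943143f0be17219858859f4be73e67c4fb1f87c8f8df09ef7bef74f62554ad006002597fcff5fe2587f494526bf78550a115a2984c8b91842484689a1041e446805ee3da3fef61eb2067a8810fd1fc7a4f411cbf6470fcdf83ef478fb91dbed46afb11a21083683e0d21383284a0c41782882208a073caf3de61e43d2f2de41e878e781e33c33bee6dccac4584b25cb39458ce4d5f2c0722e414d29b780efddf2a0538eed4abb9770edd4a2706e8dc9372734eadbdb6b6c6d49b1b426a5a2e3569b8b714b61c42d559ae15c22cb704ed553bb454cab1d82ad75eeb5523aa752a85b3b654fc9f1423626c0a053c27a6bcd75adab76fead9bf37d572de95c2b16f2ac1bc377518ea145ba5748a49d1a9173ce754339c50a989ad3574c299dab3534cc975a934f4b8d38e39c8648715911cb642735901c963ec758db4d698d2da51a3690691a31a2688668ce1982f25e97e9775f6be57c2f65eabccb89742dcc658c31762c768ee1d83a0c44e8b0f39ec34d71af67c6b19e33a670cd8d3b35352cd0d297e2febc0be18430e605772ec5d6ba5742e6618c2d8530937cc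20de9c060e6fcde306376ccd993316606319498b31cca0c698a64e624b3ae55c4598b5ae15bc5a96e9625b8b64b0aae762aad553ae552ecd543b254aead51bac544e256bad670eb51c62d271cb4167ace70cb31c1b616c6a0d412804fe9f5b33644f6d7d3ca776b8ef54fa9e53aef1e0bc2532a614ba96774ed949aca72ae5d642c758ab0dcd398582e495fabd71e9d93a3704e4db9b9a714dedc536b696d69ad34a9051ee89473a174ea35d328a512a21d028773edf15e37b576ae9c0ab5700ad159ab26ecabdbab554d0995aa2646b298d303584bed452f25b6a109517a2d8448b11542984e8a113c1f8428951225a7fefed2bc0280695129a527f294127a4e7f0f55eba05406f6d012007b27f8fe9fb7a67e5e8a228668821843543b0dd0da1a85a8610bc2b42b02925c0b4949220724781a91121c074808fe023e53ee7d5f11f43e4fa1f31f07bcf80f71ed3d68520b21182b0750741c41a83209a0b82482904a3e7e48f5f8bf5474fd11ba364668c9f5a317d4f28f51e7792f38f31e379a789e29e13bcf10ee9b26726c59d9b066ecfda01ad67a6acd51a834cc50edb153b2c4ceb9d63aa750e99d2620c498718830c614c1982300bc57917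d5de5ed752ed5ced1da4b45342680cf99e33ad08cdb43332d04cb9ce39872992b2638cc8ce21c36387098f1c1634bdd7d2f45fcbfcbc2fc2ec5d4b99722e05bcb6b2d32ccb19799565ccacca32a326648c899031e6e8dc9b836e6d9819b5604c14da3046026cd802e02d85a56fae42d0595719645b658cb02da2be3709c8dd2703849a8e226835c988d82605785895c15c5685b158166558561541522108a9131022248890f10c1fc8690b0f84b8768e92564a8790ee24e498740e42462fca894f178310a694b1822e8a494716e2404910920e2544b90520622c469011fe4886792119c4786a11d1a6468651191925184f94313c5085213f1464f84d13b1321d07f0fb0e61e47d0f70f01bc7b0f30dc314a614e186308601502a42f85e8bb2905285c8b82523c4780ef2504b4760eb1d44b0928e71cc3949209812c4184a1041262448508f21023846102114400ac8b516855c5915d1602bcad8ad2aa2ac5515315038c9b0e01be4cc6f13a1b63689b8d92643586a92f2204484408710a4508b0831042008610e0fc1f43d94114e500530a528a288a20a11404f44e93c13826c690d12383408d8cd1984806591f19031c8c0c622e3e43d0771f01d87e8750e43f0388f50e01b47a06c0a01382604a090118220420800d81c0340780f81d0300640b8068100140580c81300801c0086707a1a01d8660721a81b86b06a1a4198640621941786305a188238610921802285f09a1782785d0961702085b0861681f81a03005c0a8140240440780e01802c0480800c014018020000902c82304c160128220ae084150560520b02a82b0501501381e0a60741005203e0702881b,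
  nat_lit 0x534efde13c077cef5de29d776ee1dd3b6772ed153bb276aebdd8bae760aadd6bab758ea5d428b74ee95d1ba2742e9147b9c740e7dcf43486b0de1b4324430ce1842f85d0ae162178550a613c2845d08e12c2284d08210a2583d06e0ec1c8350650941682b06208c13828825a634d69467da4b4568cd21a219a684d0da0b3f680cf4d6b3a678ce19db3734ecd59b334664cccc8b3065acbd9732b654ca19498b64ee6dcd398732e59cbac8728af9c839271ee4dc5b8c71ce35c5387710b59c2acd70ce0dc137f702e01bf37a6f8df55d379560dd9bab7881e91a06c1081902a05c0880b01e0240648095600403802ff5ffbfb7fcfe9fcbf849cfddfb2387eafcdf73f27e2fc1f63eb7d4fb51932564cc8ce31cb642c899031d63ec6d8f31a630c658b1d43b4c518ab13624c3987b1161ac2d861b8612c1d841bd60cc0d82b04602c01ba3736e2dc939b6f6e0db93936d6d8dadb53676ccd91b2b62508d85b1b60506d75ae35b6b4d65ac3576ac999aab546a6991a935169efa5f43e67cef8df13e17be7bdef3e07ba7b9ee3db7b2f69ec3d77ac7e9e93d37a27e5e83cf79cf35e63cb794f21e31df78af11e19dd2f2bfd7e1785f0b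ed7aaf75f4bd17b2f95e65f9792ef2fabad772e85d4bb573ae95d8b9970ae52ccb71702e45c6b6d6d2de5c45916ca5a4b2961fe25780494d2b2544a493d28a4d4a09292624949702523c0e48a921222434829091fa3d4788ed1f3ef474fd11ca3746c8c51aa34466b5dc4ad85aab51682d15a6b4967ace596b31c239558eb25632ca58ab11612c3582afd6039157aaf1bdab9570aed5aab756cad159aaf562ac9bb9dc3b0764ed9d73aa758e9b173a4c40e81d139e730e71ca39a724e39c838ac90e231c38470ce09be3806fcde1bb3726e9851b736c6d0dab023668bd1842445a8b115a294548a20fa2444c88d13a2243e88218a1b4388790ea1a4310b50ca1642a84509a1482e8390820f41a83105c1241081d052ae558ab5552a8766a9954aa5544a9150aa3754a795029c53ef054c29b532a5d4b295528edd49a8e524a454828d74ca314528950ea1942a8873ace4d89b23606b8d79ac67c6acd41aa34c6a4d2b47346690d11a0342679a599d338660cc99b32e654cb32c328648c9b3132063cc618e31a628c4bd540a819023d4406809009ff4007f8fe9fc3f67ddf29f63f07d5f21f43e67c4f91f03da7b0f59ea7927a4f41e778e798f29e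43c6788f09e03bca0940a804fe9f93e27d4f69e5afa784f49ddaf2764ea9d138a704dc9bd36b694d69b1353684d29a133a654c698930a604be979a825d4b896da7185310608c218730260cc31805e25fcbe2f02f6bf8bd1775fa5d8b91752de5c4ba16e2e05ccb69682d8b7cb19672d65a8b11612ca5a56e9602be3c0790ee1e23ac768e91d8398740e41ce38c708e21be3786e0dd1b43646b8d81aa3406a0d31a432c678ce19a318650c9190578ad95c15e568ab958168558a9954154544a90be29e534a70c3296524a50b928e50ca29461404fca094214a4ec9e93e1360d83506b0d20f0338680cc0c0320650c611c308620c01342f05f0ba1042d85c0b41602c8230ae1542b0290a81482981d0a2530610c4182314a80bd17e2f0601481702e85b8bb16a5645b0b31642c0ae8b115c2b4559551582a4540a7280290518a61445104f89e1422749e09a1322709c13a26e4e46d93426c4cc9a8e02604c8979311ac4b89692c1d44ac951292503bc9392624a490729232424808f9221984748e11b23c3448c91822e4686384e0a01302784b0901282304908a108220400860fc1f03a0760f41c8380680d41b8330640b81783105a0a81602b05009c1202604a0881081e04007c0e01b13025c4b0931242444708d11821c430851042044007d0f81ec3d0790ee1d43a0720e01bc369151084508b1131064444491022443c4410d0fe4308710b0fc2408490a21023c8389520a4188209420622c809022002287f8fe0e63f47e0fb0e23e83c0f91f03dc3b0f60dc3d47a0f30d805c0d01402c06409815030048070110160340800a01803c048050100080200700200c03000,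
  nat_lit 0x5a6b496c2ce5a2b5d6b2cd598b416aad4596b15622ca580b0d64ac857eaf9612c758caf55bab6578ac95aabb574ac5582b4572ae157aa955cab5522a854eab155aa354caa9512a1536a814fa96534a654f29d52aa614e294526a3549291510a3145a9051ea1d4528e50ca153fa7e4fa9e9422834f29e13ba7c504a05402764ea9d1362714e09bd39a724dc9ad352694bc9752e25b4d099d332654c898d312614c10ce1bc3685d0ca1ac2d8590c217c344350ae1342a85308612c2884107e11c2284e8a20f41983b0720a41883704e0941682b0690641181902e0840781503e0740681103522405808ffdff4037f4ff6014017f2fee002527f0fddf93f17ecfb5f83f57e8fb1f73f346cfadf53e97d0f9df03e57bef79eebe37c4f85f31f07b0f5deb3d37aaf71edbda7b27f9e93d17a0f19e2bc4786f2de53c9790f3de73cd798788ad15e15e558ac9582ba570aa9542ae56ca994e2a42f8a514d298544a814929052ca79472845185013e282500a294427a4f09f9432764d89d0db2644d49c9312684cc9c1372604bc9512e1d44989492d24a4a09392c2564909191e2443308d11d2424648e11b24047c8c1172244584190e2224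408791522844c8690c2164188508f20441482103212420839012003fc7d0f91f03dc7f0fd1f83ec388f61ea3d079a564b4ff128a504aa9512ca4f49c94d2c25749a9212640948690923a46496905202454949251fa3a47cfbd1aa344728e11ea334648dd1e23b4628b115a3084889d1522f45c89912a2945a89111a1e43a88a18a194388851021842e86d0fa1642a84107a1482e82d0721342482904a0d42282103a067a87f4fe1fb404805001fa3f27fd02a044067d0f99f23f0f90fb9f63ea7bcf71f13da7b0f59ea3d27a0f3bc73c2780ef9de3ba798f29e43c6ef9e13ba772ef5e0bc0770eddde3bb77ea5ddb3b176aeb5d63b0768ecdd5baa75eeb9d92a5752e91d43a073ee8dd3ba673ce75d13a174aa25ce397736e69c9b9672ae65c9391728e6160b9071ee29c738d70ce25c438c70ae11c3b8b59ee0dc137d702e01bcb7c6f6dfdbc3776f4df959b766eadc1b636b6d4dd1b9b726d2da1b7b6e6dadc536b636ced99b2b626c2d81afb5e6c89edaeb5c6b6d59aab546a6d49a8b5069ed39ad3596b0d5d2f8ed1d83c8788e81ce3ac780ef1cc394748ee1c83786e8e31c43646c0dc1c23806b8d61b437c6a8cf19c350698ca192334690d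119031c658d018c300628bb17e310618ba1722f45e0c21822e05b8b116c2b0580b51682ac550ae15a2cc590a91502885389d1422985289c13627c4f0a41462684c8931242444c09712c2384688c1202544a08b114210448880fe1f84108110021c430850fa1f03d8750e81cc3907a0f21e03b8760e01bc3706d0d8758ee1db3a2754ed1d93a074cec1d739e720e71cd38671ce61cb384714e51c93826e8e01bf36a6e4df1bd3686dcde1bb3666bcd91aa3526b8d89a834e6b0d81a634a684d219c336680d199a332678d119832e64ccb18e31a648ca98c316640ca18a3125fcc418730c5f8c29843065f0c11813005e8ba9742e65e4b91712e05dcb796e2da5b0b596a2d25a0b39662ca58cb11612c0d25a434d33ed0da3b46698d2da1345688d28ceb41678ceda01ad66cce99cb3f67ccd59c33767a6ad9a32f65ccccc8b2965acb199331650cad9533031ec9d9132638cc7d8f32164ac918eb1c640c8ce231b634c558c9d4624c458a31862ec4187b1362c7498730d610c30dc305608c1d85b0a606c098330936cc05802fb5f4be57f9785f0bdd7b2fe5fabd57a2f35f85d97917d5dcbb5762f15e0bad752e95de5ed742e75ccb95722e35c459170ae05beb796eadc5b6b696c95f0d01ac328670d4190330690c617c3105c0bc1842d85d0c01682b0590a61542c0520a815c2884a092140278440861202384e09a1082084608a1302584007e0e01b83e07a0c81883606a0f01d83005e0d01983a0720b81682604a0b01582003e0901182a0520780e8220420a01381c0360440800f0340640c00800e0180700d01805c0b01500a0100180b0140240a01302400800800,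
  nat_lit 0x5a6b4a1995a4acef94e8ed1d8759a4b480d0b156242629c921d8aab1bc374e433c67617d5bab68325091d3a451e33c671ba65ecb82b2a981902c9b22c456e5d640c035ec8825049536ffdff12a43c875c52d61626858a83806ea35f93f123c84107b7d574288c9b0804c0953fa7e4fa449b82721262484897f5f6be97cbd87aef58831f43e67c9b1a832f40440800f1f43e47c0f76acd55aa3534c85b0b596a2d2b621bc362bc969e10f21e2770edb4d33e1ad6542a852549263b51c6388e71cd6806b4312bc83b070a323e750350699c037ecccc885955cab60813a460e6dcd0c5364c98e305009ea814fc0325c889c738d16c6918c9d407c0f5492917ec4890a38170029ccb30c3700b015be97d0f9c8b20613025c4b18830e6197f9784ec9d53a10a3f0d9db33655e45f40d0190303f87e8fc1f67a8f49e83ceb95722e35c45916742e42e55928a50774ee4740e73a2d0c32ac0842894a5243484eb5d60d91b070d9b05c5650510493e46a8d1d039f194324dab290a6a9203a4026489dc98bb3546a58fb1e08810d4b3fa49c4990cb86158670cdb126220c818a887da8c88d20b6f2274c718d60ac101001f4f4f80f710e3fa7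f0fdb6c6d6da84708d1189b1e99f92045d4ba1735dcbb57600800e0192f25d4b896de33c5788f0cee8f61ea3d079ad18650c4ac9584aa951de8eb1d4755a3b460ceb0e12c2429a53123a467603706d9c7674ce42f2b583105ca09404728e1d18cd1986e596b2c0aaaa153c0a8124d51539672a2fc5f1ae64212023a9a532ff5fe129438e25c40b015e6818a03606aa3145bf07de4750737c6f62845019260e09011be57c84448810f4048050009011e5f97c2f75ec9c53826f7aaf51b13616c02104197901c034063cb794f25e43c70ea1d0398720e25a0b39662cab5e1a95d2b8965e0bc01e03bced1d9698d2c352c9850544a824b768ecc708e039872d9fb3e0c2aee0d9452888f5d3ba61a4344df1bd664cc42c2ac81f0389ca2f45ce64620c3362c959204e09aa7a0140125a8851038c16a2d0d1b1862e0f01da907eafd090a13424dfc530a532ac2d8502a052a108a914226dd1b9b7212a250c2984306bf97ea737b8f6ded1f73ec7d4448885e2bc00b81602a9a133a664ca1e83c8780ee1d970ae05beb796eacd5990b6161552a893ddc3b71cc394e83420c8afd5f42083e524a4241756ea86b8d6384cd42dab156104e0913d2788cdcf39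d19031cda3280a4a8e0313144ce49c88ba1726a0d3b1d63810820a957f24950c3857082ac5519a332c418783005ea1df6119414de1bb89c136630c5b036040780ea794f09ddefbde7ba4348610b3f4da5b408b1147bdafb5e0fe1f8b91712e0bad752e900a010019e13c077cef3526a2d41a7b4e0e01bc3706d0d8b421842f2ae94dde3bb1d274da2b440ccb0a11c22296915d7bae1b47159c3370baad20b41527e8ddd13a11966dd95b2a0a8a9a041342668a5ca0bd1786b19004608aa61fd92824e86dc38ae15a67989834066a29f711c236835bd09f13c641830220429f1f1be27c27fdb7b6e6da5f17aaf45e69b8829042067c4410811005dc0580a01298d312614c0798f29e43c658cb11612c0b556a43443456d2c25777ea5c771d83aed28ce86958eb1a13a2829e92924bb254a37ce51c967a6ac302b9571069061434788edd2a891a06f0ddb3031e15d5540d4884e09ba2d730b04610c1360c8ce204c096a72002522584ad0fb8b59e2cc591a262c7481d03951cfcd1b12023e845bf2b314828cca30936c0a013a82502a01f31f040a81101b714da608c09805f85d9ec9fe21242083b644f621c430855de5ec0a013024f3de73cd798789ad3596b0d5d2fadc5b6b696c95f5970aca9a4d76c390e7b410c6af60f14747eea46a9c166816957c112768c5ce0c6366c9c28aa25430160213025e89111b9071e2e05b9a634ac6d8d04007ea5149bf87ee49091a1642ae0dc10a9150660cbb0e61a0b816a8650afadf511822e82103b766ea2684c98a312c058001c0369ad352697a4f45e81012003fcf69ec3d6d75ae35b0fa1f03d96f2dc5b5742e75cc00800800]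
noncomputable def Ts : List ℕ := idv 11 1080 :: T0
/-- the codes of the representatives -/
def zc : Fin 13 → ℕ := ![1, 34, 35, 67, 1091, 2115, 34883, 34915, 36, 166, 167, 5319, 139562]

theorem pc : pcOk 11 1080 bs Ts 3 12 14 [[],
   [nat_lit 0, nat_lit 1, nat_lit 1, nat_lit 1, nat_lit 0x4a5, nat_lit 1, nat_lit 0x508, nat_lit 0x529, nat_lit 1, nat_lit 1, nat_lit 0x56b, nat_lit 1, nat_lit 1, nat_lit 1, nat_lit 33],
   [nat_lit 0, nat_lit 2, nat_lit 2, nat_lit 2, nat_lit 70, nat_lit 72, nat_lit 2, nat_lit 0x94a, nat_lit 2, nat_lit 0x96b, nat_lit 2, nat_lit 2, nat_lit 2, nat_lit 2, nat_lit 66],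
   [nat_lit 0, nat_lit 3, nat_lit 3, nat_lit 3, nat_lit 103, nat_lit 105, nat_lit 0xd4a, nat_lit 3, nat_lit 0xd6b, nat_lit 3, nat_lit 3, nat_lit 3, nat_lit 3, nat_lit 3, nat_lit 99],
   [nat_lit 0, nat_lit 133, nat_lit 0x10c6, nat_lit 0x10e7, nat_lit 4, nat_lit 4, nat_lit 4, nat_lit 4, nat_lit 4, nat_lit 4, nat_lit 4, nat_lit 0x118c, nat_lit 4, nat_lit 132, nat_lit 4],
   [nat_lit 0, nat_lit 5, nat_lit 0x1508, nat_lit 0x1529, nat_lit 5, nat_lit 5, nat_lit 5, nat_lit 5, nat_lit 5, nat_lit 5, nat_lit 172, nat_lit 5, nat_lit 5, nat_lit 165, nat_lit 165],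
   [nat_lit 0, nat_lit 200, nat_lit 6, nat_lit 202, nat_lit 6, nat_lit 6, nat_lit 6, nat_lit 6, nat_lit 6, nat_lit 0x198c, nat_lit 6, nat_lit 6, nat_lit 6, nat_lit 198, nat_lit 198],
   [nat_lit 0, nat_lit 233, nat_lit 234, nat_lit 7, nat_lit 7, nat_lit 7, nat_lit 7, nat_lit 7, nat_lit 0x1d8c, nat_lit 7, nat_lit 7, nat_lit 7, nat_lit 7, nat_lit 231, nat_lit 231],
   [nat_lit 0, nat_lit 8, nat_lit 8, nat_lit 267, nat_lit 8, nat_lit 8, nat_lit 8, nat_lit 268, nat_lit 8, nat_lit 8, nat_lit 8, nat_lit 8, nat_lit 8, nat_lit 264, nat_lit 8],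
   [nat_lit 0, nat_lit 9, nat_lit 299, nat_lit 9, nat_lit 9, nat_lit 9, nat_lit 300, nat_lit 9, nat_lit 9, nat_lit 9, nat_lit 9, nat_lit 9, nat_lit 9, nat_lit 297, nat_lit 9],
   [nat_lit 0, nat_lit 331, nat_lit 10, nat_lit 10, nat_lit 10, nat_lit 0x298c, nat_lit 10, nat_lit 10, nat_lit 10, nat_lit 10, nat_lit 10, nat_lit 10, nat_lit 10, nat_lit 330, nat_lit 10],
   [nat_lit 0, nat_lit 11, nat_lit 11, nat_lit 11, nat_lit 364, nat_lit 11, nat_lit 11, nat_lit 11, nat_lit 11, nat_lit 11, nat_lit 11, nat_lit 11, nat_lit 11, nat_lit 363, nat_lit 363],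
   [nat_lit 0, nat_lit 12, nat_lit 12, nat_lit 12, nat_lit 12, nat_lit 12, nat_lit 12, nat_lit 12, nat_lit 12, nat_lit 12, nat_lit 12, nat_lit 12, nat_lit 12, nat_lit 12, nat_lit 396]] = true := by decide +kernel

def c1 : List (ℕ × List (ℕ × ℕ × ℕ)) := [(nat_lit 0, [(nat_lit 0, nat_lit 0, nat_lit 0), (nat_lit 0, nat_lit 1, nat_lit 0), (nat_lit 14, nat_lit 1, nat_lit 0)])]
def c2 : List (ℕ × List (ℕ × ℕ × ℕ)) := [(nat_lit 0, [(nat_lit 0, nat_lit 0, nat_lit 0), (nat_lit 0, nat_lit 2, nat_lit 0), (nat_lit 14, nat_lit 2, nat_lit 0)]),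
  (nat_lit 1, [(nat_lit 0, nat_lit 1, nat_lit 0), (nat_lit 0, nat_lit 34, nat_lit 0), (nat_lit 14, nat_lit 0x422, nat_lit 0)])]
def c3 : List (ℕ × List (ℕ × ℕ × ℕ)) := [(nat_lit 0, [(nat_lit 0, nat_lit 0, nat_lit 0), (nat_lit 0, nat_lit 3, nat_lit 0), (nat_lit 14, nat_lit 3, nat_lit 0)]),
  (nat_lit 1, [(nat_lit 0, nat_lit 1, nat_lit 0), (nat_lit 0, nat_lit 35, nat_lit 0), (nat_lit 14, nat_lit 0x423, nat_lit 0)]),
  (nat_lit 2, [(nat_lit 0, nat_lit 2, nat_lit 0), (nat_lit 0, nat_lit 67, nat_lit 0), (nat_lit 14, nat_lit 0x843, nat_lit 0)]),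
  (nat_lit 34, [(nat_lit 0, nat_lit 34, nat_lit 0), (nat_lit 0, nat_lit 0x443, nat_lit 0), (nat_lit 0, nat_lit 0x8863, nat_lit 0)]),
  (nat_lit 0x422, [(nat_lit 0, nat_lit 0x422, nat_lit 0), (nat_lit 0, nat_lit 0x8443, nat_lit 0), (nat_lit 14, nat_lit 0x8843, nat_lit 0)])]
def c4 : List (ℕ × List (ℕ × ℕ × ℕ)) := [(nat_lit 0, [(nat_lit 0, nat_lit 0, nat_lit 0), (nat_lit 0, nat_lit 4, nat_lit 0), (nat_lit 13, nat_lit 4, nat_lit 0)]),
  (nat_lit 1, [(nat_lit 0, nat_lit 1, nat_lit 0), (nat_lit 0, nat_lit 36, nat_lit 0), (nat_lit 13, nat_lit 36, nat_lit 0)]),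
  (nat_lit 2, [(nat_lit 0, nat_lit 2, nat_lit 0), (nat_lit 0, nat_lit 68, nat_lit 0), (nat_lit 13, nat_lit 68, nat_lit 0)]),
  (nat_lit 34, [(nat_lit 0, nat_lit 34, nat_lit 0), (nat_lit 0, nat_lit 0x444, nat_lit 0), (nat_lit 13, nat_lit 0x444, nat_lit 0)]),
  (nat_lit 0x422, [(nat_lit 0, nat_lit 0x422, nat_lit 0), (nat_lit 0, nat_lit 0x8444, nat_lit 0), (nat_lit 13, nat_lit 0x8444, nat_lit 0)]),
  (nat_lit 3, [(nat_lit 0, nat_lit 3, nat_lit 0), (nat_lit 0, nat_lit 100, nat_lit 0), (nat_lit 13, nat_lit 100, nat_lit 0)]),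
  (nat_lit 35, [(nat_lit 0, nat_lit 35, nat_lit 0), (nat_lit 0, nat_lit 0x464, nat_lit 0), (nat_lit 13, nat_lit 0x464, nat_lit 0)]),
  (nat_lit 0x423, [(nat_lit 0, nat_lit 0x423, nat_lit 0), (nat_lit 0, nat_lit 0x8464, nat_lit 0), (nat_lit 13, nat_lit 0x8464, nat_lit 0)]),
  (nat_lit 67, [(nat_lit 0, nat_lit 67, nat_lit 0), (nat_lit 0, nat_lit 0x864, nat_lit 0), (nat_lit 13, nat_lit 0x864, nat_lit 0)]),
  (nat_lit 0x443, [(nat_lit 0, nat_lit 0x443, nat_lit 0), (nat_lit 0, nat_lit 0x8864, nat_lit 0), (nat_lit 13, nat_lit 0x8864, nat_lit 0)]),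
  (nat_lit 0x8443, [(nat_lit 0, nat_lit 0x8443, nat_lit 0), (nat_lit 0, nat_lit 0x108864, nat_lit 0), (nat_lit 13, nat_lit 0x108864, nat_lit 0)]),
  (nat_lit 0x843, [(nat_lit 0, nat_lit 0x843, nat_lit 0), (nat_lit 0, nat_lit 0x10864, nat_lit 0), (nat_lit 13, nat_lit 0x10864, nat_lit 0)]),
  (nat_lit 0x8843, [(nat_lit 0, nat_lit 0x8843, nat_lit 0), (nat_lit 0, nat_lit 0x110864, nat_lit 0), (nat_lit 13, nat_lit 0x110864, nat_lit 0)]),
  (nat_lit 0x8863, [(nat_lit 0, nat_lit 0x8863, nat_lit 0), (nat_lit 0, nat_lit 0x110c64, nat_lit 0), (nat_lit 13, nat_lit 0x110c64, nat_lit 0)])]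
def c5 : List (ℕ × List (ℕ × ℕ × ℕ)) := [(nat_lit 0, [(nat_lit 0, nat_lit 0, nat_lit 0), (nat_lit 0, nat_lit 5, nat_lit 0), (nat_lit 13, nat_lit 5, nat_lit 0)]),
  (nat_lit 1, [(nat_lit 0, nat_lit 1, nat_lit 0), (nat_lit 4, nat_lit 1, nat_lit 0), (nat_lit 132, nat_lit 1, nat_lit 0)]),
  (nat_lit 2, [(nat_lit 0, nat_lit 2, nat_lit 0), (nat_lit 0, nat_lit 69, nat_lit 0), (nat_lit 13, nat_lit 69, nat_lit 0)]),
  (nat_lit 34, [(nat_lit 0, nat_lit 34, nat_lit 0), (nat_lit 4, nat_lit 34, nat_lit 0x1908), (nat_lit 132, nat_lit 34, nat_lit 0x18c8)]),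
  (nat_lit 0x422, [(nat_lit 0, nat_lit 0x422, nat_lit 0), (nat_lit 132, nat_lit 0x422, nat_lit 0x31908), (nat_lit 4, nat_lit 0x422, nat_lit 200)]),
  (nat_lit 3, [(nat_lit 0, nat_lit 3, nat_lit 0), (nat_lit 0, nat_lit 101, nat_lit 0), (nat_lit 13, nat_lit 101, nat_lit 0)]),
  (nat_lit 35, [(nat_lit 0, nat_lit 35, nat_lit 0), (nat_lit 4, nat_lit 35, nat_lit 0x1d29), (nat_lit 132, nat_lit 35, nat_lit 0x1ce9)]),
  (nat_lit 0x423, [(nat_lit 0, nat_lit 0x423, nat_lit 0), (nat_lit 132, nat_lit 0x423, nat_lit 0x39d29), (nat_lit 4, nat_lit 0x423, nat_lit 233)]),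
  (nat_lit 67, [(nat_lit 0, nat_lit 67, nat_lit 0), (nat_lit 0, nat_lit 0x865, nat_lit 0), (nat_lit 13, nat_lit 0x865, nat_lit 0)]),
  (nat_lit 0x443, [(nat_lit 0, nat_lit 0x443, nat_lit 0), (nat_lit 4, nat_lit 0x443, nat_lit 0xc7421295296c), (nat_lit 132, nat_lit 0x443, nat_lit 0xc639d0952d6c)]),
  (nat_lit 0x8443, [(nat_lit 0, nat_lit 0x8443, nat_lit 0), (nat_lit 132, nat_lit 0x8443, nat_lit 0x318e74212952d8c), (nat_lit 4, nat_lit 0x8443, nat_lit 0xc74254a5ad8c)]),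
  (nat_lit 0x843, [(nat_lit 0, nat_lit 0x843, nat_lit 0), (nat_lit 0, nat_lit 0x10865, nat_lit 0), (nat_lit 13, nat_lit 0x10865, nat_lit 0)]),
  (nat_lit 0x8843, [(nat_lit 0, nat_lit 0x8843, nat_lit 0), (nat_lit 4, nat_lit 0x8843, nat_lit 0x18c74252a5ad8c), (nat_lit 132, nat_lit 0x8843, nat_lit 0x18e74212a52d8c)]),
  (nat_lit 0x8863, [(nat_lit 0, nat_lit 0x8863, nat_lit 0), (nat_lit 4, nat_lit 0x8863, nat_lit 0x18e74212a5ad8c), (nat_lit 132, nat_lit 0x8863, nat_lit 0x18c74252a52d8c)]),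
  (nat_lit 4, [(nat_lit 0, nat_lit 4, nat_lit 0), (nat_lit 33, nat_lit 4, nat_lit 0), (nat_lit 1, nat_lit 4, nat_lit 0)]),
  (nat_lit 36, [(nat_lit 0, nat_lit 36, nat_lit 0), (nat_lit 4, nat_lit 36, nat_lit 0), (nat_lit 1, nat_lit 36, nat_lit 0)]),
  (nat_lit 68, [(nat_lit 0, nat_lit 68, nat_lit 0), (nat_lit 33, nat_lit 68, nat_lit 0), (nat_lit 1, nat_lit 68, nat_lit 0)]),
  (nat_lit 0x444, [(nat_lit 0, nat_lit 0x444, nat_lit 0), (nat_lit 4, nat_lit 0x444, nat_lit 0x1908), (nat_lit 1, nat_lit 0x444, nat_lit 0)]),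
  (nat_lit 0x8444, [(nat_lit 0, nat_lit 0x8444, nat_lit 0), (nat_lit 33, nat_lit 0x8444, nat_lit 0), (nat_lit 1, nat_lit 0x8444, nat_lit 0)]),
  (nat_lit 100, [(nat_lit 0, nat_lit 100, nat_lit 0), (nat_lit 33, nat_lit 100, nat_lit 0), (nat_lit 1, nat_lit 100, nat_lit 0)]),
  (nat_lit 0x464, [(nat_lit 0, nat_lit 0x464, nat_lit 0), (nat_lit 4, nat_lit 0x464, nat_lit 0x1d29), (nat_lit 1, nat_lit 0x464, nat_lit 0)]),
  (nat_lit 0x8464, [(nat_lit 0, nat_lit 0x8464, nat_lit 0), (nat_lit 33, nat_lit 0x8464, nat_lit 0), (nat_lit 1, nat_lit 0x8464, nat_lit 0)]),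
  (nat_lit 0x864, [(nat_lit 0, nat_lit 0x864, nat_lit 0), (nat_lit 33, nat_lit 0x864, nat_lit 0), (nat_lit 1, nat_lit 0x864, nat_lit 0)]),
  (nat_lit 0x8864, [(nat_lit 0, nat_lit 0x8864, nat_lit 0), (nat_lit 4, nat_lit 0x8864, nat_lit 0x63a1094a94b), (nat_lit 1, nat_lit 0x8864, nat_lit 0)]),
  (nat_lit 0x108864, [(nat_lit 0, nat_lit 0x108864, nat_lit 0), (nat_lit 33, nat_lit 0x108864, nat_lit 0), (nat_lit 1, nat_lit 0x108864, nat_lit 0)]),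
  (nat_lit 0x10864, [(nat_lit 0, nat_lit 0x10864, nat_lit 0), (nat_lit 33, nat_lit 0x10864, nat_lit 0), (nat_lit 1, nat_lit 0x10864, nat_lit 0)]),
  (nat_lit 0x110864, [(nat_lit 0, nat_lit 0x110864, nat_lit 0), (nat_lit 4, nat_lit 0x110864, nat_lit 0x631d094a96b), (nat_lit 1, nat_lit 0x110864, nat_lit 0)]),
  (nat_lit 0x110c64, [(nat_lit 0, nat_lit 0x110c64, nat_lit 0), (nat_lit 4, nat_lit 0x110c64, nat_lit 0x639d084a96b), (nat_lit 1, nat_lit 0x110c64, nat_lit 0)])]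
def c6 : List (ℕ × List (ℕ × ℕ × ℕ)) := [(nat_lit 0, [(nat_lit 0, nat_lit 0, nat_lit 0), (nat_lit 0, nat_lit 6, nat_lit 0), (nat_lit 13, nat_lit 6, nat_lit 0)]),
  (nat_lit 1, [(nat_lit 0, nat_lit 1, nat_lit 0), (nat_lit 0, nat_lit 38, nat_lit 0), (nat_lit 13, nat_lit 38, nat_lit 0)]),
  (nat_lit 2, [(nat_lit 0, nat_lit 2, nat_lit 0), (nat_lit 132, nat_lit 2, nat_lit 0), (nat_lit 4, nat_lit 2, nat_lit 0)]),
  (nat_lit 34, [(nat_lit 0, nat_lit 34, nat_lit 0), (nat_lit 132, nat_lit 0x445, nat_lit 8), (nat_lit 420, nat_lit 0x445, nat_lit 8)]),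
  (nat_lit 0x422, [(nat_lit 0, nat_lit 0x422, nat_lit 0), (nat_lit 141, nat_lit 0x8445, nat_lit 8), (nat_lit 4, nat_lit 0x8445, nat_lit 8)]),
  (nat_lit 3, [(nat_lit 0, nat_lit 3, nat_lit 0), (nat_lit 0, nat_lit 102, nat_lit 0), (nat_lit 13, nat_lit 102, nat_lit 0)]),
  (nat_lit 35, [(nat_lit 0, nat_lit 35, nat_lit 0), (nat_lit 0, nat_lit 0x466, nat_lit 0), (nat_lit 13, nat_lit 0x466, nat_lit 0)]),
  (nat_lit 0x423, [(nat_lit 0, nat_lit 0x423, nat_lit 0), (nat_lit 0, nat_lit 0x8466, nat_lit 0), (nat_lit 13, nat_lit 0x8466, nat_lit 0)]),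
  (nat_lit 67, [(nat_lit 0, nat_lit 67, nat_lit 0), (nat_lit 132, nat_lit 67, nat_lit 0x1cea), (nat_lit 4, nat_lit 67, nat_lit 0x1d4a)]),
  (nat_lit 0x443, [(nat_lit 0, nat_lit 0x443, nat_lit 0), (nat_lit 132, nat_lit 0x8865, nat_lit 0x39d0952d6c), (nat_lit 420, nat_lit 0x8865, nat_lit 0x39d0952d6c)]),
  (nat_lit 0x8443, [(nat_lit 0, nat_lit 0x8443, nat_lit 0), (nat_lit 141, nat_lit 0x108865, nat_lit 0x74254a5ad8c), (nat_lit 4, nat_lit 0x108865, nat_lit 0x74254a5ad8c)]),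
  (nat_lit 0x843, [(nat_lit 0, nat_lit 0x843, nat_lit 0), (nat_lit 4, nat_lit 0x843, nat_lit 234), (nat_lit 132, nat_lit 0x843, nat_lit 0x39d4a)]),
  (nat_lit 0x8843, [(nat_lit 0, nat_lit 0x8843, nat_lit 0), (nat_lit 420, nat_lit 0x110865, nat_lit 0xe74212a52d8c), (nat_lit 132, nat_lit 0x110865, nat_lit 0xe74212a52d8c)]),
  (nat_lit 0x8863, [(nat_lit 0, nat_lit 0x8863, nat_lit 0), (nat_lit 132, nat_lit 0x110c65, nat_lit 0x74252a52d8c), (nat_lit 420, nat_lit 0x110c65, nat_lit 0x74252a52d8c)]),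
  (nat_lit 4, [(nat_lit 0, nat_lit 4, nat_lit 0), (nat_lit 2, nat_lit 4, nat_lit 0), (nat_lit 66, nat_lit 4, nat_lit 0)]),
  (nat_lit 36, [(nat_lit 0, nat_lit 36, nat_lit 0), (nat_lit 2, nat_lit 36, nat_lit 0), (nat_lit 66, nat_lit 36, nat_lit 0)]),
  (nat_lit 68, [(nat_lit 0, nat_lit 68, nat_lit 0), (nat_lit 2, nat_lit 68, nat_lit 0), (nat_lit 4, nat_lit 68, nat_lit 0)]),
  (nat_lit 0x444, [(nat_lit 0, nat_lit 0x444, nat_lit 0), (nat_lit 2, nat_lit 0x444, nat_lit 0), (nat_lit 36, nat_lit 0x444, nat_lit 264)]),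
  (nat_lit 0x8444, [(nat_lit 0, nat_lit 0x8444, nat_lit 0), (nat_lit 2, nat_lit 0x8444, nat_lit 0), (nat_lit 66, nat_lit 0x8444, nat_lit 0)]),
  (nat_lit 100, [(nat_lit 0, nat_lit 100, nat_lit 0), (nat_lit 2, nat_lit 100, nat_lit 0), (nat_lit 66, nat_lit 100, nat_lit 0)]),
  (nat_lit 0x464, [(nat_lit 0, nat_lit 0x464, nat_lit 0), (nat_lit 2, nat_lit 0x464, nat_lit 0), (nat_lit 66, nat_lit 0x464, nat_lit 0)]),
  (nat_lit 0x8464, [(nat_lit 0, nat_lit 0x8464, nat_lit 0), (nat_lit 2, nat_lit 0x8464, nat_lit 0), (nat_lit 66, nat_lit 0x8464, nat_lit 0)]),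
  (nat_lit 0x864, [(nat_lit 0, nat_lit 0x864, nat_lit 0), (nat_lit 2, nat_lit 0x864, nat_lit 0), (nat_lit 4, nat_lit 0x864, nat_lit 0x1d4a)]),
  (nat_lit 0x8864, [(nat_lit 0, nat_lit 0x8864, nat_lit 0), (nat_lit 2, nat_lit 0x8864, nat_lit 0), (nat_lit 36, nat_lit 0x8864, nat_lit 0x74214a)]),
  (nat_lit 0x108864, [(nat_lit 0, nat_lit 0x108864, nat_lit 0), (nat_lit 2, nat_lit 0x108864, nat_lit 0), (nat_lit 66, nat_lit 0x108864, nat_lit 0)]),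
  (nat_lit 0x10864, [(nat_lit 0, nat_lit 0x10864, nat_lit 0), (nat_lit 2, nat_lit 0x10864, nat_lit 0), (nat_lit 66, nat_lit 0x10864, nat_lit 0)]),
  (nat_lit 0x110864, [(nat_lit 0, nat_lit 0x110864, nat_lit 0), (nat_lit 2, nat_lit 0x110864, nat_lit 0), (nat_lit 66, nat_lit 0x110864, nat_lit 0)]),
  (nat_lit 0x110c64, [(nat_lit 0, nat_lit 0x110c64, nat_lit 0), (nat_lit 2, nat_lit 0x110c64, nat_lit 0), (nat_lit 36, nat_lit 0x110c64, nat_lit 0x73a10a)]),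
  (nat_lit 5, [(nat_lit 0, nat_lit 5, nat_lit 0), (nat_lit 0, nat_lit 166, nat_lit 0), (nat_lit 13, nat_lit 0x14a6, nat_lit 0)]),
  (nat_lit 69, [(nat_lit 0, nat_lit 69, nat_lit 0), (nat_lit 132, nat_lit 69, nat_lit 0), (nat_lit 4, nat_lit 69, nat_lit 0)]),
  (nat_lit 101, [(nat_lit 0, nat_lit 101, nat_lit 0), (nat_lit 0, nat_lit 0xca6, nat_lit 0), (nat_lit 13, nat_lit 0x194a6, nat_lit 0)]),
  (nat_lit 0x865, [(nat_lit 0, nat_lit 0x865, nat_lit 0), (nat_lit 132, nat_lit 0x865, nat_lit 0x39d4c), (nat_lit 4, nat_lit 0x865, nat_lit 0x75298c)]),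
  (nat_lit 0x10865, [(nat_lit 0, nat_lit 0x10865, nat_lit 0), (nat_lit 4, nat_lit 0x10865, nat_lit 0x1d4c), (nat_lit 132, nat_lit 0x10865, nat_lit 0xe75298c)])]
def c7 : List (ℕ × List (ℕ × ℕ × ℕ)) := [(nat_lit 0, [(nat_lit 0, nat_lit 0, nat_lit 0), (nat_lit 0, nat_lit 7, nat_lit 0), (nat_lit 13, nat_lit 7, nat_lit 0)]),
  (nat_lit 1, [(nat_lit 0, nat_lit 1, nat_lit 0), (nat_lit 0, nat_lit 39, nat_lit 0), (nat_lit 13, nat_lit 39, nat_lit 0)]),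
  (nat_lit 2, [(nat_lit 0, nat_lit 2, nat_lit 0), (nat_lit 0, nat_lit 71, nat_lit 0), (nat_lit 13, nat_lit 71, nat_lit 0)]),
  (nat_lit 34, [(nat_lit 0, nat_lit 34, nat_lit 0), (nat_lit 0, nat_lit 0x447, nat_lit 0), (nat_lit 13, nat_lit 0x447, nat_lit 0)]),
  (nat_lit 0x422, [(nat_lit 0, nat_lit 0x422, nat_lit 0), (nat_lit 0, nat_lit 0x8447, nat_lit 0), (nat_lit 13, nat_lit 0x8447, nat_lit 0)]),
  (nat_lit 3, [(nat_lit 0, nat_lit 3, nat_lit 0), (nat_lit 132, nat_lit 3, nat_lit 0), (nat_lit 4, nat_lit 3, nat_lit 0)]),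
  (nat_lit 35, [(nat_lit 0, nat_lit 35, nat_lit 0), (nat_lit 132, nat_lit 0x465, nat_lit 9), (nat_lit 420, nat_lit 0x465, nat_lit 9)]),
  (nat_lit 0x423, [(nat_lit 0, nat_lit 0x423, nat_lit 0), (nat_lit 141, nat_lit 0x8465, nat_lit 9), (nat_lit 4, nat_lit 0x8465, nat_lit 9)]),
  (nat_lit 67, [(nat_lit 0, nat_lit 67, nat_lit 0), (nat_lit 141, nat_lit 0x866, nat_lit 330), (nat_lit 4, nat_lit 0x866, nat_lit 330)]),
  (nat_lit 0x443, [(nat_lit 0, nat_lit 0x443, nat_lit 0), (nat_lit 0, nat_lit 0x8867, nat_lit 0), (nat_lit 13, nat_lit 0x8867, nat_lit 0)]),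
  (nat_lit 0x8443, [(nat_lit 0, nat_lit 0x8443, nat_lit 0), (nat_lit 0, nat_lit 0x108867, nat_lit 0), (nat_lit 13, nat_lit 0x108867, nat_lit 0)]),
  (nat_lit 0x843, [(nat_lit 0, nat_lit 0x843, nat_lit 0), (nat_lit 132, nat_lit 0x10866, nat_lit 330), (nat_lit 420, nat_lit 0x10866, nat_lit 330)]),
  (nat_lit 0x8843, [(nat_lit 0, nat_lit 0x8843, nat_lit 0), (nat_lit 0, nat_lit 0x110867, nat_lit 0), (nat_lit 13, nat_lit 0x110867, nat_lit 0)]),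
  (nat_lit 0x8863, [(nat_lit 0, nat_lit 0x8863, nat_lit 0), (nat_lit 0, nat_lit 0x110c67, nat_lit 0), (nat_lit 13, nat_lit 0x110c67, nat_lit 0)]),
  (nat_lit 4, [(nat_lit 0, nat_lit 4, nat_lit 0), (nat_lit 3, nat_lit 4, nat_lit 0), (nat_lit 99, nat_lit 4, nat_lit 0)]),
  (nat_lit 36, [(nat_lit 0, nat_lit 36, nat_lit 0), (nat_lit 3, nat_lit 36, nat_lit 0), (nat_lit 99, nat_lit 36, nat_lit 0)]),
  (nat_lit 68, [(nat_lit 0, nat_lit 68, nat_lit 0), (nat_lit 3, nat_lit 68, nat_lit 0), (nat_lit 99, nat_lit 68, nat_lit 0)]),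
  (nat_lit 0x444, [(nat_lit 0, nat_lit 0x444, nat_lit 0), (nat_lit 3, nat_lit 0x444, nat_lit 0), (nat_lit 99, nat_lit 0x444, nat_lit 0)]),
  (nat_lit 0x8444, [(nat_lit 0, nat_lit 0x8444, nat_lit 0), (nat_lit 3, nat_lit 0x8444, nat_lit 0), (nat_lit 99, nat_lit 0x8444, nat_lit 0)]),
  (nat_lit 100, [(nat_lit 0, nat_lit 100, nat_lit 0), (nat_lit 3, nat_lit 100, nat_lit 0), (nat_lit 4, nat_lit 100, nat_lit 0)]),
  (nat_lit 0x464, [(nat_lit 0, nat_lit 0x464, nat_lit 0), (nat_lit 3, nat_lit 0x464, nat_lit 0), (nat_lit 36, nat_lit 0x464, nat_lit 297)]),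
  (nat_lit 0x8464, [(nat_lit 0, nat_lit 0x8464, nat_lit 0), (nat_lit 3, nat_lit 0x8464, nat_lit 0), (nat_lit 99, nat_lit 0x8464, nat_lit 0)]),
  (nat_lit 0x864, [(nat_lit 0, nat_lit 0x864, nat_lit 0), (nat_lit 3, nat_lit 0x864, nat_lit 0), (nat_lit 68, nat_lit 0x864, nat_lit 330)]),
  (nat_lit 0x8864, [(nat_lit 0, nat_lit 0x8864, nat_lit 0), (nat_lit 3, nat_lit 0x8864, nat_lit 0), (nat_lit 99, nat_lit 0x8864, nat_lit 0)]),
  (nat_lit 0x108864, [(nat_lit 0, nat_lit 0x108864, nat_lit 0), (nat_lit 3, nat_lit 0x108864, nat_lit 0), (nat_lit 99, nat_lit 0x108864, nat_lit 0)]),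
  (nat_lit 0x10864, [(nat_lit 0, nat_lit 0x10864, nat_lit 0), (nat_lit 3, nat_lit 0x10864, nat_lit 0), (nat_lit 99, nat_lit 0x10864, nat_lit 0)]),
  (nat_lit 0x110864, [(nat_lit 0, nat_lit 0x110864, nat_lit 0), (nat_lit 3, nat_lit 0x110864, nat_lit 0), (nat_lit 99, nat_lit 0x110864, nat_lit 0)]),
  (nat_lit 0x110c64, [(nat_lit 0, nat_lit 0x110c64, nat_lit 0), (nat_lit 3, nat_lit 0x110c64, nat_lit 0), (nat_lit 99, nat_lit 0x110c64, nat_lit 0)]),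
  (nat_lit 5, [(nat_lit 0, nat_lit 5, nat_lit 0), (nat_lit 0, nat_lit 167, nat_lit 0), (nat_lit 13, nat_lit 0x14a7, nat_lit 0)]),
  (nat_lit 69, [(nat_lit 0, nat_lit 69, nat_lit 0), (nat_lit 0, nat_lit 0x8a7, nat_lit 0), (nat_lit 13, nat_lit 0x114a7, nat_lit 0)]),
  (nat_lit 0x445, [(nat_lit 0, nat_lit 0x445, nat_lit 0), (nat_lit 0, nat_lit 0x88a7, nat_lit 0), (nat_lit 13, nat_lit 0x1114a7, nat_lit 0)]),
  (nat_lit 0x8445, [(nat_lit 0, nat_lit 0x8445, nat_lit 0), (nat_lit 0, nat_lit 0x1088a7, nat_lit 0), (nat_lit 141, nat_lit 0x1088c7, nat_lit 0x218c)]),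
  (nat_lit 101, [(nat_lit 0, nat_lit 101, nat_lit 0), (nat_lit 132, nat_lit 101, nat_lit 0), (nat_lit 4, nat_lit 101, nat_lit 0)]),
  (nat_lit 0x865, [(nat_lit 0, nat_lit 0x865, nat_lit 0), (nat_lit 0, nat_lit 0x10ca7, nat_lit 0), (nat_lit 4, nat_lit 0x10ca6, nat_lit 0x5298c)]),
  (nat_lit 0x8865, [(nat_lit 0, nat_lit 0x8865, nat_lit 0), (nat_lit 141, nat_lit 0x110ca6, nat_lit 0x84252a52d8c), (nat_lit 4, nat_lit 0x8866, nat_lit 0x21094a94b)]),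
  (nat_lit 0x108865, [(nat_lit 0, nat_lit 0x108865, nat_lit 0), (nat_lit 141, nat_lit 0x108866, nat_lit 0x1095296b), (nat_lit 4, nat_lit 0x422194a6, nat_lit 0x212a52d6c)]),
  (nat_lit 0x10865, [(nat_lit 0, nat_lit 0x10865, nat_lit 0), (nat_lit 132, nat_lit 0x210ca6, nat_lit 0x5298c), (nat_lit 420, nat_lit 0x42194a6, nat_lit 0x294c)]),
  (nat_lit 0x110865, [(nat_lit 0, nat_lit 0x110865, nat_lit 0), (nat_lit 0, nat_lit 0x2210ca7, nat_lit 0), (nat_lit 420, nat_lit 0x110866, nat_lit 0x1084a94b)]),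
  (nat_lit 0x110c65, [(nat_lit 0, nat_lit 0x110c65, nat_lit 0), (nat_lit 4, nat_lit 0x110c66, nat_lit 0x1084a96b), (nat_lit 141, nat_lit 0x2218ca6, nat_lit 0x210952d6c)]),
  (nat_lit 6, [(nat_lit 0, nat_lit 6, nat_lit 0), (nat_lit 0, nat_lit 199, nat_lit 0), (nat_lit 13, nat_lit 0x18c7, nat_lit 0)]),
  (nat_lit 38, [(nat_lit 0, nat_lit 38, nat_lit 0), (nat_lit 0, nat_lit 0x4c7, nat_lit 0), (nat_lit 13, nat_lit 0x98c7, nat_lit 0)]),
  (nat_lit 102, [(nat_lit 0, nat_lit 102, nat_lit 0), (nat_lit 132, nat_lit 102, nat_lit 0), (nat_lit 4, nat_lit 102, nat_lit 0)]),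
  (nat_lit 0x466, [(nat_lit 0, nat_lit 0x466, nat_lit 0), (nat_lit 132, nat_lit 0x8ca6, nat_lit 0x258c), (nat_lit 4, nat_lit 0x1194a6, nat_lit 0x252c)]),
  (nat_lit 0x8466, [(nat_lit 0, nat_lit 0x8466, nat_lit 0), (nat_lit 0, nat_lit 0x108cc7, nat_lit 0), (nat_lit 4, nat_lit 0x108ca6, nat_lit 0x258c)]),
  (nat_lit 166, [(nat_lit 0, nat_lit 166, nat_lit 0), (nat_lit 0, nat_lit 0x14c7, nat_lit 0), (nat_lit 0, nat_lit 0x298e7, nat_lit 0)]),
  (nat_lit 0xca6, [(nat_lit 0, nat_lit 0xca6, nat_lit 0), (nat_lit 132, nat_lit 0xca6, nat_lit 0), (nat_lit 4, nat_lit 0xca6, nat_lit 0)]),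
  (nat_lit 0x14a6, [(nat_lit 0, nat_lit 0x14a6, nat_lit 0), (nat_lit 0, nat_lit 0x294c7, nat_lit 0), (nat_lit 13, nat_lit 0x298c7, nat_lit 0)]),
  (nat_lit 0x194a6, [(nat_lit 0, nat_lit 0x194a6, nat_lit 0), (nat_lit 132, nat_lit 0x194a6, nat_lit 0), (nat_lit 4, nat_lit 0x194a6, nat_lit 0)])]
def c8 : List (ℕ × List (ℕ × ℕ × ℕ)) := [(nat_lit 0, [(nat_lit 0, nat_lit 0, nat_lit 0), (nat_lit 0, nat_lit 8, nat_lit 0), (nat_lit 13, nat_lit 8, nat_lit 0)]),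
  (nat_lit 1, [(nat_lit 0, nat_lit 1, nat_lit 0), (nat_lit 6, nat_lit 1, nat_lit 0), (nat_lit 198, nat_lit 1, nat_lit 0)]),
  (nat_lit 2, [(nat_lit 0, nat_lit 2, nat_lit 0), (nat_lit 165, nat_lit 2, nat_lit 0), (nat_lit 5, nat_lit 2, nat_lit 0)]),
  (nat_lit 34, [(nat_lit 0, nat_lit 34, nat_lit 0), (nat_lit 6, nat_lit 34, nat_lit 0), (nat_lit 5, nat_lit 34, nat_lit 0)]),
  (nat_lit 0x422, [(nat_lit 0, nat_lit 0x422, nat_lit 0), (nat_lit 165, nat_lit 0x422, nat_lit 0), (nat_lit 5, nat_lit 0x422, nat_lit 0)]),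
  (nat_lit 3, [(nat_lit 0, nat_lit 3, nat_lit 0), (nat_lit 0, nat_lit 104, nat_lit 0), (nat_lit 13, nat_lit 104, nat_lit 0)]),
  (nat_lit 35, [(nat_lit 0, nat_lit 35, nat_lit 0), (nat_lit 6, nat_lit 35, nat_lit 0x294b), (nat_lit 198, nat_lit 35, nat_lit 0x296b)]),
  (nat_lit 0x423, [(nat_lit 0, nat_lit 0x423, nat_lit 0), (nat_lit 198, nat_lit 0x423, nat_lit 331), (nat_lit 6, nat_lit 0x423, nat_lit 0x5296b)]),
  (nat_lit 67, [(nat_lit 0, nat_lit 67, nat_lit 0), (nat_lit 165, nat_lit 67, nat_lit 0x252b), (nat_lit 5, nat_lit 67, nat_lit 0x256b)]),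
  (nat_lit 0x443, [(nat_lit 0, nat_lit 0x443, nat_lit 0), (nat_lit 6, nat_lit 0x443, nat_lit 0x294b), (nat_lit 5, nat_lit 0x443, nat_lit 0x256b)]),
  (nat_lit 0x8443, [(nat_lit 0, nat_lit 0x8443, nat_lit 0), (nat_lit 165, nat_lit 0x8443, nat_lit 0x252b), (nat_lit 5, nat_lit 0x8443, nat_lit 0x256b)]),
  (nat_lit 0x843, [(nat_lit 0, nat_lit 0x843, nat_lit 0), (nat_lit 5, nat_lit 0x843, nat_lit 299), (nat_lit 165, nat_lit 0x843, nat_lit 0x4a56b)]),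
  (nat_lit 0x8843, [(nat_lit 0, nat_lit 0x8843, nat_lit 0), (nat_lit 5, nat_lit 0x8843, nat_lit 299), (nat_lit 165, nat_lit 0x8843, nat_lit 0x4a56b)]),
  (nat_lit 0x8863, [(nat_lit 0, nat_lit 0x8863, nat_lit 0), (nat_lit 6, nat_lit 0x8863, nat_lit 0x296b), (nat_lit 5, nat_lit 0x8863, nat_lit 0x252b)]),
  (nat_lit 4, [(nat_lit 0, nat_lit 4, nat_lit 0), (nat_lit 0, nat_lit 136, nat_lit 0), (nat_lit 0x442, nat_lit 0x10a6, nat_lit 0)]),
  (nat_lit 36, [(nat_lit 0, nat_lit 36, nat_lit 0), (nat_lit 6, nat_lit 36, nat_lit 0), (nat_lit 198, nat_lit 36, nat_lit 0)]),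
  (nat_lit 68, [(nat_lit 0, nat_lit 68, nat_lit 0), (nat_lit 165, nat_lit 68, nat_lit 0), (nat_lit 5, nat_lit 68, nat_lit 0)]),
  (nat_lit 0x444, [(nat_lit 0, nat_lit 0x444, nat_lit 0), (nat_lit 6, nat_lit 0x444, nat_lit 0), (nat_lit 5, nat_lit 0x444, nat_lit 0)]),
  (nat_lit 0x8444, [(nat_lit 0, nat_lit 0x8444, nat_lit 0), (nat_lit 165, nat_lit 0x8444, nat_lit 0), (nat_lit 5, nat_lit 0x8444, nat_lit 0)]),
  (nat_lit 100, [(nat_lit 0, nat_lit 100, nat_lit 0), (nat_lit 0, nat_lit 0xc88, nat_lit 0), (nat_lit 0x442, nat_lit 0x190a6, nat_lit 0)]),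
  (nat_lit 0x464, [(nat_lit 0, nat_lit 0x464, nat_lit 0), (nat_lit 6, nat_lit 0x464, nat_lit 0xa52d8c), (nat_lit 198, nat_lit 0x464, nat_lit 0x52d6c)]),
  (nat_lit 0x8464, [(nat_lit 0, nat_lit 0x8464, nat_lit 0), (nat_lit 198, nat_lit 0x8464, nat_lit 0x52d8c), (nat_lit 6, nat_lit 0x8464, nat_lit 0xa52d6c)]),
  (nat_lit 0x864, [(nat_lit 0, nat_lit 0x864, nat_lit 0), (nat_lit 165, nat_lit 0x864, nat_lit 0x94ad8c), (nat_lit 5, nat_lit 0x864, nat_lit 0x4ad6c)]),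
  (nat_lit 0x8864, [(nat_lit 0, nat_lit 0x8864, nat_lit 0), (nat_lit 6, nat_lit 0x8864, nat_lit 0xa52d8c), (nat_lit 5, nat_lit 0x8864, nat_lit 0x4ad6c)]),
  (nat_lit 0x108864, [(nat_lit 0, nat_lit 0x108864, nat_lit 0), (nat_lit 165, nat_lit 0x108864, nat_lit 0x94ad8c), (nat_lit 5, nat_lit 0x108864, nat_lit 0x4ad6c)]),
  (nat_lit 0x10864, [(nat_lit 0, nat_lit 0x10864, nat_lit 0), (nat_lit 5, nat_lit 0x10864, nat_lit 0x4ad8c), (nat_lit 165, nat_lit 0x10864, nat_lit 0x94ad6c)]),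
  (nat_lit 0x110864, [(nat_lit 0, nat_lit 0x110864, nat_lit 0), (nat_lit 5, nat_lit 0x110864, nat_lit 0x4ad8c), (nat_lit 165, nat_lit 0x110864, nat_lit 0x94ad6c)]),
  (nat_lit 0x110c64, [(nat_lit 0, nat_lit 0x110c64, nat_lit 0), (nat_lit 6, nat_lit 0x110c64, nat_lit 0x52d6c), (nat_lit 5, nat_lit 0x110c64, nat_lit 0x94ad8c)]),
  (nat_lit 5, [(nat_lit 0, nat_lit 5, nat_lit 0), (nat_lit 2, nat_lit 5, nat_lit 0), (nat_lit 66, nat_lit 5, nat_lit 0)]),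
  (nat_lit 69, [(nat_lit 0, nat_lit 69, nat_lit 0), (nat_lit 2, nat_lit 69, nat_lit 0), (nat_lit 5, nat_lit 69, nat_lit 0)]),
  (nat_lit 0x445, [(nat_lit 0, nat_lit 0x445, nat_lit 0), (nat_lit 2, nat_lit 0x445, nat_lit 0), (nat_lit 5, nat_lit 0x445, nat_lit 0)]),
  (nat_lit 0x8445, [(nat_lit 0, nat_lit 0x8445, nat_lit 0), (nat_lit 2, nat_lit 0x8445, nat_lit 0), (nat_lit 5, nat_lit 0x8445, nat_lit 0)]),
  (nat_lit 101, [(nat_lit 0, nat_lit 101, nat_lit 0), (nat_lit 2, nat_lit 101, nat_lit 0), (nat_lit 66, nat_lit 101, nat_lit 0)]),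
  (nat_lit 0x465, [(nat_lit 0, nat_lit 0x465, nat_lit 0), (nat_lit 2, nat_lit 0x465, nat_lit 0), (nat_lit 66, nat_lit 0x465, nat_lit 0)]),
  (nat_lit 0x8465, [(nat_lit 0, nat_lit 0x8465, nat_lit 0), (nat_lit 2, nat_lit 0x8465, nat_lit 0), (nat_lit 6, nat_lit 0x8465, nat_lit 0x14a5ad8c)]),
  (nat_lit 0x865, [(nat_lit 0, nat_lit 0x865, nat_lit 0), (nat_lit 2, nat_lit 0x865, nat_lit 0), (nat_lit 5, nat_lit 0x865, nat_lit 0x256b)]),
  (nat_lit 0x8865, [(nat_lit 0, nat_lit 0x8865, nat_lit 0), (nat_lit 2, nat_lit 0x8865, nat_lit 0), (nat_lit 5, nat_lit 0x8865, nat_lit 0x256b)]),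
  (nat_lit 0x108865, [(nat_lit 0, nat_lit 0x108865, nat_lit 0), (nat_lit 2, nat_lit 0x108865, nat_lit 0), (nat_lit 5, nat_lit 0x108865, nat_lit 0x256b)]),
  (nat_lit 0x10865, [(nat_lit 0, nat_lit 0x10865, nat_lit 0), (nat_lit 2, nat_lit 0x10865, nat_lit 0), (nat_lit 66, nat_lit 0x10865, nat_lit 0)]),
  (nat_lit 0x110865, [(nat_lit 0, nat_lit 0x110865, nat_lit 0), (nat_lit 2, nat_lit 0x110865, nat_lit 0), (nat_lit 66, nat_lit 0x110865, nat_lit 0)]),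
  (nat_lit 0x110c65, [(nat_lit 0, nat_lit 0x110c65, nat_lit 0), (nat_lit 2, nat_lit 0x110c65, nat_lit 0), (nat_lit 5, nat_lit 0x110c65, nat_lit 0x252b)]),
  (nat_lit 6, [(nat_lit 0, nat_lit 6, nat_lit 0), (nat_lit 33, nat_lit 6, nat_lit 0), (nat_lit 1, nat_lit 6, nat_lit 0)]),
  (nat_lit 38, [(nat_lit 0, nat_lit 38, nat_lit 0), (nat_lit 6, nat_lit 38, nat_lit 0), (nat_lit 1, nat_lit 38, nat_lit 0)]),
  (nat_lit 102, [(nat_lit 0, nat_lit 102, nat_lit 0), (nat_lit 33, nat_lit 102, nat_lit 0), (nat_lit 1, nat_lit 102, nat_lit 0)]),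
  (nat_lit 0x466, [(nat_lit 0, nat_lit 0x466, nat_lit 0), (nat_lit 6, nat_lit 0x466, nat_lit 0x294b), (nat_lit 1, nat_lit 0x466, nat_lit 0)]),
  (nat_lit 0x8466, [(nat_lit 0, nat_lit 0x8466, nat_lit 0), (nat_lit 33, nat_lit 0x8466, nat_lit 0), (nat_lit 1, nat_lit 0x8466, nat_lit 0)]),
  (nat_lit 0x866, [(nat_lit 0, nat_lit 0x866, nat_lit 0), (nat_lit 33, nat_lit 0x866, nat_lit 0), (nat_lit 1, nat_lit 0x866, nat_lit 0)]),
  (nat_lit 0x8866, [(nat_lit 0, nat_lit 0x8866, nat_lit 0), (nat_lit 6, nat_lit 0x8866, nat_lit 0x294b), (nat_lit 1, nat_lit 0x8866, nat_lit 0)]),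
  (nat_lit 0x108866, [(nat_lit 0, nat_lit 0x108866, nat_lit 0), (nat_lit 33, nat_lit 0x108866, nat_lit 0), (nat_lit 1, nat_lit 0x108866, nat_lit 0)]),
  (nat_lit 0x10866, [(nat_lit 0, nat_lit 0x10866, nat_lit 0), (nat_lit 5, nat_lit 0x10866, nat_lit 0x4ad8c), (nat_lit 1, nat_lit 0x10866, nat_lit 0)]),
  (nat_lit 0x110866, [(nat_lit 0, nat_lit 0x110866, nat_lit 0), (nat_lit 5, nat_lit 0x110866, nat_lit 0x4ad8c), (nat_lit 1, nat_lit 0x110866, nat_lit 0)]),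
  (nat_lit 0x110c66, [(nat_lit 0, nat_lit 0x110c66, nat_lit 0), (nat_lit 6, nat_lit 0x110c66, nat_lit 0x296b), (nat_lit 1, nat_lit 0x110c66, nat_lit 0)]),
  (nat_lit 166, [(nat_lit 0, nat_lit 166, nat_lit 0), (nat_lit 2, nat_lit 166, nat_lit 0), (nat_lit 1, nat_lit 166, nat_lit 0)]),
  (nat_lit 0xca6, [(nat_lit 0, nat_lit 0xca6, nat_lit 0), (nat_lit 2, nat_lit 0xca6, nat_lit 0), (nat_lit 1, nat_lit 0xca6, nat_lit 0)]),
  (nat_lit 0x8ca6, [(nat_lit 0, nat_lit 0x8ca6, nat_lit 0), (nat_lit 2, nat_lit 0x8ca6, nat_lit 0), (nat_lit 1, nat_lit 0x8ca6, nat_lit 0)]),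
  (nat_lit 0x108ca6, [(nat_lit 0, nat_lit 0x108ca6, nat_lit 0), (nat_lit 2, nat_lit 0x108ca6, nat_lit 0), (nat_lit 1, nat_lit 0x108ca6, nat_lit 0)]),
  (nat_lit 0x10ca6, [(nat_lit 0, nat_lit 0x10ca6, nat_lit 0), (nat_lit 2, nat_lit 0x10ca6, nat_lit 0), (nat_lit 1, nat_lit 0x10ca6, nat_lit 0)]),
  (nat_lit 0x110ca6, [(nat_lit 0, nat_lit 0x110ca6, nat_lit 0), (nat_lit 2, nat_lit 0x110ca6, nat_lit 0), (nat_lit 1, nat_lit 0x110ca6, nat_lit 0)]),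
  (nat_lit 0x210ca6, [(nat_lit 0, nat_lit 0x210ca6, nat_lit 0), (nat_lit 2, nat_lit 0x210ca6, nat_lit 0), (nat_lit 1, nat_lit 0x210ca6, nat_lit 0)]),
  (nat_lit 0x2218ca6, [(nat_lit 0, nat_lit 0x2218ca6, nat_lit 0), (nat_lit 2, nat_lit 0x2218ca6, nat_lit 0), (nat_lit 1, nat_lit 0x2218ca6, nat_lit 0)]),
  (nat_lit 0x14a6, [(nat_lit 0, nat_lit 0x14a6, nat_lit 0), (nat_lit 33, nat_lit 0x14a6, nat_lit 0), (nat_lit 1, nat_lit 0x14a6, nat_lit 0)]),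
  (nat_lit 0x194a6, [(nat_lit 0, nat_lit 0x194a6, nat_lit 0), (nat_lit 33, nat_lit 0x194a6, nat_lit 0), (nat_lit 1, nat_lit 0x194a6, nat_lit 0)]),
  (nat_lit 0x1194a6, [(nat_lit 0, nat_lit 0x1194a6, nat_lit 0), (nat_lit 6, nat_lit 0x1194a6, nat_lit 0x5296c), (nat_lit 1, nat_lit 0x1194a6, nat_lit 0)]),
  (nat_lit 0x422194a6, [(nat_lit 0, nat_lit 0x422194a6, nat_lit 0), (nat_lit 33, nat_lit 0x422194a6, nat_lit 0), (nat_lit 1, nat_lit 0x422194a6, nat_lit 0)]),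
  (nat_lit 0x42194a6, [(nat_lit 0, nat_lit 0x42194a6, nat_lit 0), (nat_lit 5, nat_lit 0x42194a6, nat_lit 0x4ad8c), (nat_lit 1, nat_lit 0x42194a6, nat_lit 0)]),
  (nat_lit 7, [(nat_lit 0, nat_lit 7, nat_lit 0), (nat_lit 0, nat_lit 232, nat_lit 0), (nat_lit 430, nat_lit 232, nat_lit 0)]),
  (nat_lit 39, [(nat_lit 0, nat_lit 39, nat_lit 0), (nat_lit 6, nat_lit 39, nat_lit 12), (nat_lit 198, nat_lit 39, nat_lit 396)]),
  (nat_lit 71, [(nat_lit 0, nat_lit 71, nat_lit 0), (nat_lit 165, nat_lit 71, nat_lit 12), (nat_lit 5, nat_lit 71, nat_lit 396)]),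
  (nat_lit 0x447, [(nat_lit 0, nat_lit 0x447, nat_lit 0), (nat_lit 6, nat_lit 0x447, nat_lit 12), (nat_lit 5, nat_lit 0x447, nat_lit 396)]),
  (nat_lit 0x8447, [(nat_lit 0, nat_lit 0x8447, nat_lit 0), (nat_lit 165, nat_lit 0x8447, nat_lit 12), (nat_lit 5, nat_lit 0x8447, nat_lit 396)]),
  (nat_lit 0x8867, [(nat_lit 0, nat_lit 0x8867, nat_lit 0), (nat_lit 6, nat_lit 0x8867, nat_lit 0x5296c), (nat_lit 5, nat_lit 0x8867, nat_lit 0x95ad8c)]),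
  (nat_lit 0x108867, [(nat_lit 0, nat_lit 0x108867, nat_lit 0), (nat_lit 165, nat_lit 0x108867, nat_lit 0x4a56c), (nat_lit 5, nat_lit 0x108867, nat_lit 0x95ad8c)]),
  (nat_lit 0x110867, [(nat_lit 0, nat_lit 0x110867, nat_lit 0), (nat_lit 5, nat_lit 0x110867, nat_lit 0x256c), (nat_lit 165, nat_lit 0x110867, nat_lit 0x1295ad8c)]),
  (nat_lit 0x110c67, [(nat_lit 0, nat_lit 0x110c67, nat_lit 0), (nat_lit 6, nat_lit 0x110c67, nat_lit 0x52d6c), (nat_lit 5, nat_lit 0x110c67, nat_lit 0x94ad8c)]),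
  (nat_lit 167, [(nat_lit 0, nat_lit 167, nat_lit 0), (nat_lit 2, nat_lit 167, nat_lit 332), (nat_lit 66, nat_lit 167, nat_lit 0x5298c)]),
  (nat_lit 0x8a7, [(nat_lit 0, nat_lit 0x8a7, nat_lit 0), (nat_lit 2, nat_lit 0x8a7, nat_lit 332), (nat_lit 5, nat_lit 0x8a7, nat_lit 396)]),
  (nat_lit 0x88a7, [(nat_lit 0, nat_lit 0x88a7, nat_lit 0), (nat_lit 2, nat_lit 0x88a7, nat_lit 332), (nat_lit 5, nat_lit 0x88a7, nat_lit 396)]),
  (nat_lit 0x1088a7, [(nat_lit 0, nat_lit 0x1088a7, nat_lit 0), (nat_lit 2, nat_lit 0x1088a7, nat_lit 332), (nat_lit 5, nat_lit 0x1088a7, nat_lit 396)]),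
  (nat_lit 0x10ca7, [(nat_lit 0, nat_lit 0x10ca7, nat_lit 0), (nat_lit 2, nat_lit 0x10ca7, nat_lit 332), (nat_lit 5, nat_lit 0x10ca7, nat_lit 0x95ad8c)]),
  (nat_lit 0x2210ca7, [(nat_lit 0, nat_lit 0x2210ca7, nat_lit 0), (nat_lit 2, nat_lit 0x2210ca7, nat_lit 332), (nat_lit 66, nat_lit 0x2210ca7, nat_lit 0x5298c)]),
  (nat_lit 0x14a7, [(nat_lit 0, nat_lit 0x14a7, nat_lit 0), (nat_lit 66, nat_lit 0x14a7, nat_lit 0x294c), (nat_lit 2, nat_lit 0x14a7, nat_lit 0x298c)]),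
  (nat_lit 0x114a7, [(nat_lit 0, nat_lit 0x114a7, nat_lit 0), (nat_lit 66, nat_lit 0x114a7, nat_lit 0x294c), (nat_lit 2, nat_lit 0x114a7, nat_lit 0x298c)]),
  (nat_lit 0x1114a7, [(nat_lit 0, nat_lit 0x1114a7, nat_lit 0), (nat_lit 6, nat_lit 0x1114a7, nat_lit 12), (nat_lit 2, nat_lit 0x1114a7, nat_lit 0x298c)]),
  (nat_lit 199, [(nat_lit 0, nat_lit 199, nat_lit 0), (nat_lit 33, nat_lit 199, nat_lit 0x252c), (nat_lit 1, nat_lit 199, nat_lit 0x258c)]),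
  (nat_lit 0x4c7, [(nat_lit 0, nat_lit 0x4c7, nat_lit 0), (nat_lit 6, nat_lit 0x4c7, nat_lit 12), (nat_lit 1, nat_lit 0x4c7, nat_lit 0x258c)]),
  (nat_lit 0x1088c7, [(nat_lit 0, nat_lit 0x1088c7, nat_lit 0), (nat_lit 33, nat_lit 0x1088c7, nat_lit 0x252c), (nat_lit 1, nat_lit 0x1088c7, nat_lit 0x258c)]),
  (nat_lit 0x108cc7, [(nat_lit 0, nat_lit 0x108cc7, nat_lit 0), (nat_lit 33, nat_lit 0x108cc7, nat_lit 0x252c), (nat_lit 1, nat_lit 0x108cc7, nat_lit 0x258c)]),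
  (nat_lit 0x14c7, [(nat_lit 0, nat_lit 0x14c7, nat_lit 0), (nat_lit 2, nat_lit 0x14c7, nat_lit 332), (nat_lit 1, nat_lit 0x14c7, nat_lit 0x258c)]),
  (nat_lit 0x294c7, [(nat_lit 0, nat_lit 0x294c7, nat_lit 0), (nat_lit 33, nat_lit 0x294c7, nat_lit 0x252c), (nat_lit 1, nat_lit 0x294c7, nat_lit 0x258c)]),
  (nat_lit 0x18c7, [(nat_lit 0, nat_lit 0x18c7, nat_lit 0), (nat_lit 1, nat_lit 0x18c7, nat_lit 300), (nat_lit 33, nat_lit 0x18c7, nat_lit 0x4a58c)]),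
  (nat_lit 0x98c7, [(nat_lit 0, nat_lit 0x98c7, nat_lit 0), (nat_lit 1, nat_lit 0x98c7, nat_lit 300), (nat_lit 33, nat_lit 0x98c7, nat_lit 0x4a58c)]),
  (nat_lit 0x298c7, [(nat_lit 0, nat_lit 0x298c7, nat_lit 0), (nat_lit 1, nat_lit 0x298c7, nat_lit 300), (nat_lit 33, nat_lit 0x298c7, nat_lit 0x4a58c)]),
  (nat_lit 0x298e7, [(nat_lit 0, nat_lit 0x298e7, nat_lit 0), (nat_lit 2, nat_lit 0x298e7, nat_lit 0x5298c), (nat_lit 1, nat_lit 0x298e7, nat_lit 0x252c)])]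
def c9 : List (ℕ × List (ℕ × ℕ × ℕ)) := [(nat_lit 0, [(nat_lit 0, nat_lit 0, nat_lit 0), (nat_lit 0, nat_lit 9, nat_lit 0), (nat_lit 13, nat_lit 9, nat_lit 0)]),
  (nat_lit 1, [(nat_lit 0, nat_lit 1, nat_lit 0), (nat_lit 7, nat_lit 1, nat_lit 0), (nat_lit 231, nat_lit 1, nat_lit 0)]),
  (nat_lit 2, [(nat_lit 0, nat_lit 2, nat_lit 0), (nat_lit 0, nat_lit 73, nat_lit 0), (nat_lit 13, nat_lit 73, nat_lit 0)]),
  (nat_lit 34, [(nat_lit 0, nat_lit 34, nat_lit 0), (nat_lit 7, nat_lit 34, nat_lit 0x294b), (nat_lit 231, nat_lit 34, nat_lit 0x296b)]),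
  (nat_lit 0x422, [(nat_lit 0, nat_lit 0x422, nat_lit 0), (nat_lit 231, nat_lit 0x422, nat_lit 331), (nat_lit 7, nat_lit 0x422, nat_lit 0x5296b)]),
  (nat_lit 3, [(nat_lit 0, nat_lit 3, nat_lit 0), (nat_lit 165, nat_lit 3, nat_lit 0), (nat_lit 5, nat_lit 3, nat_lit 0)]),
  (nat_lit 35, [(nat_lit 0, nat_lit 35, nat_lit 0), (nat_lit 7, nat_lit 35, nat_lit 0), (nat_lit 5, nat_lit 35, nat_lit 0)]),
  (nat_lit 0x423, [(nat_lit 0, nat_lit 0x423, nat_lit 0), (nat_lit 165, nat_lit 0x423, nat_lit 0), (nat_lit 5, nat_lit 0x423, nat_lit 0)]),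
  (nat_lit 67, [(nat_lit 0, nat_lit 67, nat_lit 0), (nat_lit 173, nat_lit 0x868, nat_lit 363), (nat_lit 5, nat_lit 0x868, nat_lit 363)]),
  (nat_lit 0x443, [(nat_lit 0, nat_lit 0x443, nat_lit 0), (nat_lit 7, nat_lit 0x443, nat_lit 0x294b), (nat_lit 166, nat_lit 0x443, nat_lit 330)]),
  (nat_lit 0x8443, [(nat_lit 0, nat_lit 0x8443, nat_lit 0), (nat_lit 231, nat_lit 0x8443, nat_lit 331), (nat_lit 7, nat_lit 0x8443, nat_lit 0x5296b)]),
  (nat_lit 0x843, [(nat_lit 0, nat_lit 0x843, nat_lit 0), (nat_lit 165, nat_lit 0x10868, nat_lit 363), (nat_lit 421, nat_lit 0x10868, nat_lit 363)]),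
  (nat_lit 0x8843, [(nat_lit 0, nat_lit 0x8843, nat_lit 0), (nat_lit 7, nat_lit 0x8843, nat_lit 0x296b), (nat_lit 231, nat_lit 0x8843, nat_lit 0x294b)]),
  (nat_lit 0x8863, [(nat_lit 0, nat_lit 0x8863, nat_lit 0), (nat_lit 7, nat_lit 0x8863, nat_lit 0x294b), (nat_lit 231, nat_lit 0x8863, nat_lit 0x296b)]),
  (nat_lit 4, [(nat_lit 0, nat_lit 4, nat_lit 0), (nat_lit 0, nat_lit 137, nat_lit 0), (nat_lit 0x463, nat_lit 0x10a7, nat_lit 0)]),
  (nat_lit 36, [(nat_lit 0, nat_lit 36, nat_lit 0), (nat_lit 7, nat_lit 36, nat_lit 0), (nat_lit 231, nat_lit 36, nat_lit 0)]),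
  (nat_lit 68, [(nat_lit 0, nat_lit 68, nat_lit 0), (nat_lit 0, nat_lit 0x889, nat_lit 0), (nat_lit 0x463, nat_lit 0x110a7, nat_lit 0)]),
  (nat_lit 0x444, [(nat_lit 0, nat_lit 0x444, nat_lit 0), (nat_lit 7, nat_lit 0x444, nat_lit 0xa52d8c), (nat_lit 231, nat_lit 0x444, nat_lit 0x52d6c)]),
  (nat_lit 0x8444, [(nat_lit 0, nat_lit 0x8444, nat_lit 0), (nat_lit 231, nat_lit 0x8444, nat_lit 0x52d8c), (nat_lit 7, nat_lit 0x8444, nat_lit 0xa52d6c)]),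
  (nat_lit 100, [(nat_lit 0, nat_lit 100, nat_lit 0), (nat_lit 165, nat_lit 100, nat_lit 0), (nat_lit 5, nat_lit 100, nat_lit 0)]),
  (nat_lit 0x464, [(nat_lit 0, nat_lit 0x464, nat_lit 0), (nat_lit 7, nat_lit 0x464, nat_lit 0), (nat_lit 5, nat_lit 0x464, nat_lit 0)]),
  (nat_lit 0x8464, [(nat_lit 0, nat_lit 0x8464, nat_lit 0), (nat_lit 165, nat_lit 0x8464, nat_lit 0), (nat_lit 5, nat_lit 0x8464, nat_lit 0)]),
  (nat_lit 0x864, [(nat_lit 0, nat_lit 0x864, nat_lit 0), (nat_lit 0, nat_lit 0x10c89, nat_lit 0), (nat_lit 5, nat_lit 0x10c88, nat_lit 0x2d6c)]),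
  (nat_lit 0x8864, [(nat_lit 0, nat_lit 0x8864, nat_lit 0), (nat_lit 7, nat_lit 0x8864, nat_lit 0xa52d8c), (nat_lit 166, nat_lit 0x8864, nat_lit 330)]),
  (nat_lit 0x108864, [(nat_lit 0, nat_lit 0x108864, nat_lit 0), (nat_lit 231, nat_lit 0x108864, nat_lit 0x52d8c), (nat_lit 7, nat_lit 0x108864, nat_lit 0xa52d6c)]),
  (nat_lit 0x10864, [(nat_lit 0, nat_lit 0x10864, nat_lit 0), (nat_lit 165, nat_lit 0x210c88, nat_lit 0x2d6c), (nat_lit 0x8845, nat_lit 0x42190a6, nat_lit 0x2d8c)]),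
  (nat_lit 0x110864, [(nat_lit 0, nat_lit 0x110864, nat_lit 0), (nat_lit 7, nat_lit 0x110864, nat_lit 0x52d6c), (nat_lit 231, nat_lit 0x110864, nat_lit 0xa52d8c)]),
  (nat_lit 0x110c64, [(nat_lit 0, nat_lit 0x110c64, nat_lit 0), (nat_lit 7, nat_lit 0x110c64, nat_lit 0xa52d8c), (nat_lit 231, nat_lit 0x110c64, nat_lit 0x52d6c)]),
  (nat_lit 5, [(nat_lit 0, nat_lit 5, nat_lit 0), (nat_lit 3, nat_lit 5, nat_lit 0), (nat_lit 99, nat_lit 5, nat_lit 0)]),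
  (nat_lit 69, [(nat_lit 0, nat_lit 69, nat_lit 0), (nat_lit 3, nat_lit 69, nat_lit 0), (nat_lit 99, nat_lit 69, nat_lit 0)]),
  (nat_lit 0x445, [(nat_lit 0, nat_lit 0x445, nat_lit 0), (nat_lit 3, nat_lit 0x445, nat_lit 0), (nat_lit 99, nat_lit 0x445, nat_lit 0)]),
  (nat_lit 0x8445, [(nat_lit 0, nat_lit 0x8445, nat_lit 0), (nat_lit 3, nat_lit 0x8445, nat_lit 0), (nat_lit 7, nat_lit 0x8445, nat_lit 0x14a5ad8c)]),
  (nat_lit 101, [(nat_lit 0, nat_lit 101, nat_lit 0), (nat_lit 3, nat_lit 101, nat_lit 0), (nat_lit 5, nat_lit 101, nat_lit 0)]),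
  (nat_lit 0x465, [(nat_lit 0, nat_lit 0x465, nat_lit 0), (nat_lit 3, nat_lit 0x465, nat_lit 0), (nat_lit 5, nat_lit 0x465, nat_lit 0)]),
  (nat_lit 0x8465, [(nat_lit 0, nat_lit 0x8465, nat_lit 0), (nat_lit 3, nat_lit 0x8465, nat_lit 0), (nat_lit 5, nat_lit 0x8465, nat_lit 0)]),
  (nat_lit 0x865, [(nat_lit 0, nat_lit 0x865, nat_lit 0), (nat_lit 3, nat_lit 0x865, nat_lit 0), (nat_lit 69, nat_lit 0x865, nat_lit 363)]),
  (nat_lit 0x8865, [(nat_lit 0, nat_lit 0x8865, nat_lit 0), (nat_lit 3, nat_lit 0x8865, nat_lit 0), (nat_lit 69, nat_lit 0x8865, nat_lit 363)]),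
  (nat_lit 0x108865, [(nat_lit 0, nat_lit 0x108865, nat_lit 0), (nat_lit 3, nat_lit 0x108865, nat_lit 0), (nat_lit 7, nat_lit 0x108865, nat_lit 0x14a5ad8c)]),
  (nat_lit 0x10865, [(nat_lit 0, nat_lit 0x10865, nat_lit 0), (nat_lit 3, nat_lit 0x10865, nat_lit 0), (nat_lit 99, nat_lit 0x10865, nat_lit 0)]),
  (nat_lit 0x110865, [(nat_lit 0, nat_lit 0x110865, nat_lit 0), (nat_lit 3, nat_lit 0x110865, nat_lit 0), (nat_lit 99, nat_lit 0x110865, nat_lit 0)]),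
  (nat_lit 0x110c65, [(nat_lit 0, nat_lit 0x110c65, nat_lit 0), (nat_lit 3, nat_lit 0x110c65, nat_lit 0), (nat_lit 99, nat_lit 0x110c65, nat_lit 0)]),
  (nat_lit 6, [(nat_lit 0, nat_lit 6, nat_lit 0), (nat_lit 0, nat_lit 201, nat_lit 0), (nat_lit 430, nat_lit 201, nat_lit 0)]),
  (nat_lit 38, [(nat_lit 0, nat_lit 38, nat_lit 0), (nat_lit 7, nat_lit 38, nat_lit 12), (nat_lit 231, nat_lit 38, nat_lit 396)]),
  (nat_lit 102, [(nat_lit 0, nat_lit 102, nat_lit 0), (nat_lit 165, nat_lit 102, nat_lit 12), (nat_lit 5, nat_lit 102, nat_lit 396)]),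
  (nat_lit 0x466, [(nat_lit 0, nat_lit 0x466, nat_lit 0), (nat_lit 7, nat_lit 0x466, nat_lit 12), (nat_lit 5, nat_lit 0x466, nat_lit 396)]),
  (nat_lit 0x8466, [(nat_lit 0, nat_lit 0x8466, nat_lit 0), (nat_lit 165, nat_lit 0x8466, nat_lit 12), (nat_lit 5, nat_lit 0x8466, nat_lit 396)]),
  (nat_lit 0x866, [(nat_lit 0, nat_lit 0x866, nat_lit 0), (nat_lit 0x4a5, nat_lit 0x866, nat_lit 364), (nat_lit 0x425, nat_lit 0x866, nat_lit 0x5ad8c)]),
  (nat_lit 0x8866, [(nat_lit 0, nat_lit 0x8866, nat_lit 0), (nat_lit 7, nat_lit 0x8866, nat_lit 0x5296c), (nat_lit 166, nat_lit 0x8866, nat_lit 0x5298c)]),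
  (nat_lit 0x108866, [(nat_lit 0, nat_lit 0x108866, nat_lit 0), (nat_lit 231, nat_lit 0x108866, nat_lit 0x296c), (nat_lit 7, nat_lit 0x108866, nat_lit 0x14a5ad8c)]),
  (nat_lit 0x10866, [(nat_lit 0, nat_lit 0x10866, nat_lit 0), (nat_lit 0x84a5, nat_lit 0x10866, nat_lit 0x2d6c), (nat_lit 37, nat_lit 0x10866, nat_lit 0x2d8c)]),
  (nat_lit 0x110866, [(nat_lit 0, nat_lit 0x110866, nat_lit 0), (nat_lit 7, nat_lit 0x110866, nat_lit 0x52d6c), (nat_lit 37, nat_lit 0x110866, nat_lit 0x2d8c)]),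
  (nat_lit 0x110c66, [(nat_lit 0, nat_lit 0x110c66, nat_lit 0), (nat_lit 7, nat_lit 0x110c66, nat_lit 0x5296c), (nat_lit 231, nat_lit 0x110c66, nat_lit 0xa5ad8c)]),
  (nat_lit 166, [(nat_lit 0, nat_lit 166, nat_lit 0), (nat_lit 3, nat_lit 166, nat_lit 332), (nat_lit 99, nat_lit 166, nat_lit 0x5298c)]),
  (nat_lit 0xca6, [(nat_lit 0, nat_lit 0xca6, nat_lit 0), (nat_lit 3, nat_lit 0xca6, nat_lit 332), (nat_lit 5, nat_lit 0xca6, nat_lit 396)]),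
  (nat_lit 0x8ca6, [(nat_lit 0, nat_lit 0x8ca6, nat_lit 0), (nat_lit 3, nat_lit 0x8ca6, nat_lit 332), (nat_lit 5, nat_lit 0x8ca6, nat_lit 396)]),
  (nat_lit 0x108ca6, [(nat_lit 0, nat_lit 0x108ca6, nat_lit 0), (nat_lit 3, nat_lit 0x108ca6, nat_lit 332), (nat_lit 5, nat_lit 0x108ca6, nat_lit 396)]),
  (nat_lit 0x10ca6, [(nat_lit 0, nat_lit 0x10ca6, nat_lit 0), (nat_lit 3, nat_lit 0x10ca6, nat_lit 332), (nat_lit 69, nat_lit 0x10ca6, nat_lit 0x5ad8c)]),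
  (nat_lit 0x110ca6, [(nat_lit 0, nat_lit 0x110ca6, nat_lit 0), (nat_lit 3, nat_lit 0x110ca6, nat_lit 332), (nat_lit 69, nat_lit 0x110ca6, nat_lit 0x5ad8c)]),
  (nat_lit 0x210ca6, [(nat_lit 0, nat_lit 0x210ca6, nat_lit 0), (nat_lit 3, nat_lit 0x210ca6, nat_lit 332), (nat_lit 37, nat_lit 0x210ca6, nat_lit 0x2d8c)]),
  (nat_lit 0x2218ca6, [(nat_lit 0, nat_lit 0x2218ca6, nat_lit 0), (nat_lit 3, nat_lit 0x2218ca6, nat_lit 332), (nat_lit 99, nat_lit 0x2218ca6, nat_lit 0x5298c)]),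
  (nat_lit 0x10a6, [(nat_lit 0, nat_lit 0x10a6, nat_lit 0), (nat_lit 0, nat_lit 0x214c9, nat_lit 0), (nat_lit 99, nat_lit 0x214c7, nat_lit 0x5298c)]),
  (nat_lit 0x190a6, [(nat_lit 0, nat_lit 0x190a6, nat_lit 0), (nat_lit 100, nat_lit 0x190a6, nat_lit 332), (nat_lit 5, nat_lit 0x190a6, nat_lit 396)]),
  (nat_lit 0x14a6, [(nat_lit 0, nat_lit 0x14a6, nat_lit 0), (nat_lit 99, nat_lit 0x14a6, nat_lit 0x294c), (nat_lit 3, nat_lit 0x14a6, nat_lit 0x298c)]),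
  (nat_lit 0x194a6, [(nat_lit 0, nat_lit 0x194a6, nat_lit 0), (nat_lit 99, nat_lit 0x194a6, nat_lit 0x294c), (nat_lit 3, nat_lit 0x194a6, nat_lit 0x298c)]),
  (nat_lit 0x1194a6, [(nat_lit 0, nat_lit 0x1194a6, nat_lit 0), (nat_lit 7, nat_lit 0x1194a6, nat_lit 12), (nat_lit 3, nat_lit 0x1194a6, nat_lit 0x298c)]),
  (nat_lit 0x422194a6, [(nat_lit 0, nat_lit 0x422194a6, nat_lit 0), (nat_lit 99, nat_lit 0x422194a6, nat_lit 0x294c), (nat_lit 3, nat_lit 0x422194a6, nat_lit 0x298c)]),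
  (nat_lit 0x42194a6, [(nat_lit 0, nat_lit 0x42194a6, nat_lit 0), (nat_lit 99, nat_lit 0x42194a6, nat_lit 0x294c), (nat_lit 3, nat_lit 0x42194a6, nat_lit 0x298c)]),
  (nat_lit 7, [(nat_lit 0, nat_lit 7, nat_lit 0), (nat_lit 33, nat_lit 7, nat_lit 0), (nat_lit 1, nat_lit 7, nat_lit 0)]),
  (nat_lit 39, [(nat_lit 0, nat_lit 39, nat_lit 0), (nat_lit 7, nat_lit 39, nat_lit 0), (nat_lit 1, nat_lit 39, nat_lit 0)]),
  (nat_lit 71, [(nat_lit 0, nat_lit 71, nat_lit 0), (nat_lit 33, nat_lit 71, nat_lit 0), (nat_lit 1, nat_lit 71, nat_lit 0)]),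
  (nat_lit 0x447, [(nat_lit 0, nat_lit 0x447, nat_lit 0), (nat_lit 7, nat_lit 0x447, nat_lit 0x294b), (nat_lit 1, nat_lit 0x447, nat_lit 0)]),
  (nat_lit 0x8447, [(nat_lit 0, nat_lit 0x8447, nat_lit 0), (nat_lit 33, nat_lit 0x8447, nat_lit 0), (nat_lit 1, nat_lit 0x8447, nat_lit 0)]),
  (nat_lit 0x8867, [(nat_lit 0, nat_lit 0x8867, nat_lit 0), (nat_lit 7, nat_lit 0x8867, nat_lit 0x294b), (nat_lit 1, nat_lit 0x8867, nat_lit 0)]),
  (nat_lit 0x108867, [(nat_lit 0, nat_lit 0x108867, nat_lit 0), (nat_lit 33, nat_lit 0x108867, nat_lit 0), (nat_lit 1, nat_lit 0x108867, nat_lit 0)]),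
  (nat_lit 0x110867, [(nat_lit 0, nat_lit 0x110867, nat_lit 0), (nat_lit 7, nat_lit 0x110867, nat_lit 0x296b), (nat_lit 1, nat_lit 0x110867, nat_lit 0)]),
  (nat_lit 0x110c67, [(nat_lit 0, nat_lit 0x110c67, nat_lit 0), (nat_lit 7, nat_lit 0x110c67, nat_lit 0x294b), (nat_lit 1, nat_lit 0x110c67, nat_lit 0)]),
  (nat_lit 167, [(nat_lit 0, nat_lit 167, nat_lit 0), (nat_lit 3, nat_lit 167, nat_lit 0), (nat_lit 1, nat_lit 167, nat_lit 0)]),
  (nat_lit 0x8a7, [(nat_lit 0, nat_lit 0x8a7, nat_lit 0), (nat_lit 3, nat_lit 0x8a7, nat_lit 0), (nat_lit 1, nat_lit 0x8a7, nat_lit 0)]),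
  (nat_lit 0x88a7, [(nat_lit 0, nat_lit 0x88a7, nat_lit 0), (nat_lit 3, nat_lit 0x88a7, nat_lit 0), (nat_lit 1, nat_lit 0x88a7, nat_lit 0)]),
  (nat_lit 0x1088a7, [(nat_lit 0, nat_lit 0x1088a7, nat_lit 0), (nat_lit 3, nat_lit 0x1088a7, nat_lit 0), (nat_lit 1, nat_lit 0x1088a7, nat_lit 0)]),
  (nat_lit 0x10ca7, [(nat_lit 0, nat_lit 0x10ca7, nat_lit 0), (nat_lit 3, nat_lit 0x10ca7, nat_lit 0), (nat_lit 1, nat_lit 0x10ca7, nat_lit 0)]),
  (nat_lit 0x2210ca7, [(nat_lit 0, nat_lit 0x2210ca7, nat_lit 0), (nat_lit 3, nat_lit 0x2210ca7, nat_lit 0), (nat_lit 1, nat_lit 0x2210ca7, nat_lit 0)]),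
  (nat_lit 0x14a7, [(nat_lit 0, nat_lit 0x14a7, nat_lit 0), (nat_lit 33, nat_lit 0x14a7, nat_lit 0), (nat_lit 1, nat_lit 0x14a7, nat_lit 0)]),
  (nat_lit 0x114a7, [(nat_lit 0, nat_lit 0x114a7, nat_lit 0), (nat_lit 33, nat_lit 0x114a7, nat_lit 0), (nat_lit 1, nat_lit 0x114a7, nat_lit 0)]),
  (nat_lit 0x1114a7, [(nat_lit 0, nat_lit 0x1114a7, nat_lit 0), (nat_lit 7, nat_lit 0x1114a7, nat_lit 0x5296c), (nat_lit 1, nat_lit 0x1114a7, nat_lit 0)]),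
  (nat_lit 199, [(nat_lit 0, nat_lit 199, nat_lit 0), (nat_lit 0x5ae, nat_lit 0x18e8, nat_lit 396), (nat_lit 1, nat_lit 0x18e8, nat_lit 396)]),
  (nat_lit 0x4c7, [(nat_lit 0, nat_lit 0x4c7, nat_lit 0), (nat_lit 7, nat_lit 0x4c7, nat_lit 12), (nat_lit 38, nat_lit 0x4c7, nat_lit 396)]),
  (nat_lit 0x1088c7, [(nat_lit 0, nat_lit 0x1088c7, nat_lit 0), (nat_lit 231, nat_lit 0x1088c7, nat_lit 0x296c), (nat_lit 7, nat_lit 0x1088c7, nat_lit 0x14a5ad8c)]),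
  (nat_lit 0x108cc7, [(nat_lit 0, nat_lit 0x108cc7, nat_lit 0), (nat_lit 165, nat_lit 0x108cc7, nat_lit 12), (nat_lit 5, nat_lit 0x108cc7, nat_lit 396)]),
  (nat_lit 0x14c7, [(nat_lit 0, nat_lit 0x14c7, nat_lit 0), (nat_lit 3, nat_lit 0x14c7, nat_lit 332), (nat_lit 34, nat_lit 0x14c7, nat_lit 10)]),
  (nat_lit 0x294c7, [(nat_lit 0, nat_lit 0x294c7, nat_lit 0), (nat_lit 99, nat_lit 0x294c7, nat_lit 0x294c), (nat_lit 3, nat_lit 0x294c7, nat_lit 0x298c)]),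
  (nat_lit 0x18c7, [(nat_lit 0, nat_lit 0x18c7, nat_lit 0), (nat_lit 33, nat_lit 0x318e8, nat_lit 396), (nat_lit 0x35c1, nat_lit 0x318e8, nat_lit 396)]),
  (nat_lit 0x98c7, [(nat_lit 0, nat_lit 0x98c7, nat_lit 0), (nat_lit 7, nat_lit 0x98c7, nat_lit 396), (nat_lit 231, nat_lit 0x98c7, nat_lit 12)]),
  (nat_lit 0x298c7, [(nat_lit 0, nat_lit 0x298c7, nat_lit 0), (nat_lit 3, nat_lit 0x298c7, nat_lit 0x5298c), (nat_lit 99, nat_lit 0x298c7, nat_lit 332)]),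
  (nat_lit 0x298e7, [(nat_lit 0, nat_lit 0x298e7, nat_lit 0), (nat_lit 3, nat_lit 0x298e7, nat_lit 332), (nat_lit 99, nat_lit 0x298e7, nat_lit 0x5298c)]),
  (nat_lit 8, [(nat_lit 0, nat_lit 8, nat_lit 0), (nat_lit 0, nat_lit 265, nat_lit 0), (nat_lit 13, nat_lit 0x2109, nat_lit 0)]),
  (nat_lit 104, [(nat_lit 0, nat_lit 104, nat_lit 0), (nat_lit 165, nat_lit 104, nat_lit 0), (nat_lit 5, nat_lit 104, nat_lit 0)]),
  (nat_lit 136, [(nat_lit 0, nat_lit 136, nat_lit 0), (nat_lit 0, nat_lit 0x1109, nat_lit 0), (nat_lit 0x463, nat_lit 0x214e8, nat_lit 363)]),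
  (nat_lit 0xc88, [(nat_lit 0, nat_lit 0xc88, nat_lit 0), (nat_lit 165, nat_lit 0xc88, nat_lit 0), (nat_lit 5, nat_lit 0xc88, nat_lit 0)]),
  (nat_lit 232, [(nat_lit 0, nat_lit 232, nat_lit 0), (nat_lit 33, nat_lit 232, nat_lit 0), (nat_lit 1, nat_lit 232, nat_lit 0)])]
def c10 : List (ℕ × List (ℕ × ℕ × ℕ)) := [(nat_lit 0, [(nat_lit 0, nat_lit 0, nat_lit 0), (nat_lit 0, nat_lit 10, nat_lit 0), (nat_lit 13, nat_lit 10, nat_lit 0)]),
  (nat_lit 1, [(nat_lit 0, nat_lit 1, nat_lit 0), (nat_lit 0, nat_lit 42, nat_lit 0), (nat_lit 13, nat_lit 42, nat_lit 0)]),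
  (nat_lit 2, [(nat_lit 0, nat_lit 2, nat_lit 0), (nat_lit 7, nat_lit 2, nat_lit 0), (nat_lit 231, nat_lit 2, nat_lit 0)]),
  (nat_lit 34, [(nat_lit 0, nat_lit 34, nat_lit 0), (nat_lit 423, nat_lit 0x449, nat_lit 363), (nat_lit 231, nat_lit 0x449, nat_lit 363)]),
  (nat_lit 0x422, [(nat_lit 0, nat_lit 0x422, nat_lit 0), (nat_lit 7, nat_lit 0x8449, nat_lit 363), (nat_lit 237, nat_lit 0x8449, nat_lit 363)]),
  (nat_lit 3, [(nat_lit 0, nat_lit 3, nat_lit 0), (nat_lit 6, nat_lit 3, nat_lit 0), (nat_lit 198, nat_lit 3, nat_lit 0)]),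
  (nat_lit 35, [(nat_lit 0, nat_lit 35, nat_lit 0), (nat_lit 422, nat_lit 0x468, nat_lit 363), (nat_lit 198, nat_lit 0x468, nat_lit 363)]),
  (nat_lit 0x423, [(nat_lit 0, nat_lit 0x423, nat_lit 0), (nat_lit 6, nat_lit 0x8468, nat_lit 363), (nat_lit 205, nat_lit 0x8468, nat_lit 363)]),
  (nat_lit 67, [(nat_lit 0, nat_lit 67, nat_lit 0), (nat_lit 6, nat_lit 67, nat_lit 0), (nat_lit 198, nat_lit 67, nat_lit 0)]),
  (nat_lit 0x443, [(nat_lit 0, nat_lit 0x443, nat_lit 0), (nat_lit 0x298ed, nat_lit 0x443, nat_lit 0x2d8c), (nat_lit 0x14c7, nat_lit 0x443, nat_lit 0x2d8c)]),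
  (nat_lit 0x8443, [(nat_lit 0, nat_lit 0x8443, nat_lit 0), (nat_lit 0x31da5, nat_lit 0x8443, nat_lit 0x2d6c), (nat_lit 0x294c7, nat_lit 0x8443, nat_lit 0x2d6c)]),
  (nat_lit 0x843, [(nat_lit 0, nat_lit 0x843, nat_lit 0), (nat_lit 6, nat_lit 0x843, nat_lit 0), (nat_lit 7, nat_lit 0x843, nat_lit 0)]),
  (nat_lit 0x8843, [(nat_lit 0, nat_lit 0x8843, nat_lit 0), (nat_lit 0x298c7, nat_lit 0x8843, nat_lit 0x2d6c), (nat_lit 0x29da6, nat_lit 0x8843, nat_lit 0x2d6c)]),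
  (nat_lit 0x8863, [(nat_lit 0, nat_lit 0x8863, nat_lit 0), (nat_lit 0x298e7, nat_lit 0x8863, nat_lit 0x2d6c), (nat_lit 0x299a7, nat_lit 0x8863, nat_lit 0x2d6c)]),
  (nat_lit 4, [(nat_lit 0, nat_lit 4, nat_lit 0), (nat_lit 0, nat_lit 138, nat_lit 0), (nat_lit 13, nat_lit 0x108a, nat_lit 0)]),
  (nat_lit 36, [(nat_lit 0, nat_lit 36, nat_lit 0), (nat_lit 0, nat_lit 0x48a, nat_lit 0), (nat_lit 13, nat_lit 0x908a, nat_lit 0)]),
  (nat_lit 68, [(nat_lit 0, nat_lit 68, nat_lit 0), (nat_lit 7, nat_lit 68, nat_lit 0), (nat_lit 231, nat_lit 68, nat_lit 0)]),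
  (nat_lit 0x444, [(nat_lit 0, nat_lit 0x444, nat_lit 0), (nat_lit 0, nat_lit 0x888a, nat_lit 0), (nat_lit 231, nat_lit 0x8889, nat_lit 0x2d6c)]),
  (nat_lit 0x8444, [(nat_lit 0, nat_lit 0x8444, nat_lit 0), (nat_lit 7, nat_lit 0x108889, nat_lit 0x2d6c), (nat_lit 0x11063, nat_lit 0x21110a7, nat_lit 0)]),
  (nat_lit 100, [(nat_lit 0, nat_lit 100, nat_lit 0), (nat_lit 6, nat_lit 100, nat_lit 0), (nat_lit 198, nat_lit 100, nat_lit 0)]),
  (nat_lit 0x464, [(nat_lit 0, nat_lit 0x464, nat_lit 0), (nat_lit 0, nat_lit 0x8c8a, nat_lit 0), (nat_lit 198, nat_lit 0x8c88, nat_lit 0x2d6c)]),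
  (nat_lit 0x8464, [(nat_lit 0, nat_lit 0x8464, nat_lit 0), (nat_lit 6, nat_lit 0x108c88, nat_lit 0x2d6c), (nat_lit 0x19042, nat_lit 0x21190a6, nat_lit 0)]),
  (nat_lit 0x864, [(nat_lit 0, nat_lit 0x864, nat_lit 0), (nat_lit 6, nat_lit 0x864, nat_lit 0), (nat_lit 198, nat_lit 0x864, nat_lit 0)]),
  (nat_lit 0x8864, [(nat_lit 0, nat_lit 0x8864, nat_lit 0), (nat_lit 0xd298ed, nat_lit 0x8864, nat_lit 363), (nat_lit 0x14c7, nat_lit 0x8864, nat_lit 364)]),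
  (nat_lit 0x108864, [(nat_lit 0, nat_lit 0x108864, nat_lit 0), (nat_lit 0x5318e7, nat_lit 0x108864, nat_lit 11), (nat_lit 0x294c7, nat_lit 0x108864, nat_lit 0x5ad8c)]),
  (nat_lit 0x10864, [(nat_lit 0, nat_lit 0x10864, nat_lit 0), (nat_lit 6, nat_lit 0x10864, nat_lit 0), (nat_lit 7, nat_lit 0x10864, nat_lit 0)]),
  (nat_lit 0x110864, [(nat_lit 0, nat_lit 0x110864, nat_lit 0), (nat_lit 0x298c7, nat_lit 0x110864, nat_lit 0x5ad8c), (nat_lit 0x5298e7, nat_lit 0x110864, nat_lit 11)]),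
  (nat_lit 0x110c64, [(nat_lit 0, nat_lit 0x110c64, nat_lit 0), (nat_lit 0x298e7, nat_lit 0x110c64, nat_lit 0x5ad8c), (nat_lit 0x5298c7, nat_lit 0x110c64, nat_lit 11)]),
  (nat_lit 5, [(nat_lit 0, nat_lit 5, nat_lit 0), (nat_lit 0, nat_lit 170, nat_lit 0), (nat_lit 430, nat_lit 170, nat_lit 0)]),
  (nat_lit 69, [(nat_lit 0, nat_lit 69, nat_lit 0), (nat_lit 7, nat_lit 69, nat_lit 396), (nat_lit 231, nat_lit 69, nat_lit 12)]),
  (nat_lit 0x445, [(nat_lit 0, nat_lit 0x445, nat_lit 0), (nat_lit 0xc67, nat_lit 0x445, nat_lit 0x2d8c), (nat_lit 0xce7, nat_lit 0x445, nat_lit 0x2d6c)]),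
  (nat_lit 0x8445, [(nat_lit 0, nat_lit 0x8445, nat_lit 0), (nat_lit 103, nat_lit 0x8445, nat_lit 0x5ad8c), (nat_lit 0x18ce7, nat_lit 0x8445, nat_lit 364)]),
  (nat_lit 101, [(nat_lit 0, nat_lit 101, nat_lit 0), (nat_lit 6, nat_lit 101, nat_lit 396), (nat_lit 198, nat_lit 101, nat_lit 12)]),
  (nat_lit 0x465, [(nat_lit 0, nat_lit 0x465, nat_lit 0), (nat_lit 0x846, nat_lit 0x465, nat_lit 0x2d8c), (nat_lit 0x8c6, nat_lit 0x465, nat_lit 0x2d6c)]),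
  (nat_lit 0x8465, [(nat_lit 0, nat_lit 0x8465, nat_lit 0), (nat_lit 70, nat_lit 0x8465, nat_lit 0x5ad8c), (nat_lit 0x108c6, nat_lit 0x8465, nat_lit 364)]),
  (nat_lit 0x865, [(nat_lit 0, nat_lit 0x865, nat_lit 0), (nat_lit 6, nat_lit 0x865, nat_lit 396), (nat_lit 198, nat_lit 0x865, nat_lit 12)]),
  (nat_lit 0x8865, [(nat_lit 0, nat_lit 0x8865, nat_lit 0), (nat_lit 0x846, nat_lit 0x8865, nat_lit 0x2d8c), (nat_lit 0x8c6, nat_lit 0x8865, nat_lit 0x2d6c)]),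
  (nat_lit 0x108865, [(nat_lit 0, nat_lit 0x108865, nat_lit 0), (nat_lit 70, nat_lit 0x108865, nat_lit 0x5ad8c), (nat_lit 0x108c6, nat_lit 0x108865, nat_lit 364)]),
  (nat_lit 0x10865, [(nat_lit 0, nat_lit 0x10865, nat_lit 0), (nat_lit 6, nat_lit 0x10865, nat_lit 396), (nat_lit 7, nat_lit 0x10865, nat_lit 12)]),
  (nat_lit 0x110865, [(nat_lit 0, nat_lit 0x110865, nat_lit 0), (nat_lit 0x846, nat_lit 0x110865, nat_lit 0x2d8c), (nat_lit 0x8c6, nat_lit 0x110865, nat_lit 0x2d6c)]),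
  (nat_lit 0x110c65, [(nat_lit 0, nat_lit 0x110c65, nat_lit 0), (nat_lit 0x8c6, nat_lit 0x110c65, nat_lit 0x2d8c), (nat_lit 0x846, nat_lit 0x110c65, nat_lit 0x2d6c)]),
  (nat_lit 6, [(nat_lit 0, nat_lit 6, nat_lit 0), (nat_lit 99, nat_lit 6, nat_lit 0), (nat_lit 3, nat_lit 6, nat_lit 0)]),
  (nat_lit 38, [(nat_lit 0, nat_lit 38, nat_lit 0), (nat_lit 99, nat_lit 38, nat_lit 0), (nat_lit 3, nat_lit 38, nat_lit 0)]),
  (nat_lit 102, [(nat_lit 0, nat_lit 102, nat_lit 0), (nat_lit 6, nat_lit 102, nat_lit 0), (nat_lit 3, nat_lit 102, nat_lit 0)]),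
  (nat_lit 0x466, [(nat_lit 0, nat_lit 0x466, nat_lit 0), (nat_lit 38, nat_lit 0x466, nat_lit 11), (nat_lit 3, nat_lit 0x466, nat_lit 0)]),
  (nat_lit 0x8466, [(nat_lit 0, nat_lit 0x8466, nat_lit 0), (nat_lit 99, nat_lit 0x8466, nat_lit 0), (nat_lit 3, nat_lit 0x8466, nat_lit 0)]),
  (nat_lit 0x866, [(nat_lit 0, nat_lit 0x866, nat_lit 0), (nat_lit 6, nat_lit 0x866, nat_lit 0), (nat_lit 3, nat_lit 0x866, nat_lit 0)]),
  (nat_lit 0x8866, [(nat_lit 0, nat_lit 0x8866, nat_lit 0), (nat_lit 38, nat_lit 0x8866, nat_lit 11), (nat_lit 3, nat_lit 0x8866, nat_lit 0)]),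
  (nat_lit 0x108866, [(nat_lit 0, nat_lit 0x108866, nat_lit 0), (nat_lit 99, nat_lit 0x108866, nat_lit 0), (nat_lit 3, nat_lit 0x108866, nat_lit 0)]),
  (nat_lit 0x10866, [(nat_lit 0, nat_lit 0x10866, nat_lit 0), (nat_lit 6, nat_lit 0x10866, nat_lit 0), (nat_lit 3, nat_lit 0x10866, nat_lit 0)]),
  (nat_lit 0x110866, [(nat_lit 0, nat_lit 0x110866, nat_lit 0), (nat_lit 38, nat_lit 0x110866, nat_lit 11), (nat_lit 3, nat_lit 0x110866, nat_lit 0)]),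
  (nat_lit 0x110c66, [(nat_lit 0, nat_lit 0x110c66, nat_lit 0), (nat_lit 99, nat_lit 0x110c66, nat_lit 0), (nat_lit 3, nat_lit 0x110c66, nat_lit 0)]),
  (nat_lit 166, [(nat_lit 0, nat_lit 166, nat_lit 0), (nat_lit 99, nat_lit 0x14c9, nat_lit 396), (nat_lit 0x35c3, nat_lit 0x14c9, nat_lit 396)]),
  (nat_lit 0xca6, [(nat_lit 0, nat_lit 0xca6, nat_lit 0), (nat_lit 6, nat_lit 0xca6, nat_lit 396), (nat_lit 101, nat_lit 0xca6, nat_lit 12)]),
  (nat_lit 0x8ca6, [(nat_lit 0, nat_lit 0x8ca6, nat_lit 0), (nat_lit 38, nat_lit 0x8ca6, nat_lit 0x2d8c), (nat_lit 101, nat_lit 0x8ca6, nat_lit 12)]),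
  (nat_lit 0x108ca6, [(nat_lit 0, nat_lit 0x108ca6, nat_lit 0), (nat_lit 70, nat_lit 0x108ca6, nat_lit 0x5ad8c), (nat_lit 101, nat_lit 0x108ca6, nat_lit 12)]),
  (nat_lit 0x10ca6, [(nat_lit 0, nat_lit 0x10ca6, nat_lit 0), (nat_lit 6, nat_lit 0x10ca6, nat_lit 396), (nat_lit 198, nat_lit 0x10ca6, nat_lit 12)]),
  (nat_lit 0x110ca6, [(nat_lit 0, nat_lit 0x110ca6, nat_lit 0), (nat_lit 38, nat_lit 0x110ca6, nat_lit 0x2d8c), (nat_lit 0x865, nat_lit 0x110ca6, nat_lit 12)]),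
  (nat_lit 0x210ca6, [(nat_lit 0, nat_lit 0x210ca6, nat_lit 0), (nat_lit 6, nat_lit 0x210ca6, nat_lit 396), (nat_lit 7, nat_lit 0x210ca6, nat_lit 12)]),
  (nat_lit 0x2218ca6, [(nat_lit 0, nat_lit 0x2218ca6, nat_lit 0), (nat_lit 0x8c6, nat_lit 0x2218ca6, nat_lit 0x2d8c), (nat_lit 38, nat_lit 0x2218ca6, nat_lit 0x2d6c)]),
  (nat_lit 0x10a6, [(nat_lit 0, nat_lit 0x10a6, nat_lit 0), (nat_lit 0, nat_lit 0x214ca, nat_lit 0), (nat_lit 0x844d, nat_lit 0x2110a, nat_lit 363)]),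
  (nat_lit 0x190a6, [(nat_lit 0, nat_lit 0x190a6, nat_lit 0), (nat_lit 6, nat_lit 0x190a6, nat_lit 396), (nat_lit 198, nat_lit 0x190a6, nat_lit 12)]),
  (nat_lit 0x42190a6, [(nat_lit 0, nat_lit 0x42190a6, nat_lit 0), (nat_lit 6, nat_lit 0x42190a6, nat_lit 396), (nat_lit 7, nat_lit 0x42190a6, nat_lit 12)]),
  (nat_lit 0x14a6, [(nat_lit 0, nat_lit 0x14a6, nat_lit 0), (nat_lit 0xdae, nat_lit 0x294c9, nat_lit 396), (nat_lit 3, nat_lit 0x294c9, nat_lit 396)]),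
  (nat_lit 0x194a6, [(nat_lit 0, nat_lit 0x194a6, nat_lit 0), (nat_lit 6, nat_lit 0x194a6, nat_lit 12), (nat_lit 198, nat_lit 0x194a6, nat_lit 396)]),
  (nat_lit 0x1194a6, [(nat_lit 0, nat_lit 0x1194a6, nat_lit 0), (nat_lit 38, nat_lit 0x1194a6, nat_lit 364), (nat_lit 103, nat_lit 0x1194a6, nat_lit 0)]),
  (nat_lit 0x422194a6, [(nat_lit 0, nat_lit 0x422194a6, nat_lit 0), (nat_lit 0x426, nat_lit 0x422194a6, nat_lit 0x2d6c), (nat_lit 0x4c6, nat_lit 0x422194a6, nat_lit 0x2d8c)]),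
  (nat_lit 0x42194a6, [(nat_lit 0, nat_lit 0x42194a6, nat_lit 0), (nat_lit 6, nat_lit 0x42194a6, nat_lit 12), (nat_lit 7, nat_lit 0x42194a6, nat_lit 396)]),
  (nat_lit 7, [(nat_lit 0, nat_lit 7, nat_lit 0), (nat_lit 66, nat_lit 7, nat_lit 0), (nat_lit 2, nat_lit 7, nat_lit 0)]),
  (nat_lit 39, [(nat_lit 0, nat_lit 39, nat_lit 0), (nat_lit 66, nat_lit 39, nat_lit 0), (nat_lit 2, nat_lit 39, nat_lit 0)]),
  (nat_lit 71, [(nat_lit 0, nat_lit 71, nat_lit 0), (nat_lit 7, nat_lit 71, nat_lit 0), (nat_lit 2, nat_lit 71, nat_lit 0)]),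
  (nat_lit 0x447, [(nat_lit 0, nat_lit 0x447, nat_lit 0), (nat_lit 39, nat_lit 0x447, nat_lit 11), (nat_lit 2, nat_lit 0x447, nat_lit 0)]),
  (nat_lit 0x8447, [(nat_lit 0, nat_lit 0x8447, nat_lit 0), (nat_lit 66, nat_lit 0x8447, nat_lit 0), (nat_lit 2, nat_lit 0x8447, nat_lit 0)]),
  (nat_lit 0x8867, [(nat_lit 0, nat_lit 0x8867, nat_lit 0), (nat_lit 39, nat_lit 0x8867, nat_lit 11), (nat_lit 2, nat_lit 0x8867, nat_lit 0)]),
  (nat_lit 0x108867, [(nat_lit 0, nat_lit 0x108867, nat_lit 0), (nat_lit 66, nat_lit 0x108867, nat_lit 0), (nat_lit 2, nat_lit 0x108867, nat_lit 0)]),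
  (nat_lit 0x110867, [(nat_lit 0, nat_lit 0x110867, nat_lit 0), (nat_lit 66, nat_lit 0x110867, nat_lit 0), (nat_lit 2, nat_lit 0x110867, nat_lit 0)]),
  (nat_lit 0x110c67, [(nat_lit 0, nat_lit 0x110c67, nat_lit 0), (nat_lit 39, nat_lit 0x110c67, nat_lit 11), (nat_lit 2, nat_lit 0x110c67, nat_lit 0)]),
  (nat_lit 167, [(nat_lit 0, nat_lit 167, nat_lit 0), (nat_lit 66, nat_lit 0x14e8, nat_lit 396), (nat_lit 0x35c2, nat_lit 0x14e8, nat_lit 396)]),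
  (nat_lit 0x8a7, [(nat_lit 0, nat_lit 0x8a7, nat_lit 0), (nat_lit 7, nat_lit 0x8a7, nat_lit 396), (nat_lit 69, nat_lit 0x8a7, nat_lit 12)]),
  (nat_lit 0x88a7, [(nat_lit 0, nat_lit 0x88a7, nat_lit 0), (nat_lit 39, nat_lit 0x88a7, nat_lit 0x2d8c), (nat_lit 69, nat_lit 0x88a7, nat_lit 12)]),
  (nat_lit 0x1088a7, [(nat_lit 0, nat_lit 0x1088a7, nat_lit 0), (nat_lit 103, nat_lit 0x1088a7, nat_lit 0x5ad8c), (nat_lit 69, nat_lit 0x1088a7, nat_lit 12)]),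
  (nat_lit 0x10ca7, [(nat_lit 0, nat_lit 0x10ca7, nat_lit 0), (nat_lit 6, nat_lit 0x10ca7, nat_lit 396), (nat_lit 198, nat_lit 0x10ca7, nat_lit 12)]),
  (nat_lit 0x2210ca7, [(nat_lit 0, nat_lit 0x2210ca7, nat_lit 0), (nat_lit 0x8c6, nat_lit 0x2210ca7, nat_lit 0x2d6c), (nat_lit 39, nat_lit 0x2210ca7, nat_lit 0x2d6c)]),
  (nat_lit 0x10a7, [(nat_lit 0, nat_lit 0x10a7, nat_lit 0), (nat_lit 0, nat_lit 0x214ea, nat_lit 0), (nat_lit 0x846d, nat_lit 0x2112a, nat_lit 363)]),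
  (nat_lit 0x110a7, [(nat_lit 0, nat_lit 0x110a7, nat_lit 0), (nat_lit 7, nat_lit 0x110a7, nat_lit 396), (nat_lit 231, nat_lit 0x110a7, nat_lit 12)]),
  (nat_lit 0x14a7, [(nat_lit 0, nat_lit 0x14a7, nat_lit 0), (nat_lit 0x9ae, nat_lit 0x294e8, nat_lit 396), (nat_lit 2, nat_lit 0x294e8, nat_lit 396)]),
  (nat_lit 0x114a7, [(nat_lit 0, nat_lit 0x114a7, nat_lit 0), (nat_lit 7, nat_lit 0x114a7, nat_lit 12), (nat_lit 231, nat_lit 0x114a7, nat_lit 396)]),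
  (nat_lit 0x1114a7, [(nat_lit 0, nat_lit 0x1114a7, nat_lit 0), (nat_lit 39, nat_lit 0x1114a7, nat_lit 364), (nat_lit 70, nat_lit 0x1114a7, nat_lit 0)]),
  (nat_lit 199, [(nat_lit 0, nat_lit 199, nat_lit 0), (nat_lit 66, nat_lit 199, nat_lit 0), (nat_lit 2, nat_lit 199, nat_lit 0)]),
  (nat_lit 0x4c7, [(nat_lit 0, nat_lit 0x4c7, nat_lit 0), (nat_lit 66, nat_lit 0x4c7, nat_lit 0), (nat_lit 2, nat_lit 0x4c7, nat_lit 0)]),
  (nat_lit 0x1088c7, [(nat_lit 0, nat_lit 0x1088c7, nat_lit 0), (nat_lit 66, nat_lit 0x1088c7, nat_lit 0), (nat_lit 2, nat_lit 0x1088c7, nat_lit 0)]),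
  (nat_lit 0x108cc7, [(nat_lit 0, nat_lit 0x108cc7, nat_lit 0), (nat_lit 66, nat_lit 0x108cc7, nat_lit 0), (nat_lit 2, nat_lit 0x108cc7, nat_lit 0)]),
  (nat_lit 0x14c7, [(nat_lit 0, nat_lit 0x14c7, nat_lit 0), (nat_lit 0x443, nat_lit 0x14c7, nat_lit 0x2d6c), (nat_lit 0x110dae, nat_lit 0x14c7, nat_lit 0x2d6c)]),
  (nat_lit 0x214c7, [(nat_lit 0, nat_lit 0x214c7, nat_lit 0), (nat_lit 0, nat_lit 0x4298ea, nat_lit 0), (nat_lit 0x10886d, nat_lit 0x21109, nat_lit 364)]),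
  (nat_lit 0x294c7, [(nat_lit 0, nat_lit 0x294c7, nat_lit 0), (nat_lit 0x8443, nat_lit 0x294c7, nat_lit 0x2d8c), (nat_lit 0x110863, nat_lit 0x294c7, nat_lit 364)]),
  (nat_lit 0x18c7, [(nat_lit 0, nat_lit 0x18c7, nat_lit 0), (nat_lit 3, nat_lit 0x18c7, nat_lit 0), (nat_lit 2, nat_lit 0x18c7, nat_lit 0)]),
  (nat_lit 0x98c7, [(nat_lit 0, nat_lit 0x98c7, nat_lit 0), (nat_lit 3, nat_lit 0x98c7, nat_lit 0), (nat_lit 2, nat_lit 0x98c7, nat_lit 0)]),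
  (nat_lit 0x298c7, [(nat_lit 0, nat_lit 0x298c7, nat_lit 0), (nat_lit 0x108863, nat_lit 0x298c7, nat_lit 364), (nat_lit 0x8843, nat_lit 0x298c7, nat_lit 0x2d8c)]),
  (nat_lit 0x298e7, [(nat_lit 0, nat_lit 0x298e7, nat_lit 0), (nat_lit 0x108843, nat_lit 0x298e7, nat_lit 364), (nat_lit 0x8863, nat_lit 0x298e7, nat_lit 0x2d8c)]),
  (nat_lit 8, [(nat_lit 0, nat_lit 8, nat_lit 0), (nat_lit 0, nat_lit 266, nat_lit 0), (nat_lit 13, nat_lit 0x210a, nat_lit 0)]),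
  (nat_lit 104, [(nat_lit 0, nat_lit 104, nat_lit 0), (nat_lit 6, nat_lit 104, nat_lit 0), (nat_lit 198, nat_lit 104, nat_lit 0)]),
  (nat_lit 0x868, [(nat_lit 0, nat_lit 0x868, nat_lit 0), (nat_lit 6, nat_lit 0x868, nat_lit 0), (nat_lit 198, nat_lit 0x868, nat_lit 0)]),
  (nat_lit 0x10868, [(nat_lit 0, nat_lit 0x10868, nat_lit 0), (nat_lit 6, nat_lit 0x10868, nat_lit 0), (nat_lit 7, nat_lit 0x10868, nat_lit 12)]),
  (nat_lit 136, [(nat_lit 0, nat_lit 136, nat_lit 0), (nat_lit 0, nat_lit 0x110a, nat_lit 0), (nat_lit 0, nat_lit 0x2214a, nat_lit 0)]),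
  (nat_lit 0xc88, [(nat_lit 0, nat_lit 0xc88, nat_lit 0), (nat_lit 6, nat_lit 0xc88, nat_lit 0), (nat_lit 198, nat_lit 0xc88, nat_lit 0)]),
  (nat_lit 0x10c88, [(nat_lit 0, nat_lit 0x10c88, nat_lit 0), (nat_lit 6, nat_lit 0x10c88, nat_lit 0), (nat_lit 198, nat_lit 0x10c88, nat_lit 0)]),
  (nat_lit 0x210c88, [(nat_lit 0, nat_lit 0x210c88, nat_lit 0), (nat_lit 6, nat_lit 0x210c88, nat_lit 0), (nat_lit 7, nat_lit 0x210c88, nat_lit 12)]),
  (nat_lit 232, [(nat_lit 0, nat_lit 232, nat_lit 0), (nat_lit 66, nat_lit 232, nat_lit 0), (nat_lit 2, nat_lit 232, nat_lit 0)]),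
  (nat_lit 0x214e8, [(nat_lit 0, nat_lit 0x214e8, nat_lit 0), (nat_lit 0, nat_lit 0x429d0a, nat_lit 0), (nat_lit 2, nat_lit 0x4298c7, nat_lit 12)]),
  (nat_lit 0x18e8, [(nat_lit 0, nat_lit 0x18e8, nat_lit 0), (nat_lit 66, nat_lit 0x18e8, nat_lit 0), (nat_lit 2, nat_lit 0x18e8, nat_lit 0)]),
  (nat_lit 0x318e8, [(nat_lit 0, nat_lit 0x318e8, nat_lit 0), (nat_lit 3, nat_lit 0x318e8, nat_lit 11), (nat_lit 2, nat_lit 0x318e8, nat_lit 0)]),
  (nat_lit 9, [(nat_lit 0, nat_lit 9, nat_lit 0), (nat_lit 0, nat_lit 298, nat_lit 0), (nat_lit 13, nat_lit 0x252a, nat_lit 0)]),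
  (nat_lit 73, [(nat_lit 0, nat_lit 73, nat_lit 0), (nat_lit 7, nat_lit 73, nat_lit 0), (nat_lit 231, nat_lit 73, nat_lit 0)]),
  (nat_lit 137, [(nat_lit 0, nat_lit 137, nat_lit 0), (nat_lit 0, nat_lit 0x112a, nat_lit 0), (nat_lit 0, nat_lit 0x2254a, nat_lit 0)]),
  (nat_lit 0x889, [(nat_lit 0, nat_lit 0x889, nat_lit 0), (nat_lit 7, nat_lit 0x889, nat_lit 0), (nat_lit 231, nat_lit 0x889, nat_lit 0)]),
  (nat_lit 0x10c89, [(nat_lit 0, nat_lit 0x10c89, nat_lit 0), (nat_lit 6, nat_lit 0x10c89, nat_lit 12), (nat_lit 198, nat_lit 0x10c89, nat_lit 396)]),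
  (nat_lit 201, [(nat_lit 0, nat_lit 201, nat_lit 0), (nat_lit 99, nat_lit 201, nat_lit 0), (nat_lit 3, nat_lit 201, nat_lit 0)]),
  (nat_lit 0x214c9, [(nat_lit 0, nat_lit 0x214c9, nat_lit 0), (nat_lit 0, nat_lit 0x42992a, nat_lit 0), (nat_lit 3, nat_lit 0x4298e7, nat_lit 12)]),
  (nat_lit 265, [(nat_lit 0, nat_lit 265, nat_lit 0), (nat_lit 0, nat_lit 0x212a, nat_lit 0), (nat_lit 0, nat_lit 0x4254a, nat_lit 0)]),
  (nat_lit 0x1109, [(nat_lit 0, nat_lit 0x1109, nat_lit 0), (nat_lit 0, nat_lit 0x2212a, nat_lit 0), (nat_lit 0, nat_lit 0x44254a, nat_lit 0)]),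
  (nat_lit 0x2109, [(nat_lit 0, nat_lit 0x2109, nat_lit 0), (nat_lit 0, nat_lit 0x4212a, nat_lit 0), (nat_lit 13, nat_lit 0x4252a, nat_lit 0)])]
def c11 : List (ℕ × List (ℕ × ℕ × ℕ)) := [(nat_lit 0, [(nat_lit 0, nat_lit 0, nat_lit 0), (nat_lit 0, nat_lit 11, nat_lit 0), (nat_lit 13, nat_lit 11, nat_lit 0)]),
  (nat_lit 1, [(nat_lit 0, nat_lit 1, nat_lit 0), (nat_lit 10, nat_lit 1, nat_lit 0), (nat_lit 330, nat_lit 1, nat_lit 0)]),
  (nat_lit 2, [(nat_lit 0, nat_lit 2, nat_lit 0), (nat_lit 9, nat_lit 2, nat_lit 0), (nat_lit 297, nat_lit 2, nat_lit 0)]),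
  (nat_lit 34, [(nat_lit 0, nat_lit 34, nat_lit 0), (nat_lit 9, nat_lit 34, nat_lit 0), (nat_lit 297, nat_lit 34, nat_lit 0)]),
  (nat_lit 0x422, [(nat_lit 0, nat_lit 0x422, nat_lit 0), (nat_lit 9, nat_lit 0x422, nat_lit 0), (nat_lit 10, nat_lit 0x422, nat_lit 0)]),
  (nat_lit 3, [(nat_lit 0, nat_lit 3, nat_lit 0), (nat_lit 8, nat_lit 3, nat_lit 0), (nat_lit 264, nat_lit 3, nat_lit 0)]),
  (nat_lit 35, [(nat_lit 0, nat_lit 35, nat_lit 0), (nat_lit 8, nat_lit 35, nat_lit 0), (nat_lit 264, nat_lit 35, nat_lit 0)]),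
  (nat_lit 0x423, [(nat_lit 0, nat_lit 0x423, nat_lit 0), (nat_lit 8, nat_lit 0x423, nat_lit 0), (nat_lit 10, nat_lit 0x423, nat_lit 0)]),
  (nat_lit 67, [(nat_lit 0, nat_lit 67, nat_lit 0), (nat_lit 8, nat_lit 67, nat_lit 0), (nat_lit 264, nat_lit 67, nat_lit 0)]),
  (nat_lit 0x443, [(nat_lit 0, nat_lit 0x443, nat_lit 0), (nat_lit 8, nat_lit 0x443, nat_lit 0), (nat_lit 264, nat_lit 0x443, nat_lit 0)]),
  (nat_lit 0x8443, [(nat_lit 0, nat_lit 0x8443, nat_lit 0), (nat_lit 8, nat_lit 0x8443, nat_lit 0), (nat_lit 10, nat_lit 0x8443, nat_lit 0)]),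
  (nat_lit 0x843, [(nat_lit 0, nat_lit 0x843, nat_lit 0), (nat_lit 8, nat_lit 0x843, nat_lit 0), (nat_lit 9, nat_lit 0x843, nat_lit 0)]),
  (nat_lit 0x8843, [(nat_lit 0, nat_lit 0x8843, nat_lit 0), (nat_lit 8, nat_lit 0x8843, nat_lit 0), (nat_lit 9, nat_lit 0x8843, nat_lit 0)]),
  (nat_lit 0x8863, [(nat_lit 0, nat_lit 0x8863, nat_lit 0), (nat_lit 9, nat_lit 0x8863, nat_lit 0), (nat_lit 8, nat_lit 0x8863, nat_lit 0)]),
  (nat_lit 4, [(nat_lit 0, nat_lit 4, nat_lit 0), (nat_lit 0, nat_lit 139, nat_lit 0), (nat_lit 14, nat_lit 139, nat_lit 0)]),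
  (nat_lit 36, [(nat_lit 0, nat_lit 36, nat_lit 0), (nat_lit 10, nat_lit 36, nat_lit 12), (nat_lit 330, nat_lit 36, nat_lit 396)]),
  (nat_lit 68, [(nat_lit 0, nat_lit 68, nat_lit 0), (nat_lit 9, nat_lit 68, nat_lit 12), (nat_lit 297, nat_lit 68, nat_lit 396)]),
  (nat_lit 0x444, [(nat_lit 0, nat_lit 0x444, nat_lit 0), (nat_lit 9, nat_lit 0x444, nat_lit 12), (nat_lit 297, nat_lit 0x444, nat_lit 396)]),
  (nat_lit 0x8444, [(nat_lit 0, nat_lit 0x8444, nat_lit 0), (nat_lit 9, nat_lit 0x8444, nat_lit 12), (nat_lit 10, nat_lit 0x8444, nat_lit 396)]),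
  (nat_lit 100, [(nat_lit 0, nat_lit 100, nat_lit 0), (nat_lit 8, nat_lit 100, nat_lit 12), (nat_lit 264, nat_lit 100, nat_lit 396)]),
  (nat_lit 0x464, [(nat_lit 0, nat_lit 0x464, nat_lit 0), (nat_lit 8, nat_lit 0x464, nat_lit 12), (nat_lit 264, nat_lit 0x464, nat_lit 396)]),
  (nat_lit 0x8464, [(nat_lit 0, nat_lit 0x8464, nat_lit 0), (nat_lit 8, nat_lit 0x8464, nat_lit 12), (nat_lit 10, nat_lit 0x8464, nat_lit 396)]),
  (nat_lit 0x864, [(nat_lit 0, nat_lit 0x864, nat_lit 0), (nat_lit 8, nat_lit 0x864, nat_lit 12), (nat_lit 264, nat_lit 0x864, nat_lit 396)]),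
  (nat_lit 0x8864, [(nat_lit 0, nat_lit 0x8864, nat_lit 0), (nat_lit 8, nat_lit 0x8864, nat_lit 12), (nat_lit 264, nat_lit 0x8864, nat_lit 396)]),
  (nat_lit 0x108864, [(nat_lit 0, nat_lit 0x108864, nat_lit 0), (nat_lit 8, nat_lit 0x108864, nat_lit 12), (nat_lit 10, nat_lit 0x108864, nat_lit 396)]),
  (nat_lit 0x10864, [(nat_lit 0, nat_lit 0x10864, nat_lit 0), (nat_lit 8, nat_lit 0x10864, nat_lit 12), (nat_lit 9, nat_lit 0x10864, nat_lit 396)]),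
  (nat_lit 0x110864, [(nat_lit 0, nat_lit 0x110864, nat_lit 0), (nat_lit 8, nat_lit 0x110864, nat_lit 12), (nat_lit 9, nat_lit 0x110864, nat_lit 396)]),
  (nat_lit 0x110c64, [(nat_lit 0, nat_lit 0x110c64, nat_lit 0), (nat_lit 9, nat_lit 0x110c64, nat_lit 12), (nat_lit 8, nat_lit 0x110c64, nat_lit 396)]),
  (nat_lit 5, [(nat_lit 0, nat_lit 5, nat_lit 0), (nat_lit 0, nat_lit 171, nat_lit 0), (nat_lit 13, nat_lit 0x14ab, nat_lit 0)]),
  (nat_lit 69, [(nat_lit 0, nat_lit 69, nat_lit 0), (nat_lit 9, nat_lit 69, nat_lit 0), (nat_lit 297, nat_lit 69, nat_lit 0)]),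
  (nat_lit 0x445, [(nat_lit 0, nat_lit 0x445, nat_lit 0), (nat_lit 9, nat_lit 0x445, nat_lit 0), (nat_lit 297, nat_lit 0x445, nat_lit 0)]),
  (nat_lit 0x8445, [(nat_lit 0, nat_lit 0x8445, nat_lit 0), (nat_lit 9, nat_lit 0x8445, nat_lit 0), (nat_lit 10, nat_lit 0x8445, nat_lit 12)]),
  (nat_lit 101, [(nat_lit 0, nat_lit 101, nat_lit 0), (nat_lit 8, nat_lit 101, nat_lit 0), (nat_lit 264, nat_lit 101, nat_lit 0)]),
  (nat_lit 0x465, [(nat_lit 0, nat_lit 0x465, nat_lit 0), (nat_lit 8, nat_lit 0x465, nat_lit 0), (nat_lit 264, nat_lit 0x465, nat_lit 0)]),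
  (nat_lit 0x8465, [(nat_lit 0, nat_lit 0x8465, nat_lit 0), (nat_lit 8, nat_lit 0x8465, nat_lit 0), (nat_lit 10, nat_lit 0x8465, nat_lit 12)]),
  (nat_lit 0x865, [(nat_lit 0, nat_lit 0x865, nat_lit 0), (nat_lit 8, nat_lit 0x865, nat_lit 0), (nat_lit 264, nat_lit 0x865, nat_lit 0)]),
  (nat_lit 0x8865, [(nat_lit 0, nat_lit 0x8865, nat_lit 0), (nat_lit 8, nat_lit 0x8865, nat_lit 0), (nat_lit 264, nat_lit 0x8865, nat_lit 0)]),
  (nat_lit 0x108865, [(nat_lit 0, nat_lit 0x108865, nat_lit 0), (nat_lit 8, nat_lit 0x108865, nat_lit 0), (nat_lit 10, nat_lit 0x108865, nat_lit 12)]),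
  (nat_lit 0x10865, [(nat_lit 0, nat_lit 0x10865, nat_lit 0), (nat_lit 8, nat_lit 0x10865, nat_lit 0), (nat_lit 9, nat_lit 0x10865, nat_lit 0)]),
  (nat_lit 0x110865, [(nat_lit 0, nat_lit 0x110865, nat_lit 0), (nat_lit 8, nat_lit 0x110865, nat_lit 0), (nat_lit 9, nat_lit 0x110865, nat_lit 0)]),
  (nat_lit 0x110c65, [(nat_lit 0, nat_lit 0x110c65, nat_lit 0), (nat_lit 9, nat_lit 0x110c65, nat_lit 0), (nat_lit 8, nat_lit 0x110c65, nat_lit 0)]),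
  (nat_lit 6, [(nat_lit 0, nat_lit 6, nat_lit 0), (nat_lit 0, nat_lit 203, nat_lit 0), (nat_lit 35, nat_lit 0x190a, nat_lit 0)]),
  (nat_lit 38, [(nat_lit 0, nat_lit 38, nat_lit 0), (nat_lit 10, nat_lit 38, nat_lit 0), (nat_lit 330, nat_lit 38, nat_lit 0)]),
  (nat_lit 102, [(nat_lit 0, nat_lit 102, nat_lit 0), (nat_lit 8, nat_lit 102, nat_lit 0), (nat_lit 264, nat_lit 102, nat_lit 0)]),
  (nat_lit 0x466, [(nat_lit 0, nat_lit 0x466, nat_lit 0), (nat_lit 8, nat_lit 0x466, nat_lit 0), (nat_lit 264, nat_lit 0x466, nat_lit 0)]),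
  (nat_lit 0x8466, [(nat_lit 0, nat_lit 0x8466, nat_lit 0), (nat_lit 8, nat_lit 0x8466, nat_lit 0), (nat_lit 10, nat_lit 0x8466, nat_lit 0)]),
  (nat_lit 0x866, [(nat_lit 0, nat_lit 0x866, nat_lit 0), (nat_lit 8, nat_lit 0x866, nat_lit 0), (nat_lit 264, nat_lit 0x866, nat_lit 0)]),
  (nat_lit 0x8866, [(nat_lit 0, nat_lit 0x8866, nat_lit 0), (nat_lit 8, nat_lit 0x8866, nat_lit 0), (nat_lit 264, nat_lit 0x8866, nat_lit 0)]),
  (nat_lit 0x108866, [(nat_lit 0, nat_lit 0x108866, nat_lit 0), (nat_lit 8, nat_lit 0x108866, nat_lit 0), (nat_lit 10, nat_lit 0x108866, nat_lit 0)]),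
  (nat_lit 0x10866, [(nat_lit 0, nat_lit 0x10866, nat_lit 0), (nat_lit 8, nat_lit 0x10866, nat_lit 0), (nat_lit 9, nat_lit 0x10866, nat_lit 396)]),
  (nat_lit 0x110866, [(nat_lit 0, nat_lit 0x110866, nat_lit 0), (nat_lit 8, nat_lit 0x110866, nat_lit 0), (nat_lit 9, nat_lit 0x110866, nat_lit 396)]),
  (nat_lit 0x110c66, [(nat_lit 0, nat_lit 0x110c66, nat_lit 0), (nat_lit 9, nat_lit 0x110c66, nat_lit 396), (nat_lit 8, nat_lit 0x110c66, nat_lit 0)]),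
  (nat_lit 166, [(nat_lit 0, nat_lit 166, nat_lit 0), (nat_lit 0, nat_lit 0x14cb, nat_lit 0), (nat_lit 0, nat_lit 0x2996b, nat_lit 0)]),
  (nat_lit 0xca6, [(nat_lit 0, nat_lit 0xca6, nat_lit 0), (nat_lit 8, nat_lit 0xca6, nat_lit 0), (nat_lit 264, nat_lit 0xca6, nat_lit 0)]),
  (nat_lit 0x8ca6, [(nat_lit 0, nat_lit 0x8ca6, nat_lit 0), (nat_lit 8, nat_lit 0x8ca6, nat_lit 0), (nat_lit 264, nat_lit 0x8ca6, nat_lit 0)]),
  (nat_lit 0x108ca6, [(nat_lit 0, nat_lit 0x108ca6, nat_lit 0), (nat_lit 8, nat_lit 0x108ca6, nat_lit 0), (nat_lit 10, nat_lit 0x108ca6, nat_lit 12)]),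
  (nat_lit 0x10ca6, [(nat_lit 0, nat_lit 0x10ca6, nat_lit 0), (nat_lit 8, nat_lit 0x10ca6, nat_lit 0), (nat_lit 264, nat_lit 0x10ca6, nat_lit 0)]),
  (nat_lit 0x110ca6, [(nat_lit 0, nat_lit 0x110ca6, nat_lit 0), (nat_lit 8, nat_lit 0x110ca6, nat_lit 0), (nat_lit 264, nat_lit 0x110ca6, nat_lit 0)]),
  (nat_lit 0x210ca6, [(nat_lit 0, nat_lit 0x210ca6, nat_lit 0), (nat_lit 8, nat_lit 0x210ca6, nat_lit 0), (nat_lit 9, nat_lit 0x210ca6, nat_lit 396)]),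
  (nat_lit 0x2218ca6, [(nat_lit 0, nat_lit 0x2218ca6, nat_lit 0), (nat_lit 9, nat_lit 0x2218ca6, nat_lit 396), (nat_lit 8, nat_lit 0x2218ca6, nat_lit 0)]),
  (nat_lit 0x10a6, [(nat_lit 0, nat_lit 0x10a6, nat_lit 0), (nat_lit 0x10886d, nat_lit 0x210e8, nat_lit 0), (nat_lit 0x11b5c2, nat_lit 0x210e8, nat_lit 0)]),
  (nat_lit 0x190a6, [(nat_lit 0, nat_lit 0x190a6, nat_lit 0), (nat_lit 8, nat_lit 0x190a6, nat_lit 12), (nat_lit 264, nat_lit 0x190a6, nat_lit 396)]),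
  (nat_lit 0x21190a6, [(nat_lit 0, nat_lit 0x21190a6, nat_lit 0), (nat_lit 8, nat_lit 0x21190a6, nat_lit 12), (nat_lit 10, nat_lit 0x21190a6, nat_lit 0)]),
  (nat_lit 0x42190a6, [(nat_lit 0, nat_lit 0x42190a6, nat_lit 0), (nat_lit 8, nat_lit 0x42190a6, nat_lit 12), (nat_lit 9, nat_lit 0x42190a6, nat_lit 12)]),
  (nat_lit 0x14a6, [(nat_lit 0, nat_lit 0x14a6, nat_lit 0), (nat_lit 0, nat_lit 0x294cb, nat_lit 0), (nat_lit 13, nat_lit 0x298cb, nat_lit 0)]),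
  (nat_lit 0x194a6, [(nat_lit 0, nat_lit 0x194a6, nat_lit 0), (nat_lit 8, nat_lit 0x194a6, nat_lit 0), (nat_lit 264, nat_lit 0x194a6, nat_lit 0)]),
  (nat_lit 0x1194a6, [(nat_lit 0, nat_lit 0x1194a6, nat_lit 0), (nat_lit 8, nat_lit 0x1194a6, nat_lit 0), (nat_lit 264, nat_lit 0x1194a6, nat_lit 0)]),
  (nat_lit 0x422194a6, [(nat_lit 0, nat_lit 0x422194a6, nat_lit 0), (nat_lit 8, nat_lit 0x422194a6, nat_lit 0), (nat_lit 10, nat_lit 0x422194a6, nat_lit 396)]),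
  (nat_lit 0x42194a6, [(nat_lit 0, nat_lit 0x42194a6, nat_lit 0), (nat_lit 8, nat_lit 0x42194a6, nat_lit 0), (nat_lit 9, nat_lit 0x42194a6, nat_lit 396)]),
  (nat_lit 7, [(nat_lit 0, nat_lit 7, nat_lit 0), (nat_lit 0, nat_lit 235, nat_lit 0), (nat_lit 34, nat_lit 0x1d2a, nat_lit 0)]),
  (nat_lit 39, [(nat_lit 0, nat_lit 39, nat_lit 0), (nat_lit 10, nat_lit 39, nat_lit 0), (nat_lit 330, nat_lit 39, nat_lit 0)]),
  (nat_lit 71, [(nat_lit 0, nat_lit 71, nat_lit 0), (nat_lit 9, nat_lit 71, nat_lit 0), (nat_lit 297, nat_lit 71, nat_lit 0)]),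
  (nat_lit 0x447, [(nat_lit 0, nat_lit 0x447, nat_lit 0), (nat_lit 9, nat_lit 0x447, nat_lit 0), (nat_lit 297, nat_lit 0x447, nat_lit 0)]),
  (nat_lit 0x8447, [(nat_lit 0, nat_lit 0x8447, nat_lit 0), (nat_lit 9, nat_lit 0x8447, nat_lit 0), (nat_lit 10, nat_lit 0x8447, nat_lit 0)]),
  (nat_lit 0x8867, [(nat_lit 0, nat_lit 0x8867, nat_lit 0), (nat_lit 8, nat_lit 0x8867, nat_lit 396), (nat_lit 264, nat_lit 0x8867, nat_lit 12)]),
  (nat_lit 0x108867, [(nat_lit 0, nat_lit 0x108867, nat_lit 0), (nat_lit 8, nat_lit 0x108867, nat_lit 396), (nat_lit 10, nat_lit 0x108867, nat_lit 0)]),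
  (nat_lit 0x110867, [(nat_lit 0, nat_lit 0x110867, nat_lit 0), (nat_lit 8, nat_lit 0x110867, nat_lit 396), (nat_lit 9, nat_lit 0x110867, nat_lit 0)]),
  (nat_lit 0x110c67, [(nat_lit 0, nat_lit 0x110c67, nat_lit 0), (nat_lit 9, nat_lit 0x110c67, nat_lit 0), (nat_lit 8, nat_lit 0x110c67, nat_lit 396)]),
  (nat_lit 167, [(nat_lit 0, nat_lit 167, nat_lit 0), (nat_lit 0, nat_lit 0x14eb, nat_lit 0), (nat_lit 0, nat_lit 0x29d6b, nat_lit 0)]),
  (nat_lit 0x8a7, [(nat_lit 0, nat_lit 0x8a7, nat_lit 0), (nat_lit 9, nat_lit 0x8a7, nat_lit 0), (nat_lit 297, nat_lit 0x8a7, nat_lit 0)]),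
  (nat_lit 0x88a7, [(nat_lit 0, nat_lit 0x88a7, nat_lit 0), (nat_lit 9, nat_lit 0x88a7, nat_lit 0), (nat_lit 297, nat_lit 0x88a7, nat_lit 0)]),
  (nat_lit 0x1088a7, [(nat_lit 0, nat_lit 0x1088a7, nat_lit 0), (nat_lit 9, nat_lit 0x1088a7, nat_lit 0), (nat_lit 10, nat_lit 0x1088a7, nat_lit 12)]),
  (nat_lit 0x10ca7, [(nat_lit 0, nat_lit 0x10ca7, nat_lit 0), (nat_lit 8, nat_lit 0x10ca7, nat_lit 396), (nat_lit 264, nat_lit 0x10ca7, nat_lit 12)]),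
  (nat_lit 0x2210ca7, [(nat_lit 0, nat_lit 0x2210ca7, nat_lit 0), (nat_lit 8, nat_lit 0x2210ca7, nat_lit 396), (nat_lit 9, nat_lit 0x2210ca7, nat_lit 0)]),
  (nat_lit 0x10a7, [(nat_lit 0, nat_lit 0x10a7, nat_lit 0), (nat_lit 0x10886d, nat_lit 0x210c9, nat_lit 0), (nat_lit 0x1135c3, nat_lit 0x210c9, nat_lit 0)]),
  (nat_lit 0x110a7, [(nat_lit 0, nat_lit 0x110a7, nat_lit 0), (nat_lit 9, nat_lit 0x110a7, nat_lit 12), (nat_lit 297, nat_lit 0x110a7, nat_lit 396)]),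
  (nat_lit 0x21110a7, [(nat_lit 0, nat_lit 0x21110a7, nat_lit 0), (nat_lit 9, nat_lit 0x21110a7, nat_lit 12), (nat_lit 10, nat_lit 0x21110a7, nat_lit 0)]),
  (nat_lit 0x14a7, [(nat_lit 0, nat_lit 0x14a7, nat_lit 0), (nat_lit 0, nat_lit 0x294eb, nat_lit 0), (nat_lit 13, nat_lit 0x29ceb, nat_lit 0)]),
  (nat_lit 0x114a7, [(nat_lit 0, nat_lit 0x114a7, nat_lit 0), (nat_lit 9, nat_lit 0x114a7, nat_lit 0), (nat_lit 297, nat_lit 0x114a7, nat_lit 0)]),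
  (nat_lit 0x1114a7, [(nat_lit 0, nat_lit 0x1114a7, nat_lit 0), (nat_lit 9, nat_lit 0x1114a7, nat_lit 0), (nat_lit 297, nat_lit 0x1114a7, nat_lit 0)]),
  (nat_lit 199, [(nat_lit 0, nat_lit 199, nat_lit 0), (nat_lit 0, nat_lit 0x18eb, nat_lit 0), (nat_lit 0, nat_lit 0x31d6b, nat_lit 0)]),
  (nat_lit 0x4c7, [(nat_lit 0, nat_lit 0x4c7, nat_lit 0), (nat_lit 10, nat_lit 0x4c7, nat_lit 0), (nat_lit 330, nat_lit 0x4c7, nat_lit 0)]),
  (nat_lit 0x1088c7, [(nat_lit 0, nat_lit 0x1088c7, nat_lit 0), (nat_lit 9, nat_lit 0x1088c7, nat_lit 396), (nat_lit 10, nat_lit 0x1088c7, nat_lit 0)]),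
  (nat_lit 0x108cc7, [(nat_lit 0, nat_lit 0x108cc7, nat_lit 0), (nat_lit 8, nat_lit 0x108cc7, nat_lit 396), (nat_lit 10, nat_lit 0x108cc7, nat_lit 0)]),
  (nat_lit 0x14c7, [(nat_lit 0, nat_lit 0x14c7, nat_lit 0), (nat_lit 0, nat_lit 0x298eb, nat_lit 0), (nat_lit 0x108863, nat_lit 0x298e8, nat_lit 12)]),
  (nat_lit 0x214c7, [(nat_lit 0, nat_lit 0x214c7, nat_lit 0), (nat_lit 0x10dc1, nat_lit 0x214c7, nat_lit 12), (nat_lit 0x8443, nat_lit 0x884252a, nat_lit 12)]),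
  (nat_lit 0x294c7, [(nat_lit 0, nat_lit 0x294c7, nat_lit 0), (nat_lit 0x108843, nat_lit 0x5298e8, nat_lit 12), (nat_lit 13, nat_lit 0xa631ceb, nat_lit 0)]),
  (nat_lit 0x18c7, [(nat_lit 0, nat_lit 0x18c7, nat_lit 0), (nat_lit 0, nat_lit 0x318eb, nat_lit 0), (nat_lit 13, nat_lit 0x31ceb, nat_lit 0)]),
  (nat_lit 0x98c7, [(nat_lit 0, nat_lit 0x98c7, nat_lit 0), (nat_lit 10, nat_lit 0x98c7, nat_lit 0), (nat_lit 330, nat_lit 0x98c7, nat_lit 0)]),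
  (nat_lit 0x298c7, [(nat_lit 0, nat_lit 0x298c7, nat_lit 0), (nat_lit 0x443, nat_lit 0x5318e8, nat_lit 12), (nat_lit 13, nat_lit 0xa531ceb, nat_lit 0)]),
  (nat_lit 0x4298c7, [(nat_lit 0, nat_lit 0x4298c7, nat_lit 0), (nat_lit 0x1135c3, nat_lit 0x844212a, nat_lit 12), (nat_lit 0x1b822, nat_lit 0x4298c7, nat_lit 396)]),
  (nat_lit 0x298e7, [(nat_lit 0, nat_lit 0x298e7, nat_lit 0), (nat_lit 0x8443, nat_lit 0x531ce8, nat_lit 396), (nat_lit 13, nat_lit 0xa5318eb, nat_lit 0)]),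
  (nat_lit 0x4298e7, [(nat_lit 0, nat_lit 0x4298e7, nat_lit 0), (nat_lit 0x11b5c2, nat_lit 0x844252a, nat_lit 12), (nat_lit 0x13823, nat_lit 0x4298e7, nat_lit 396)]),
  (nat_lit 8, [(nat_lit 0, nat_lit 8, nat_lit 0), (nat_lit 99, nat_lit 8, nat_lit 0), (nat_lit 3, nat_lit 8, nat_lit 0)]),
  (nat_lit 104, [(nat_lit 0, nat_lit 104, nat_lit 0), (nat_lit 8, nat_lit 104, nat_lit 0), (nat_lit 3, nat_lit 104, nat_lit 0)]),
  (nat_lit 0x468, [(nat_lit 0, nat_lit 0x468, nat_lit 0), (nat_lit 8, nat_lit 0x468, nat_lit 0), (nat_lit 3, nat_lit 0x468, nat_lit 0)]),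
  (nat_lit 0x8468, [(nat_lit 0, nat_lit 0x8468, nat_lit 0), (nat_lit 8, nat_lit 0x8468, nat_lit 0), (nat_lit 3, nat_lit 0x8468, nat_lit 0)]),
  (nat_lit 0x868, [(nat_lit 0, nat_lit 0x868, nat_lit 0), (nat_lit 8, nat_lit 0x868, nat_lit 0), (nat_lit 3, nat_lit 0x868, nat_lit 0)]),
  (nat_lit 0x10868, [(nat_lit 0, nat_lit 0x10868, nat_lit 0), (nat_lit 8, nat_lit 0x10868, nat_lit 0), (nat_lit 3, nat_lit 0x10868, nat_lit 0)]),
  (nat_lit 136, [(nat_lit 0, nat_lit 136, nat_lit 0), (nat_lit 99, nat_lit 0x10e8, nat_lit 0), (nat_lit 451, nat_lit 0x10e8, nat_lit 0)]),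
  (nat_lit 0xc88, [(nat_lit 0, nat_lit 0xc88, nat_lit 0), (nat_lit 8, nat_lit 0xc88, nat_lit 12), (nat_lit 100, nat_lit 0xc88, nat_lit 396)]),
  (nat_lit 0x8c88, [(nat_lit 0, nat_lit 0x8c88, nat_lit 0), (nat_lit 8, nat_lit 0x8c88, nat_lit 12), (nat_lit 264, nat_lit 0x8c88, nat_lit 396)]),
  (nat_lit 0x108c88, [(nat_lit 0, nat_lit 0x108c88, nat_lit 0), (nat_lit 8, nat_lit 0x108c88, nat_lit 12), (nat_lit 10, nat_lit 0x108c88, nat_lit 396)]),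
  (nat_lit 0x10c88, [(nat_lit 0, nat_lit 0x10c88, nat_lit 0), (nat_lit 8, nat_lit 0x10c88, nat_lit 12), (nat_lit 264, nat_lit 0x10c88, nat_lit 396)]),
  (nat_lit 0x210c88, [(nat_lit 0, nat_lit 0x210c88, nat_lit 0), (nat_lit 8, nat_lit 0x210c88, nat_lit 12), (nat_lit 9, nat_lit 0x210c88, nat_lit 396)]),
  (nat_lit 232, [(nat_lit 0, nat_lit 232, nat_lit 0), (nat_lit 99, nat_lit 232, nat_lit 0), (nat_lit 3, nat_lit 232, nat_lit 0)]),
  (nat_lit 0x14e8, [(nat_lit 0, nat_lit 0x14e8, nat_lit 0), (nat_lit 0x8463, nat_lit 0x14e8, nat_lit 0), (nat_lit 35, nat_lit 0x14e8, nat_lit 0)]),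
  (nat_lit 0x214e8, [(nat_lit 0, nat_lit 0x214e8, nat_lit 0), (nat_lit 0xdc1, nat_lit 0x214e8, nat_lit 0), (nat_lit 0x423, nat_lit 0x22129, nat_lit 0)]),
  (nat_lit 0x294e8, [(nat_lit 0, nat_lit 0x294e8, nat_lit 0), (nat_lit 0x463, nat_lit 0x294e8, nat_lit 0), (nat_lit 0x423, nat_lit 0x294e8, nat_lit 0)]),
  (nat_lit 0x18e8, [(nat_lit 0, nat_lit 0x18e8, nat_lit 0), (nat_lit 0x863, nat_lit 0x18e8, nat_lit 0), (nat_lit 0x843, nat_lit 0x18e8, nat_lit 0)]),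
  (nat_lit 0x318e8, [(nat_lit 0, nat_lit 0x318e8, nat_lit 0), (nat_lit 0x10863, nat_lit 0x318e8, nat_lit 0), (nat_lit 67, nat_lit 0x318e8, nat_lit 0)]),
  (nat_lit 9, [(nat_lit 0, nat_lit 9, nat_lit 0), (nat_lit 66, nat_lit 9, nat_lit 0), (nat_lit 2, nat_lit 9, nat_lit 0)]),
  (nat_lit 73, [(nat_lit 0, nat_lit 73, nat_lit 0), (nat_lit 9, nat_lit 73, nat_lit 0), (nat_lit 2, nat_lit 73, nat_lit 0)]),
  (nat_lit 0x449, [(nat_lit 0, nat_lit 0x449, nat_lit 0), (nat_lit 9, nat_lit 0x449, nat_lit 0), (nat_lit 2, nat_lit 0x449, nat_lit 0)]),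
  (nat_lit 0x8449, [(nat_lit 0, nat_lit 0x8449, nat_lit 0), (nat_lit 9, nat_lit 0x8449, nat_lit 0), (nat_lit 2, nat_lit 0x8449, nat_lit 0)]),
  (nat_lit 137, [(nat_lit 0, nat_lit 137, nat_lit 0), (nat_lit 66, nat_lit 0x10c9, nat_lit 0), (nat_lit 450, nat_lit 0x10c9, nat_lit 0)]),
  (nat_lit 0x889, [(nat_lit 0, nat_lit 0x889, nat_lit 0), (nat_lit 9, nat_lit 0x889, nat_lit 12), (nat_lit 68, nat_lit 0x889, nat_lit 396)]),
  (nat_lit 0x8889, [(nat_lit 0, nat_lit 0x8889, nat_lit 0), (nat_lit 9, nat_lit 0x8889, nat_lit 12), (nat_lit 297, nat_lit 0x8889, nat_lit 396)]),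
  (nat_lit 0x108889, [(nat_lit 0, nat_lit 0x108889, nat_lit 0), (nat_lit 9, nat_lit 0x108889, nat_lit 12), (nat_lit 10, nat_lit 0x108889, nat_lit 396)]),
  (nat_lit 0x10c89, [(nat_lit 0, nat_lit 0x10c89, nat_lit 0), (nat_lit 8, nat_lit 0x10c89, nat_lit 12), (nat_lit 264, nat_lit 0x10c89, nat_lit 396)]),
  (nat_lit 201, [(nat_lit 0, nat_lit 201, nat_lit 0), (nat_lit 66, nat_lit 201, nat_lit 0), (nat_lit 2, nat_lit 201, nat_lit 0)]),
  (nat_lit 0x14c9, [(nat_lit 0, nat_lit 0x14c9, nat_lit 0), (nat_lit 0x8442, nat_lit 0x14c9, nat_lit 0), (nat_lit 34, nat_lit 0x14c9, nat_lit 0)]),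
  (nat_lit 0x214c9, [(nat_lit 0, nat_lit 0x214c9, nat_lit 0), (nat_lit 0x9c1, nat_lit 0x214c9, nat_lit 0), (nat_lit 0x422, nat_lit 0x22109, nat_lit 0)]),
  (nat_lit 0x294c9, [(nat_lit 0, nat_lit 0x294c9, nat_lit 0), (nat_lit 0x442, nat_lit 0x294c9, nat_lit 0), (nat_lit 0x422, nat_lit 0x294c9, nat_lit 0)]),
  (nat_lit 265, [(nat_lit 0, nat_lit 265, nat_lit 0), (nat_lit 66, nat_lit 265, nat_lit 0), (nat_lit 2, nat_lit 265, nat_lit 0)]),
  (nat_lit 0x1109, [(nat_lit 0, nat_lit 0x1109, nat_lit 0), (nat_lit 66, nat_lit 0x21909, nat_lit 0), (nat_lit 450, nat_lit 0x21909, nat_lit 0)]),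
  (nat_lit 0x21109, [(nat_lit 0, nat_lit 0x21109, nat_lit 0), (nat_lit 0xdc1, nat_lit 0x4214e8, nat_lit 0), (nat_lit 0x423, nat_lit 0x4214e8, nat_lit 0)]),
  (nat_lit 0x2109, [(nat_lit 0, nat_lit 0x2109, nat_lit 0), (nat_lit 3, nat_lit 0x2109, nat_lit 0), (nat_lit 2, nat_lit 0x2109, nat_lit 0)]),
  (nat_lit 10, [(nat_lit 0, nat_lit 10, nat_lit 0), (nat_lit 33, nat_lit 10, nat_lit 0), (nat_lit 1, nat_lit 10, nat_lit 0)]),
  (nat_lit 42, [(nat_lit 0, nat_lit 42, nat_lit 0), (nat_lit 10, nat_lit 42, nat_lit 0), (nat_lit 1, nat_lit 42, nat_lit 0)]),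
  (nat_lit 138, [(nat_lit 0, nat_lit 138, nat_lit 0), (nat_lit 46, nat_lit 0x10aa, nat_lit 0), (nat_lit 1, nat_lit 0x10aa, nat_lit 0)]),
  (nat_lit 0x48a, [(nat_lit 0, nat_lit 0x48a, nat_lit 0), (nat_lit 10, nat_lit 0x48a, nat_lit 12), (nat_lit 36, nat_lit 0x48a, nat_lit 396)]),
  (nat_lit 0x888a, [(nat_lit 0, nat_lit 0x888a, nat_lit 0), (nat_lit 9, nat_lit 0x888a, nat_lit 12), (nat_lit 297, nat_lit 0x888a, nat_lit 396)]),
  (nat_lit 0x8c8a, [(nat_lit 0, nat_lit 0x8c8a, nat_lit 0), (nat_lit 8, nat_lit 0x8c8a, nat_lit 12), (nat_lit 264, nat_lit 0x8c8a, nat_lit 396)]),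
  (nat_lit 0x108a, [(nat_lit 0, nat_lit 0x108a, nat_lit 0), (nat_lit 33, nat_lit 0x210aa, nat_lit 0), (nat_lit 449, nat_lit 0x210aa, nat_lit 0)]),
  (nat_lit 0x908a, [(nat_lit 0, nat_lit 0x908a, nat_lit 0), (nat_lit 10, nat_lit 0x908a, nat_lit 396), (nat_lit 330, nat_lit 0x908a, nat_lit 12)]),
  (nat_lit 170, [(nat_lit 0, nat_lit 170, nat_lit 0), (nat_lit 33, nat_lit 170, nat_lit 0), (nat_lit 1, nat_lit 170, nat_lit 0)]),
  (nat_lit 0x214ca, [(nat_lit 0, nat_lit 0x214ca, nat_lit 0), (nat_lit 0x422, nat_lit 0x2210a, nat_lit 0), (nat_lit 0x9c1, nat_lit 0x214ca, nat_lit 0)]),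
  (nat_lit 0x214ea, [(nat_lit 0, nat_lit 0x214ea, nat_lit 0), (nat_lit 0x423, nat_lit 0x2252a, nat_lit 0), (nat_lit 0xdc1, nat_lit 0x214ea, nat_lit 0)]),
  (nat_lit 0x4298ea, [(nat_lit 0, nat_lit 0x4298ea, nat_lit 0), (nat_lit 0x6b843, nat_lit 0x842a12a, nat_lit 396), (nat_lit 0x886d, nat_lit 0x842a12a, nat_lit 12)]),
  (nat_lit 266, [(nat_lit 0, nat_lit 266, nat_lit 0), (nat_lit 33, nat_lit 266, nat_lit 0), (nat_lit 1, nat_lit 266, nat_lit 0)]),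
  (nat_lit 0x110a, [(nat_lit 0, nat_lit 0x110a, nat_lit 0), (nat_lit 0x10863, nat_lit 0x218e8, nat_lit 0), (nat_lit 0x3843, nat_lit 0x218e8, nat_lit 0)]),
  (nat_lit 0x2110a, [(nat_lit 0, nat_lit 0x2110a, nat_lit 0), (nat_lit 0x422, nat_lit 0x4214ca, nat_lit 0), (nat_lit 0x9c1, nat_lit 0x4214ca, nat_lit 0)]),
  (nat_lit 0x429d0a, [(nat_lit 0, nat_lit 0x429d0a, nat_lit 0), (nat_lit 0x3823, nat_lit 0x854252a, nat_lit 0), (nat_lit 3, nat_lit 0x854252a, nat_lit 0)]),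
  (nat_lit 0x210a, [(nat_lit 0, nat_lit 0x210a, nat_lit 0), (nat_lit 3, nat_lit 0x210a, nat_lit 0), (nat_lit 1, nat_lit 0x210a, nat_lit 0)]),
  (nat_lit 298, [(nat_lit 0, nat_lit 298, nat_lit 0), (nat_lit 33, nat_lit 298, nat_lit 0), (nat_lit 1, nat_lit 298, nat_lit 0)]),
  (nat_lit 0x112a, [(nat_lit 0, nat_lit 0x112a, nat_lit 0), (nat_lit 0x10863, nat_lit 0x218e9, nat_lit 0), (nat_lit 0x3843, nat_lit 0x218e9, nat_lit 0)]),
  (nat_lit 0x2112a, [(nat_lit 0, nat_lit 0x2112a, nat_lit 0), (nat_lit 0x423, nat_lit 0x4214ea, nat_lit 0), (nat_lit 0xdc1, nat_lit 0x4214ea, nat_lit 0)]),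
  (nat_lit 0x42992a, [(nat_lit 0, nat_lit 0x42992a, nat_lit 0), (nat_lit 0x3822, nat_lit 0x854212a, nat_lit 0), (nat_lit 2, nat_lit 0x854212a, nat_lit 0)]),
  (nat_lit 0x212a, [(nat_lit 0, nat_lit 0x212a, nat_lit 0), (nat_lit 33, nat_lit 0x212a, nat_lit 0), (nat_lit 1, nat_lit 0x212a, nat_lit 0)]),
  (nat_lit 0x2212a, [(nat_lit 0, nat_lit 0x2212a, nat_lit 0), (nat_lit 0x70443, nat_lit 0x4294c7, nat_lit 12), (nat_lit 0xe0886e, nat_lit 0x4294c7, nat_lit 12)]),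
  (nat_lit 0x4212a, [(nat_lit 0, nat_lit 0x4212a, nat_lit 0), (nat_lit 3, nat_lit 0x4212a, nat_lit 0), (nat_lit 1, nat_lit 0x4212a, nat_lit 0)]),
  (nat_lit 0x252a, [(nat_lit 0, nat_lit 0x252a, nat_lit 0), (nat_lit 2, nat_lit 0x252a, nat_lit 0), (nat_lit 1, nat_lit 0x252a, nat_lit 0)]),
  (nat_lit 0x4252a, [(nat_lit 0, nat_lit 0x4252a, nat_lit 0), (nat_lit 2, nat_lit 0x4252a, nat_lit 0), (nat_lit 1, nat_lit 0x4252a, nat_lit 0)]),
  (nat_lit 0x2214a, [(nat_lit 0, nat_lit 0x2214a, nat_lit 0), (nat_lit 0x863, nat_lit 0x4318e8, nat_lit 0), (nat_lit 0x9c3, nat_lit 0x4318e8, nat_lit 0)]),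
  (nat_lit 0x2254a, [(nat_lit 0, nat_lit 0x2254a, nat_lit 0), (nat_lit 0x9c3, nat_lit 0x4318e9, nat_lit 0), (nat_lit 0x863, nat_lit 0x4318e9, nat_lit 0)]),
  (nat_lit 0x4254a, [(nat_lit 0, nat_lit 0x4254a, nat_lit 0), (nat_lit 1, nat_lit 0x4254a, nat_lit 0), (nat_lit 2, nat_lit 0x4254a, nat_lit 0)]),
  (nat_lit 0x44254a, [(nat_lit 0, nat_lit 0x44254a, nat_lit 0), (nat_lit 0x3843, nat_lit 0x863a12a, nat_lit 0), (nat_lit 0x10863, nat_lit 0x863a12a, nat_lit 0)])]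
def c12 : List (ℕ × List (ℕ × ℕ × ℕ)) := [(nat_lit 0, [(nat_lit 0, nat_lit 0, nat_lit 0), (nat_lit 0, nat_lit 12, nat_lit 0), (nat_lit 14, nat_lit 12, nat_lit 0)]),
  (nat_lit 1, [(nat_lit 0, nat_lit 1, nat_lit 0), (nat_lit 0, nat_lit 44, nat_lit 0), (nat_lit 14, nat_lit 0x42c, nat_lit 0)]),
  (nat_lit 2, [(nat_lit 0, nat_lit 2, nat_lit 0), (nat_lit 0, nat_lit 76, nat_lit 0), (nat_lit 0x1129, nat_lit 0x8cb, nat_lit 0)]),
  (nat_lit 34, [(nat_lit 0, nat_lit 34, nat_lit 0), (nat_lit 0, nat_lit 0x44c, nat_lit 0), (nat_lit 0, nat_lit 0x898c, nat_lit 0)]),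
  (nat_lit 0x422, [(nat_lit 0, nat_lit 0x422, nat_lit 0), (nat_lit 0, nat_lit 0x844c, nat_lit 0), (nat_lit 14, nat_lit 0x884c, nat_lit 0)]),
  (nat_lit 3, [(nat_lit 0, nat_lit 3, nat_lit 0), (nat_lit 0, nat_lit 108, nat_lit 0), (nat_lit 0x1108, nat_lit 0xceb, nat_lit 0)]),
  (nat_lit 35, [(nat_lit 0, nat_lit 35, nat_lit 0), (nat_lit 0, nat_lit 0x46c, nat_lit 0), (nat_lit 0, nat_lit 0x8d8c, nat_lit 0)]),
  (nat_lit 0x423, [(nat_lit 0, nat_lit 0x423, nat_lit 0), (nat_lit 0, nat_lit 0x846c, nat_lit 0), (nat_lit 14, nat_lit 0x8c6c, nat_lit 0)]),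
  (nat_lit 67, [(nat_lit 0, nat_lit 67, nat_lit 0), (nat_lit 0, nat_lit 0x86c, nat_lit 0), (nat_lit 0, nat_lit 0x10d8c, nat_lit 0)]),
  (nat_lit 0x443, [(nat_lit 0, nat_lit 0x443, nat_lit 0), (nat_lit 0, nat_lit 0x886c, nat_lit 0), (nat_lit 0x61b4a7, nat_lit 0x8868, nat_lit 0)]),
  (nat_lit 0x8443, [(nat_lit 0, nat_lit 0x8443, nat_lit 0), (nat_lit 0x7134a6, nat_lit 0x108868, nat_lit 0), (nat_lit 14, nat_lit 0x2210c6c, nat_lit 0)]),
  (nat_lit 0x843, [(nat_lit 0, nat_lit 0x843, nat_lit 0), (nat_lit 0, nat_lit 0x1086c, nat_lit 0), (nat_lit 14, nat_lit 0x10c6c, nat_lit 0)]),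
  (nat_lit 0x8843, [(nat_lit 0, nat_lit 0x8843, nat_lit 0), (nat_lit 0x288c7, nat_lit 0x110868, nat_lit 0), (nat_lit 14, nat_lit 0x2110c6c, nat_lit 0)]),
  (nat_lit 0x8863, [(nat_lit 0, nat_lit 0x8863, nat_lit 0), (nat_lit 0x3294c7, nat_lit 0x110c68, nat_lit 0), (nat_lit 14, nat_lit 0x211086c, nat_lit 0)]),
  (nat_lit 4, [(nat_lit 0, nat_lit 4, nat_lit 0), (nat_lit 11, nat_lit 4, nat_lit 0), (nat_lit 363, nat_lit 4, nat_lit 0)]),
  (nat_lit 36, [(nat_lit 0, nat_lit 36, nat_lit 0), (nat_lit 11, nat_lit 36, nat_lit 0), (nat_lit 363, nat_lit 36, nat_lit 0)]),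
  (nat_lit 68, [(nat_lit 0, nat_lit 68, nat_lit 0), (nat_lit 11, nat_lit 68, nat_lit 0), (nat_lit 363, nat_lit 68, nat_lit 0)]),
  (nat_lit 0x444, [(nat_lit 0, nat_lit 0x444, nat_lit 0), (nat_lit 11, nat_lit 0x444, nat_lit 0), (nat_lit 363, nat_lit 0x444, nat_lit 0)]),
  (nat_lit 0x8444, [(nat_lit 0, nat_lit 0x8444, nat_lit 0), (nat_lit 11, nat_lit 0x8444, nat_lit 0), (nat_lit 363, nat_lit 0x8444, nat_lit 0)]),
  (nat_lit 100, [(nat_lit 0, nat_lit 100, nat_lit 0), (nat_lit 11, nat_lit 100, nat_lit 0), (nat_lit 363, nat_lit 100, nat_lit 0)]),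
  (nat_lit 0x464, [(nat_lit 0, nat_lit 0x464, nat_lit 0), (nat_lit 11, nat_lit 0x464, nat_lit 0), (nat_lit 363, nat_lit 0x464, nat_lit 0)]),
  (nat_lit 0x8464, [(nat_lit 0, nat_lit 0x8464, nat_lit 0), (nat_lit 11, nat_lit 0x8464, nat_lit 0), (nat_lit 363, nat_lit 0x8464, nat_lit 0)]),
  (nat_lit 0x864, [(nat_lit 0, nat_lit 0x864, nat_lit 0), (nat_lit 11, nat_lit 0x864, nat_lit 0), (nat_lit 363, nat_lit 0x864, nat_lit 0)]),
  (nat_lit 0x8864, [(nat_lit 0, nat_lit 0x8864, nat_lit 0), (nat_lit 11, nat_lit 0x8864, nat_lit 0), (nat_lit 363, nat_lit 0x8864, nat_lit 0)]),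
  (nat_lit 0x108864, [(nat_lit 0, nat_lit 0x108864, nat_lit 0), (nat_lit 11, nat_lit 0x108864, nat_lit 0), (nat_lit 363, nat_lit 0x108864, nat_lit 0)]),
  (nat_lit 0x10864, [(nat_lit 0, nat_lit 0x10864, nat_lit 0), (nat_lit 11, nat_lit 0x10864, nat_lit 0), (nat_lit 363, nat_lit 0x10864, nat_lit 0)]),
  (nat_lit 0x110864, [(nat_lit 0, nat_lit 0x110864, nat_lit 0), (nat_lit 11, nat_lit 0x110864, nat_lit 0), (nat_lit 363, nat_lit 0x110864, nat_lit 0)]),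
  (nat_lit 0x110c64, [(nat_lit 0, nat_lit 0x110c64, nat_lit 0), (nat_lit 11, nat_lit 0x110c64, nat_lit 0), (nat_lit 363, nat_lit 0x110c64, nat_lit 0)]),
  (nat_lit 5, [(nat_lit 0, nat_lit 5, nat_lit 0), (nat_lit 330, nat_lit 5, nat_lit 0), (nat_lit 10, nat_lit 5, nat_lit 0)]),
  (nat_lit 69, [(nat_lit 0, nat_lit 69, nat_lit 0), (nat_lit 330, nat_lit 69, nat_lit 0), (nat_lit 10, nat_lit 69, nat_lit 0)]),
  (nat_lit 0x445, [(nat_lit 0, nat_lit 0x445, nat_lit 0), (nat_lit 0x254a, nat_lit 0x445, nat_lit 0), (nat_lit 0x252a, nat_lit 0x445, nat_lit 0)]),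
  (nat_lit 0x8445, [(nat_lit 0, nat_lit 0x8445, nat_lit 0), (nat_lit 0x4a54a, nat_lit 0x8445, nat_lit 0), (nat_lit 298, nat_lit 0x8445, nat_lit 0)]),
  (nat_lit 101, [(nat_lit 0, nat_lit 101, nat_lit 0), (nat_lit 330, nat_lit 101, nat_lit 0), (nat_lit 10, nat_lit 101, nat_lit 0)]),
  (nat_lit 0x465, [(nat_lit 0, nat_lit 0x465, nat_lit 0), (nat_lit 0x214a, nat_lit 0x465, nat_lit 0), (nat_lit 0x210a, nat_lit 0x465, nat_lit 0)]),
  (nat_lit 0x8465, [(nat_lit 0, nat_lit 0x8465, nat_lit 0), (nat_lit 0x4214a, nat_lit 0x8465, nat_lit 0), (nat_lit 266, nat_lit 0x8465, nat_lit 0)]),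
  (nat_lit 0x865, [(nat_lit 0, nat_lit 0x865, nat_lit 0), (nat_lit 330, nat_lit 0x865, nat_lit 0), (nat_lit 10, nat_lit 0x865, nat_lit 0)]),
  (nat_lit 0x8865, [(nat_lit 0, nat_lit 0x8865, nat_lit 0), (nat_lit 0x214a, nat_lit 0x8865, nat_lit 0), (nat_lit 0x210a, nat_lit 0x8865, nat_lit 0)]),
  (nat_lit 0x108865, [(nat_lit 0, nat_lit 0x108865, nat_lit 0), (nat_lit 0x4214a, nat_lit 0x108865, nat_lit 0), (nat_lit 266, nat_lit 0x108865, nat_lit 0)]),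
  (nat_lit 0x10865, [(nat_lit 0, nat_lit 0x10865, nat_lit 0), (nat_lit 330, nat_lit 0x10865, nat_lit 0), (nat_lit 10, nat_lit 0x10865, nat_lit 0)]),
  (nat_lit 0x110865, [(nat_lit 0, nat_lit 0x110865, nat_lit 0), (nat_lit 0x214a, nat_lit 0x110865, nat_lit 0), (nat_lit 298, nat_lit 0x110865, nat_lit 0)]),
  (nat_lit 0x110c65, [(nat_lit 0, nat_lit 0x110c65, nat_lit 0), (nat_lit 0x254a, nat_lit 0x110c65, nat_lit 0), (nat_lit 266, nat_lit 0x110c65, nat_lit 0)]),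
  (nat_lit 6, [(nat_lit 0, nat_lit 6, nat_lit 0), (nat_lit 9, nat_lit 6, nat_lit 0), (nat_lit 297, nat_lit 6, nat_lit 0)]),
  (nat_lit 38, [(nat_lit 0, nat_lit 38, nat_lit 0), (nat_lit 9, nat_lit 38, nat_lit 0), (nat_lit 297, nat_lit 38, nat_lit 0)]),
  (nat_lit 102, [(nat_lit 0, nat_lit 102, nat_lit 0), (nat_lit 9, nat_lit 102, nat_lit 0), (nat_lit 297, nat_lit 102, nat_lit 0)]),
  (nat_lit 0x466, [(nat_lit 0, nat_lit 0x466, nat_lit 0), (nat_lit 9, nat_lit 0x466, nat_lit 0), (nat_lit 297, nat_lit 0x466, nat_lit 0)]),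
  (nat_lit 0x8466, [(nat_lit 0, nat_lit 0x8466, nat_lit 0), (nat_lit 9, nat_lit 0x8466, nat_lit 0), (nat_lit 297, nat_lit 0x8466, nat_lit 0)]),
  (nat_lit 0x866, [(nat_lit 0, nat_lit 0x866, nat_lit 0), (nat_lit 0x2109, nat_lit 0x866, nat_lit 0), (nat_lit 0x2129, nat_lit 0x866, nat_lit 0)]),
  (nat_lit 0x8866, [(nat_lit 0, nat_lit 0x8866, nat_lit 0), (nat_lit 0x2109, nat_lit 0x8866, nat_lit 0), (nat_lit 0x2129, nat_lit 0x8866, nat_lit 0)]),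
  (nat_lit 0x108866, [(nat_lit 0, nat_lit 0x108866, nat_lit 0), (nat_lit 298, nat_lit 0x108866, nat_lit 0), (nat_lit 0x2129, nat_lit 0x108866, nat_lit 0)]),
  (nat_lit 0x10866, [(nat_lit 0, nat_lit 0x10866, nat_lit 0), (nat_lit 265, nat_lit 0x10866, nat_lit 0), (nat_lit 0x42129, nat_lit 0x10866, nat_lit 0)]),
  (nat_lit 0x110866, [(nat_lit 0, nat_lit 0x110866, nat_lit 0), (nat_lit 265, nat_lit 0x110866, nat_lit 0), (nat_lit 0x42129, nat_lit 0x110866, nat_lit 0)]),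
  (nat_lit 0x110c66, [(nat_lit 0, nat_lit 0x110c66, nat_lit 0), (nat_lit 265, nat_lit 0x110c66, nat_lit 0), (nat_lit 0x252a, nat_lit 0x110c66, nat_lit 0)]),
  (nat_lit 166, [(nat_lit 0, nat_lit 166, nat_lit 0), (nat_lit 9, nat_lit 166, nat_lit 0), (nat_lit 10, nat_lit 166, nat_lit 0)]),
  (nat_lit 0xca6, [(nat_lit 0, nat_lit 0xca6, nat_lit 0), (nat_lit 9, nat_lit 0xca6, nat_lit 0), (nat_lit 10, nat_lit 0xca6, nat_lit 0)]),
  (nat_lit 0x8ca6, [(nat_lit 0, nat_lit 0x8ca6, nat_lit 0), (nat_lit 9, nat_lit 0x8ca6, nat_lit 0), (nat_lit 297, nat_lit 0x8ca6, nat_lit 0)]),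
  (nat_lit 0x108ca6, [(nat_lit 0, nat_lit 0x108ca6, nat_lit 0), (nat_lit 9, nat_lit 0x108ca6, nat_lit 0), (nat_lit 266, nat_lit 0x108ca6, nat_lit 0)]),
  (nat_lit 0x10ca6, [(nat_lit 0, nat_lit 0x10ca6, nat_lit 0), (nat_lit 330, nat_lit 0x10ca6, nat_lit 0), (nat_lit 10, nat_lit 0x10ca6, nat_lit 0)]),
  (nat_lit 0x110ca6, [(nat_lit 0, nat_lit 0x110ca6, nat_lit 0), (nat_lit 0x2109, nat_lit 0x110ca6, nat_lit 0), (nat_lit 0x14c3, nat_lit 0x110ca6, nat_lit 0)]),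
  (nat_lit 0x210ca6, [(nat_lit 0, nat_lit 0x210ca6, nat_lit 0), (nat_lit 265, nat_lit 0x210ca6, nat_lit 0), (nat_lit 10, nat_lit 0x210ca6, nat_lit 0)]),
  (nat_lit 0x2218ca6, [(nat_lit 0, nat_lit 0x2218ca6, nat_lit 0), (nat_lit 265, nat_lit 0x2218ca6, nat_lit 0), (nat_lit 266, nat_lit 0x2218ca6, nat_lit 0)]),
  (nat_lit 0x10a6, [(nat_lit 0, nat_lit 0x10a6, nat_lit 0), (nat_lit 9, nat_lit 0x10a6, nat_lit 0), (nat_lit 10, nat_lit 0x10a6, nat_lit 0)]),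
  (nat_lit 0x190a6, [(nat_lit 0, nat_lit 0x190a6, nat_lit 0), (nat_lit 9, nat_lit 0x190a6, nat_lit 0), (nat_lit 10, nat_lit 0x190a6, nat_lit 0)]),
  (nat_lit 0x21190a6, [(nat_lit 0, nat_lit 0x21190a6, nat_lit 0), (nat_lit 9, nat_lit 0x21190a6, nat_lit 0), (nat_lit 266, nat_lit 0x21190a6, nat_lit 0)]),
  (nat_lit 0x42190a6, [(nat_lit 0, nat_lit 0x42190a6, nat_lit 0), (nat_lit 11, nat_lit 0x42190a6, nat_lit 0), (nat_lit 10, nat_lit 0x42190a6, nat_lit 0)]),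
  (nat_lit 0x14a6, [(nat_lit 0, nat_lit 0x14a6, nat_lit 0), (nat_lit 9, nat_lit 0x14a6, nat_lit 0), (nat_lit 297, nat_lit 0x14a6, nat_lit 0)]),
  (nat_lit 0x194a6, [(nat_lit 0, nat_lit 0x194a6, nat_lit 0), (nat_lit 9, nat_lit 0x194a6, nat_lit 0), (nat_lit 297, nat_lit 0x194a6, nat_lit 0)]),
  (nat_lit 0x1194a6, [(nat_lit 0, nat_lit 0x1194a6, nat_lit 0), (nat_lit 9, nat_lit 0x1194a6, nat_lit 0), (nat_lit 297, nat_lit 0x1194a6, nat_lit 0)]),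
  (nat_lit 0x422194a6, [(nat_lit 0, nat_lit 0x422194a6, nat_lit 0), (nat_lit 266, nat_lit 0x422194a6, nat_lit 0), (nat_lit 298, nat_lit 0x422194a6, nat_lit 0)]),
  (nat_lit 0x42194a6, [(nat_lit 0, nat_lit 0x42194a6, nat_lit 0), (nat_lit 10, nat_lit 0x42194a6, nat_lit 0), (nat_lit 330, nat_lit 0x42194a6, nat_lit 0)]),
  (nat_lit 7, [(nat_lit 0, nat_lit 7, nat_lit 0), (nat_lit 8, nat_lit 7, nat_lit 0), (nat_lit 264, nat_lit 7, nat_lit 0)]),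
  (nat_lit 39, [(nat_lit 0, nat_lit 39, nat_lit 0), (nat_lit 8, nat_lit 39, nat_lit 0), (nat_lit 264, nat_lit 39, nat_lit 0)]),
  (nat_lit 71, [(nat_lit 0, nat_lit 71, nat_lit 0), (nat_lit 8, nat_lit 71, nat_lit 0), (nat_lit 264, nat_lit 71, nat_lit 0)]),
  (nat_lit 0x447, [(nat_lit 0, nat_lit 0x447, nat_lit 0), (nat_lit 8, nat_lit 0x447, nat_lit 0), (nat_lit 264, nat_lit 0x447, nat_lit 0)]),
  (nat_lit 0x8447, [(nat_lit 0, nat_lit 0x8447, nat_lit 0), (nat_lit 8, nat_lit 0x8447, nat_lit 0), (nat_lit 264, nat_lit 0x8447, nat_lit 0)]),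
  (nat_lit 0x8867, [(nat_lit 0, nat_lit 0x8867, nat_lit 0), (nat_lit 0x2129, nat_lit 0x8867, nat_lit 0), (nat_lit 0x2109, nat_lit 0x8867, nat_lit 0)]),
  (nat_lit 0x108867, [(nat_lit 0, nat_lit 0x108867, nat_lit 0), (nat_lit 266, nat_lit 0x108867, nat_lit 0), (nat_lit 0x2109, nat_lit 0x108867, nat_lit 0)]),
  (nat_lit 0x110867, [(nat_lit 0, nat_lit 0x110867, nat_lit 0), (nat_lit 265, nat_lit 0x110867, nat_lit 0), (nat_lit 0x210a, nat_lit 0x110867, nat_lit 0)]),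
  (nat_lit 0x110c67, [(nat_lit 0, nat_lit 0x110c67, nat_lit 0), (nat_lit 265, nat_lit 0x110c67, nat_lit 0), (nat_lit 0x42129, nat_lit 0x110c67, nat_lit 0)]),
  (nat_lit 167, [(nat_lit 0, nat_lit 167, nat_lit 0), (nat_lit 8, nat_lit 167, nat_lit 0), (nat_lit 10, nat_lit 167, nat_lit 0)]),
  (nat_lit 0x8a7, [(nat_lit 0, nat_lit 0x8a7, nat_lit 0), (nat_lit 8, nat_lit 0x8a7, nat_lit 0), (nat_lit 10, nat_lit 0x8a7, nat_lit 0)]),
  (nat_lit 0x88a7, [(nat_lit 0, nat_lit 0x88a7, nat_lit 0), (nat_lit 8, nat_lit 0x88a7, nat_lit 0), (nat_lit 264, nat_lit 0x88a7, nat_lit 0)]),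
  (nat_lit 0x1088a7, [(nat_lit 0, nat_lit 0x1088a7, nat_lit 0), (nat_lit 8, nat_lit 0x1088a7, nat_lit 0), (nat_lit 264, nat_lit 0x1088a7, nat_lit 0)]),
  (nat_lit 0x10ca7, [(nat_lit 0, nat_lit 0x10ca7, nat_lit 0), (nat_lit 330, nat_lit 0x10ca7, nat_lit 0), (nat_lit 10, nat_lit 0x10ca7, nat_lit 0)]),
  (nat_lit 0x2210ca7, [(nat_lit 0, nat_lit 0x2210ca7, nat_lit 0), (nat_lit 265, nat_lit 0x2210ca7, nat_lit 0), (nat_lit 298, nat_lit 0x2210ca7, nat_lit 0)]),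
  (nat_lit 0x10a7, [(nat_lit 0, nat_lit 0x10a7, nat_lit 0), (nat_lit 8, nat_lit 0x10a7, nat_lit 0), (nat_lit 10, nat_lit 0x10a7, nat_lit 0)]),
  (nat_lit 0x110a7, [(nat_lit 0, nat_lit 0x110a7, nat_lit 0), (nat_lit 8, nat_lit 0x110a7, nat_lit 0), (nat_lit 10, nat_lit 0x110a7, nat_lit 0)]),
  (nat_lit 0x21110a7, [(nat_lit 0, nat_lit 0x21110a7, nat_lit 0), (nat_lit 8, nat_lit 0x21110a7, nat_lit 0), (nat_lit 264, nat_lit 0x21110a7, nat_lit 0)]),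
  (nat_lit 0x14a7, [(nat_lit 0, nat_lit 0x14a7, nat_lit 0), (nat_lit 8, nat_lit 0x14a7, nat_lit 0), (nat_lit 264, nat_lit 0x14a7, nat_lit 0)]),
  (nat_lit 0x114a7, [(nat_lit 0, nat_lit 0x114a7, nat_lit 0), (nat_lit 8, nat_lit 0x114a7, nat_lit 0), (nat_lit 264, nat_lit 0x114a7, nat_lit 0)]),
  (nat_lit 0x1114a7, [(nat_lit 0, nat_lit 0x1114a7, nat_lit 0), (nat_lit 8, nat_lit 0x1114a7, nat_lit 0), (nat_lit 264, nat_lit 0x1114a7, nat_lit 0)]),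
  (nat_lit 199, [(nat_lit 0, nat_lit 199, nat_lit 0), (nat_lit 8, nat_lit 199, nat_lit 0), (nat_lit 264, nat_lit 199, nat_lit 0)]),
  (nat_lit 0x4c7, [(nat_lit 0, nat_lit 0x4c7, nat_lit 0), (nat_lit 8, nat_lit 0x4c7, nat_lit 0), (nat_lit 264, nat_lit 0x4c7, nat_lit 0)]),
  (nat_lit 0x1088c7, [(nat_lit 0, nat_lit 0x1088c7, nat_lit 0), (nat_lit 8, nat_lit 0x1088c7, nat_lit 0), (nat_lit 264, nat_lit 0x1088c7, nat_lit 0)]),
  (nat_lit 0x108cc7, [(nat_lit 0, nat_lit 0x108cc7, nat_lit 0), (nat_lit 9, nat_lit 0x108cc7, nat_lit 0), (nat_lit 297, nat_lit 0x108cc7, nat_lit 0)]),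
  (nat_lit 0x14c7, [(nat_lit 0, nat_lit 0x14c7, nat_lit 0), (nat_lit 8, nat_lit 0x14c7, nat_lit 0), (nat_lit 10, nat_lit 0x14c7, nat_lit 0)]),
  (nat_lit 0x214c7, [(nat_lit 0, nat_lit 0x214c7, nat_lit 0), (nat_lit 8, nat_lit 0x214c7, nat_lit 0), (nat_lit 10, nat_lit 0x214c7, nat_lit 0)]),
  (nat_lit 0x294c7, [(nat_lit 0, nat_lit 0x294c7, nat_lit 0), (nat_lit 8, nat_lit 0x294c7, nat_lit 0), (nat_lit 264, nat_lit 0x294c7, nat_lit 0)]),
  (nat_lit 0x4294c7, [(nat_lit 0, nat_lit 0x4294c7, nat_lit 0), (nat_lit 8, nat_lit 0x4294c7, nat_lit 0), (nat_lit 264, nat_lit 0x4294c7, nat_lit 0)]),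
  (nat_lit 0x18c7, [(nat_lit 0, nat_lit 0x18c7, nat_lit 0), (nat_lit 8, nat_lit 0x18c7, nat_lit 0), (nat_lit 9, nat_lit 0x18c7, nat_lit 0)]),
  (nat_lit 0x98c7, [(nat_lit 0, nat_lit 0x98c7, nat_lit 0), (nat_lit 8, nat_lit 0x98c7, nat_lit 0), (nat_lit 9, nat_lit 0x98c7, nat_lit 0)]),
  (nat_lit 0x298c7, [(nat_lit 0, nat_lit 0x298c7, nat_lit 0), (nat_lit 8, nat_lit 0x298c7, nat_lit 0), (nat_lit 9, nat_lit 0x298c7, nat_lit 0)]),
  (nat_lit 0x4298c7, [(nat_lit 0, nat_lit 0x4298c7, nat_lit 0), (nat_lit 8, nat_lit 0x4298c7, nat_lit 0), (nat_lit 9, nat_lit 0x4298c7, nat_lit 0)]),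
  (nat_lit 0x298e7, [(nat_lit 0, nat_lit 0x298e7, nat_lit 0), (nat_lit 9, nat_lit 0x298e7, nat_lit 0), (nat_lit 8, nat_lit 0x298e7, nat_lit 0)]),
  (nat_lit 0x4298e7, [(nat_lit 0, nat_lit 0x4298e7, nat_lit 0), (nat_lit 9, nat_lit 0x4298e7, nat_lit 0), (nat_lit 8, nat_lit 0x4298e7, nat_lit 0)]),
  (nat_lit 8, [(nat_lit 0, nat_lit 8, nat_lit 0), (nat_lit 231, nat_lit 8, nat_lit 0), (nat_lit 7, nat_lit 8, nat_lit 0)]),
  (nat_lit 104, [(nat_lit 0, nat_lit 104, nat_lit 0), (nat_lit 231, nat_lit 104, nat_lit 0), (nat_lit 7, nat_lit 104, nat_lit 0)]),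
  (nat_lit 0x468, [(nat_lit 0, nat_lit 0x468, nat_lit 0), (nat_lit 0x294e7, nat_lit 0x468, nat_lit 0), (nat_lit 167, nat_lit 0x468, nat_lit 0)]),
  (nat_lit 0x8468, [(nat_lit 0, nat_lit 0x8468, nat_lit 0), (nat_lit 0x14e7, nat_lit 0x8468, nat_lit 0), (nat_lit 0x14a7, nat_lit 0x8468, nat_lit 0)]),
  (nat_lit 0x868, [(nat_lit 0, nat_lit 0x868, nat_lit 0), (nat_lit 0x18e7, nat_lit 0x868, nat_lit 0), (nat_lit 0x18c7, nat_lit 0x868, nat_lit 0)]),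
  (nat_lit 0x10868, [(nat_lit 0, nat_lit 0x10868, nat_lit 0), (nat_lit 0x318e7, nat_lit 0x10868, nat_lit 0), (nat_lit 199, nat_lit 0x10868, nat_lit 0)]),
  (nat_lit 136, [(nat_lit 0, nat_lit 136, nat_lit 0), (nat_lit 11, nat_lit 136, nat_lit 0), (nat_lit 7, nat_lit 136, nat_lit 0)]),
  (nat_lit 0xc88, [(nat_lit 0, nat_lit 0xc88, nat_lit 0), (nat_lit 11, nat_lit 0xc88, nat_lit 0), (nat_lit 7, nat_lit 0xc88, nat_lit 0)]),
  (nat_lit 0x8c88, [(nat_lit 0, nat_lit 0x8c88, nat_lit 0), (nat_lit 11, nat_lit 0x8c88, nat_lit 0), (nat_lit 167, nat_lit 0x8c88, nat_lit 0)]),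
  (nat_lit 0x108c88, [(nat_lit 0, nat_lit 0x108c88, nat_lit 0), (nat_lit 11, nat_lit 0x108c88, nat_lit 0), (nat_lit 363, nat_lit 0x108c88, nat_lit 0)]),
  (nat_lit 0x10c88, [(nat_lit 0, nat_lit 0x10c88, nat_lit 0), (nat_lit 11, nat_lit 0x10c88, nat_lit 0), (nat_lit 363, nat_lit 0x10c88, nat_lit 0)]),
  (nat_lit 0x210c88, [(nat_lit 0, nat_lit 0x210c88, nat_lit 0), (nat_lit 11, nat_lit 0x210c88, nat_lit 0), (nat_lit 199, nat_lit 0x210c88, nat_lit 0)]),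
  (nat_lit 232, [(nat_lit 0, nat_lit 232, nat_lit 0), (nat_lit 8, nat_lit 232, nat_lit 0), (nat_lit 7, nat_lit 232, nat_lit 0)]),
  (nat_lit 0x10e8, [(nat_lit 0, nat_lit 0x10e8, nat_lit 0), (nat_lit 8, nat_lit 0x10e8, nat_lit 0), (nat_lit 7, nat_lit 0x10e8, nat_lit 0)]),
  (nat_lit 0x210e8, [(nat_lit 0, nat_lit 0x210e8, nat_lit 0), (nat_lit 8, nat_lit 0x210e8, nat_lit 0), (nat_lit 7, nat_lit 0x210e8, nat_lit 0)]),
  (nat_lit 0x14e8, [(nat_lit 0, nat_lit 0x14e8, nat_lit 0), (nat_lit 8, nat_lit 0x14e8, nat_lit 0), (nat_lit 7, nat_lit 0x14e8, nat_lit 0)]),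
  (nat_lit 0x214e8, [(nat_lit 0, nat_lit 0x214e8, nat_lit 0), (nat_lit 8, nat_lit 0x214e8, nat_lit 0), (nat_lit 7, nat_lit 0x214e8, nat_lit 0)]),
  (nat_lit 0x4214e8, [(nat_lit 0, nat_lit 0x4214e8, nat_lit 0), (nat_lit 8, nat_lit 0x4214e8, nat_lit 0), (nat_lit 7, nat_lit 0x4214e8, nat_lit 0)]),
  (nat_lit 0x294e8, [(nat_lit 0, nat_lit 0x294e8, nat_lit 0), (nat_lit 8, nat_lit 0x294e8, nat_lit 0), (nat_lit 7, nat_lit 0x294e8, nat_lit 0)]),
  (nat_lit 0x18e8, [(nat_lit 0, nat_lit 0x18e8, nat_lit 0), (nat_lit 8, nat_lit 0x18e8, nat_lit 0), (nat_lit 7, nat_lit 0x18e8, nat_lit 0)]),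
  (nat_lit 0x218e8, [(nat_lit 0, nat_lit 0x218e8, nat_lit 0), (nat_lit 8, nat_lit 0x218e8, nat_lit 0), (nat_lit 7, nat_lit 0x218e8, nat_lit 0)]),
  (nat_lit 0x298e8, [(nat_lit 0, nat_lit 0x298e8, nat_lit 0), (nat_lit 8, nat_lit 0x298e8, nat_lit 0), (nat_lit 7, nat_lit 0x298e8, nat_lit 0)]),
  (nat_lit 0x5298e8, [(nat_lit 0, nat_lit 0x5298e8, nat_lit 0), (nat_lit 8, nat_lit 0x5298e8, nat_lit 0), (nat_lit 7, nat_lit 0x5298e8, nat_lit 0)]),
  (nat_lit 0x318e8, [(nat_lit 0, nat_lit 0x318e8, nat_lit 0), (nat_lit 8, nat_lit 0x318e8, nat_lit 0), (nat_lit 7, nat_lit 0x318e8, nat_lit 0)]),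
  (nat_lit 0x4318e8, [(nat_lit 0, nat_lit 0x4318e8, nat_lit 0), (nat_lit 8, nat_lit 0x4318e8, nat_lit 0), (nat_lit 7, nat_lit 0x4318e8, nat_lit 0)]),
  (nat_lit 0x5318e8, [(nat_lit 0, nat_lit 0x5318e8, nat_lit 0), (nat_lit 8, nat_lit 0x5318e8, nat_lit 0), (nat_lit 7, nat_lit 0x5318e8, nat_lit 0)]),
  (nat_lit 0x531ce8, [(nat_lit 0, nat_lit 0x531ce8, nat_lit 0), (nat_lit 9, nat_lit 0x531ce8, nat_lit 0), (nat_lit 7, nat_lit 0x531ce8, nat_lit 0)]),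
  (nat_lit 9, [(nat_lit 0, nat_lit 9, nat_lit 0), (nat_lit 198, nat_lit 9, nat_lit 0), (nat_lit 6, nat_lit 9, nat_lit 0)]),
  (nat_lit 73, [(nat_lit 0, nat_lit 73, nat_lit 0), (nat_lit 198, nat_lit 73, nat_lit 0), (nat_lit 6, nat_lit 73, nat_lit 0)]),
  (nat_lit 0x449, [(nat_lit 0, nat_lit 0x449, nat_lit 0), (nat_lit 0x294c6, nat_lit 0x449, nat_lit 0), (nat_lit 166, nat_lit 0x449, nat_lit 0)]),
  (nat_lit 0x8449, [(nat_lit 0, nat_lit 0x8449, nat_lit 0), (nat_lit 0x14c6, nat_lit 0x8449, nat_lit 0), (nat_lit 0x14a6, nat_lit 0x8449, nat_lit 0)]),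
  (nat_lit 137, [(nat_lit 0, nat_lit 137, nat_lit 0), (nat_lit 11, nat_lit 137, nat_lit 0), (nat_lit 6, nat_lit 137, nat_lit 0)]),
  (nat_lit 0x889, [(nat_lit 0, nat_lit 0x889, nat_lit 0), (nat_lit 11, nat_lit 0x889, nat_lit 0), (nat_lit 6, nat_lit 0x889, nat_lit 0)]),
  (nat_lit 0x8889, [(nat_lit 0, nat_lit 0x8889, nat_lit 0), (nat_lit 11, nat_lit 0x8889, nat_lit 0), (nat_lit 166, nat_lit 0x8889, nat_lit 0)]),
  (nat_lit 0x108889, [(nat_lit 0, nat_lit 0x108889, nat_lit 0), (nat_lit 11, nat_lit 0x108889, nat_lit 0), (nat_lit 363, nat_lit 0x108889, nat_lit 0)]),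
  (nat_lit 0x10c89, [(nat_lit 0, nat_lit 0x10c89, nat_lit 0), (nat_lit 11, nat_lit 0x10c89, nat_lit 0), (nat_lit 363, nat_lit 0x10c89, nat_lit 0)]),
  (nat_lit 201, [(nat_lit 0, nat_lit 201, nat_lit 0), (nat_lit 9, nat_lit 201, nat_lit 0), (nat_lit 6, nat_lit 201, nat_lit 0)]),
  (nat_lit 0x10c9, [(nat_lit 0, nat_lit 0x10c9, nat_lit 0), (nat_lit 9, nat_lit 0x10c9, nat_lit 0), (nat_lit 6, nat_lit 0x10c9, nat_lit 0)]),
  (nat_lit 0x210c9, [(nat_lit 0, nat_lit 0x210c9, nat_lit 0), (nat_lit 9, nat_lit 0x210c9, nat_lit 0), (nat_lit 6, nat_lit 0x210c9, nat_lit 0)]),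
  (nat_lit 0x14c9, [(nat_lit 0, nat_lit 0x14c9, nat_lit 0), (nat_lit 9, nat_lit 0x14c9, nat_lit 0), (nat_lit 6, nat_lit 0x14c9, nat_lit 0)]),
  (nat_lit 0x214c9, [(nat_lit 0, nat_lit 0x214c9, nat_lit 0), (nat_lit 9, nat_lit 0x214c9, nat_lit 0), (nat_lit 6, nat_lit 0x214c9, nat_lit 0)]),
  (nat_lit 0x294c9, [(nat_lit 0, nat_lit 0x294c9, nat_lit 0), (nat_lit 9, nat_lit 0x294c9, nat_lit 0), (nat_lit 6, nat_lit 0x294c9, nat_lit 0)]),
  (nat_lit 0x218e9, [(nat_lit 0, nat_lit 0x218e9, nat_lit 0), (nat_lit 8, nat_lit 0x218e9, nat_lit 0), (nat_lit 6, nat_lit 0x218e9, nat_lit 0)]),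
  (nat_lit 0x4318e9, [(nat_lit 0, nat_lit 0x4318e9, nat_lit 0), (nat_lit 8, nat_lit 0x4318e9, nat_lit 0), (nat_lit 6, nat_lit 0x4318e9, nat_lit 0)]),
  (nat_lit 265, [(nat_lit 0, nat_lit 265, nat_lit 0), (nat_lit 198, nat_lit 265, nat_lit 0), (nat_lit 6, nat_lit 265, nat_lit 0)]),
  (nat_lit 0x1109, [(nat_lit 0, nat_lit 0x1109, nat_lit 0), (nat_lit 11, nat_lit 0x1109, nat_lit 0), (nat_lit 6, nat_lit 0x1109, nat_lit 0)]),
  (nat_lit 0x21109, [(nat_lit 0, nat_lit 0x21109, nat_lit 0), (nat_lit 198, nat_lit 0x21109, nat_lit 0), (nat_lit 6, nat_lit 0x21109, nat_lit 0)]),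
  (nat_lit 0x21909, [(nat_lit 0, nat_lit 0x21909, nat_lit 0), (nat_lit 9, nat_lit 0x21909, nat_lit 0), (nat_lit 6, nat_lit 0x21909, nat_lit 0)]),
  (nat_lit 0x2109, [(nat_lit 0, nat_lit 0x2109, nat_lit 0), (nat_lit 7, nat_lit 0x2109, nat_lit 0), (nat_lit 6, nat_lit 0x2109, nat_lit 0)]),
  (nat_lit 0x22109, [(nat_lit 0, nat_lit 0x22109, nat_lit 0), (nat_lit 7, nat_lit 0x22109, nat_lit 0), (nat_lit 6, nat_lit 0x22109, nat_lit 0)]),
  (nat_lit 0x22129, [(nat_lit 0, nat_lit 0x22129, nat_lit 0), (nat_lit 6, nat_lit 0x22129, nat_lit 0), (nat_lit 7, nat_lit 0x22129, nat_lit 0)]),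
  (nat_lit 10, [(nat_lit 0, nat_lit 10, nat_lit 0), (nat_lit 5, nat_lit 10, nat_lit 0), (nat_lit 165, nat_lit 10, nat_lit 0)]),
  (nat_lit 42, [(nat_lit 0, nat_lit 42, nat_lit 0), (nat_lit 5, nat_lit 42, nat_lit 0), (nat_lit 165, nat_lit 42, nat_lit 0)]),
  (nat_lit 138, [(nat_lit 0, nat_lit 138, nat_lit 0), (nat_lit 5, nat_lit 138, nat_lit 0), (nat_lit 165, nat_lit 138, nat_lit 0)]),
  (nat_lit 0x48a, [(nat_lit 0, nat_lit 0x48a, nat_lit 0), (nat_lit 5, nat_lit 0x48a, nat_lit 0), (nat_lit 165, nat_lit 0x48a, nat_lit 0)]),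
  (nat_lit 0x888a, [(nat_lit 0, nat_lit 0x888a, nat_lit 0), (nat_lit 11, nat_lit 0x888a, nat_lit 0), (nat_lit 363, nat_lit 0x888a, nat_lit 0)]),
  (nat_lit 0x8c8a, [(nat_lit 0, nat_lit 0x8c8a, nat_lit 0), (nat_lit 11, nat_lit 0x8c8a, nat_lit 0), (nat_lit 363, nat_lit 0x8c8a, nat_lit 0)]),
  (nat_lit 0x108a, [(nat_lit 0, nat_lit 0x108a, nat_lit 0), (nat_lit 5, nat_lit 0x108a, nat_lit 0), (nat_lit 11, nat_lit 0x108a, nat_lit 0)]),
  (nat_lit 0x908a, [(nat_lit 0, nat_lit 0x908a, nat_lit 0), (nat_lit 5, nat_lit 0x908a, nat_lit 0), (nat_lit 11, nat_lit 0x908a, nat_lit 0)]),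
  (nat_lit 170, [(nat_lit 0, nat_lit 170, nat_lit 0), (nat_lit 5, nat_lit 170, nat_lit 0), (nat_lit 10, nat_lit 170, nat_lit 0)]),
  (nat_lit 0x10aa, [(nat_lit 0, nat_lit 0x10aa, nat_lit 0), (nat_lit 5, nat_lit 0x10aa, nat_lit 0), (nat_lit 10, nat_lit 0x10aa, nat_lit 0)]),
  (nat_lit 0x210aa, [(nat_lit 0, nat_lit 0x210aa, nat_lit 0), (nat_lit 5, nat_lit 0x210aa, nat_lit 0), (nat_lit 10, nat_lit 0x210aa, nat_lit 0)]),
  (nat_lit 0x214ca, [(nat_lit 0, nat_lit 0x214ca, nat_lit 0), (nat_lit 5, nat_lit 0x214ca, nat_lit 0), (nat_lit 10, nat_lit 0x214ca, nat_lit 0)]),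
  (nat_lit 0x4214ca, [(nat_lit 0, nat_lit 0x4214ca, nat_lit 0), (nat_lit 5, nat_lit 0x4214ca, nat_lit 0), (nat_lit 10, nat_lit 0x4214ca, nat_lit 0)]),
  (nat_lit 0x214ea, [(nat_lit 0, nat_lit 0x214ea, nat_lit 0), (nat_lit 5, nat_lit 0x214ea, nat_lit 0), (nat_lit 10, nat_lit 0x214ea, nat_lit 0)]),
  (nat_lit 0x4214ea, [(nat_lit 0, nat_lit 0x4214ea, nat_lit 0), (nat_lit 5, nat_lit 0x4214ea, nat_lit 0), (nat_lit 10, nat_lit 0x4214ea, nat_lit 0)]),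
  (nat_lit 0x4298ea, [(nat_lit 0, nat_lit 0x4298ea, nat_lit 0), (nat_lit 5, nat_lit 0x4298ea, nat_lit 0), (nat_lit 10, nat_lit 0x4298ea, nat_lit 0)]),
  (nat_lit 266, [(nat_lit 0, nat_lit 266, nat_lit 0), (nat_lit 5, nat_lit 266, nat_lit 0), (nat_lit 7, nat_lit 266, nat_lit 0)]),
  (nat_lit 0x110a, [(nat_lit 0, nat_lit 0x110a, nat_lit 0), (nat_lit 5, nat_lit 0x110a, nat_lit 0), (nat_lit 7, nat_lit 0x110a, nat_lit 0)]),
  (nat_lit 0x2110a, [(nat_lit 0, nat_lit 0x2110a, nat_lit 0), (nat_lit 5, nat_lit 0x2110a, nat_lit 0), (nat_lit 7, nat_lit 0x2110a, nat_lit 0)]),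
  (nat_lit 0x190a, [(nat_lit 0, nat_lit 0x190a, nat_lit 0), (nat_lit 5, nat_lit 0x190a, nat_lit 0), (nat_lit 7, nat_lit 0x190a, nat_lit 0)]),
  (nat_lit 0x429d0a, [(nat_lit 0, nat_lit 0x429d0a, nat_lit 0), (nat_lit 5, nat_lit 0x429d0a, nat_lit 0), (nat_lit 7, nat_lit 0x429d0a, nat_lit 0)]),
  (nat_lit 0x210a, [(nat_lit 0, nat_lit 0x210a, nat_lit 0), (nat_lit 5, nat_lit 0x210a, nat_lit 0), (nat_lit 165, nat_lit 0x210a, nat_lit 0)]),
  (nat_lit 0x2210a, [(nat_lit 0, nat_lit 0x2210a, nat_lit 0), (nat_lit 5, nat_lit 0x2210a, nat_lit 0), (nat_lit 165, nat_lit 0x2210a, nat_lit 0)]),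
  (nat_lit 298, [(nat_lit 0, nat_lit 298, nat_lit 0), (nat_lit 5, nat_lit 298, nat_lit 0), (nat_lit 6, nat_lit 298, nat_lit 0)]),
  (nat_lit 0x112a, [(nat_lit 0, nat_lit 0x112a, nat_lit 0), (nat_lit 5, nat_lit 0x112a, nat_lit 0), (nat_lit 6, nat_lit 0x112a, nat_lit 0)]),
  (nat_lit 0x2112a, [(nat_lit 0, nat_lit 0x2112a, nat_lit 0), (nat_lit 5, nat_lit 0x2112a, nat_lit 0), (nat_lit 6, nat_lit 0x2112a, nat_lit 0)]),
  (nat_lit 0x42992a, [(nat_lit 0, nat_lit 0x42992a, nat_lit 0), (nat_lit 5, nat_lit 0x42992a, nat_lit 0), (nat_lit 6, nat_lit 0x42992a, nat_lit 0)]),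
  (nat_lit 0x1d2a, [(nat_lit 0, nat_lit 0x1d2a, nat_lit 0), (nat_lit 5, nat_lit 0x1d2a, nat_lit 0), (nat_lit 6, nat_lit 0x1d2a, nat_lit 0)]),
  (nat_lit 0x212a, [(nat_lit 0, nat_lit 0x212a, nat_lit 0), (nat_lit 5, nat_lit 0x212a, nat_lit 0), (nat_lit 6, nat_lit 0x212a, nat_lit 0)]),
  (nat_lit 0x2212a, [(nat_lit 0, nat_lit 0x2212a, nat_lit 0), (nat_lit 5, nat_lit 0x2212a, nat_lit 0), (nat_lit 6, nat_lit 0x2212a, nat_lit 0)]),
  (nat_lit 0x842a12a, [(nat_lit 0, nat_lit 0x842a12a, nat_lit 0), (nat_lit 5, nat_lit 0x842a12a, nat_lit 0), (nat_lit 6, nat_lit 0x842a12a, nat_lit 0)]),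
  (nat_lit 0x863a12a, [(nat_lit 0, nat_lit 0x863a12a, nat_lit 0), (nat_lit 5, nat_lit 0x863a12a, nat_lit 0), (nat_lit 6, nat_lit 0x863a12a, nat_lit 0)]),
  (nat_lit 0x4212a, [(nat_lit 0, nat_lit 0x4212a, nat_lit 0), (nat_lit 5, nat_lit 0x4212a, nat_lit 0), (nat_lit 6, nat_lit 0x4212a, nat_lit 0)]),
  (nat_lit 0x844212a, [(nat_lit 0, nat_lit 0x844212a, nat_lit 0), (nat_lit 5, nat_lit 0x844212a, nat_lit 0), (nat_lit 6, nat_lit 0x844212a, nat_lit 0)]),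
  (nat_lit 0x854212a, [(nat_lit 0, nat_lit 0x854212a, nat_lit 0), (nat_lit 5, nat_lit 0x854212a, nat_lit 0), (nat_lit 6, nat_lit 0x854212a, nat_lit 0)]),
  (nat_lit 0x252a, [(nat_lit 0, nat_lit 0x252a, nat_lit 0), (nat_lit 5, nat_lit 0x252a, nat_lit 0), (nat_lit 165, nat_lit 0x252a, nat_lit 0)]),
  (nat_lit 0x2252a, [(nat_lit 0, nat_lit 0x2252a, nat_lit 0), (nat_lit 5, nat_lit 0x2252a, nat_lit 0), (nat_lit 165, nat_lit 0x2252a, nat_lit 0)]),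
  (nat_lit 0x4252a, [(nat_lit 0, nat_lit 0x4252a, nat_lit 0), (nat_lit 5, nat_lit 0x4252a, nat_lit 0), (nat_lit 7, nat_lit 0x4252a, nat_lit 0)]),
  (nat_lit 0x844252a, [(nat_lit 0, nat_lit 0x844252a, nat_lit 0), (nat_lit 5, nat_lit 0x844252a, nat_lit 0), (nat_lit 7, nat_lit 0x844252a, nat_lit 0)]),
  (nat_lit 0x854252a, [(nat_lit 0, nat_lit 0x854252a, nat_lit 0), (nat_lit 5, nat_lit 0x854252a, nat_lit 0), (nat_lit 7, nat_lit 0x854252a, nat_lit 0)]),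
  (nat_lit 0x884252a, [(nat_lit 0, nat_lit 0x884252a, nat_lit 0), (nat_lit 5, nat_lit 0x884252a, nat_lit 0), (nat_lit 165, nat_lit 0x884252a, nat_lit 0)]),
  (nat_lit 0x2214a, [(nat_lit 0, nat_lit 0x2214a, nat_lit 0), (nat_lit 11, nat_lit 0x2214a, nat_lit 0), (nat_lit 5, nat_lit 0x2214a, nat_lit 0)]),
  (nat_lit 0x2254a, [(nat_lit 0, nat_lit 0x2254a, nat_lit 0), (nat_lit 11, nat_lit 0x2254a, nat_lit 0), (nat_lit 5, nat_lit 0x2254a, nat_lit 0)]),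
  (nat_lit 0x4254a, [(nat_lit 0, nat_lit 0x4254a, nat_lit 0), (nat_lit 165, nat_lit 0x4254a, nat_lit 0), (nat_lit 5, nat_lit 0x4254a, nat_lit 0)]),
  (nat_lit 0x44254a, [(nat_lit 0, nat_lit 0x44254a, nat_lit 0), (nat_lit 11, nat_lit 0x44254a, nat_lit 0), (nat_lit 5, nat_lit 0x44254a, nat_lit 0)]),
  (nat_lit 11, [(nat_lit 0, nat_lit 11, nat_lit 0), (nat_lit 132, nat_lit 11, nat_lit 0), (nat_lit 4, nat_lit 11, nat_lit 0)]),
  (nat_lit 139, [(nat_lit 0, nat_lit 139, nat_lit 0), (nat_lit 11, nat_lit 139, nat_lit 0), (nat_lit 4, nat_lit 139, nat_lit 0)]),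
  (nat_lit 171, [(nat_lit 0, nat_lit 171, nat_lit 0), (nat_lit 132, nat_lit 171, nat_lit 0), (nat_lit 4, nat_lit 171, nat_lit 0)]),
  (nat_lit 0x14ab, [(nat_lit 0, nat_lit 0x14ab, nat_lit 0), (nat_lit 10, nat_lit 0x14ab, nat_lit 0), (nat_lit 4, nat_lit 0x14ab, nat_lit 0)]),
  (nat_lit 203, [(nat_lit 0, nat_lit 203, nat_lit 0), (nat_lit 9, nat_lit 203, nat_lit 0), (nat_lit 4, nat_lit 203, nat_lit 0)]),
  (nat_lit 0x14cb, [(nat_lit 0, nat_lit 0x14cb, nat_lit 0), (nat_lit 9, nat_lit 0x14cb, nat_lit 0), (nat_lit 4, nat_lit 0x14cb, nat_lit 0)]),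
  (nat_lit 0x294cb, [(nat_lit 0, nat_lit 0x294cb, nat_lit 0), (nat_lit 9, nat_lit 0x294cb, nat_lit 0), (nat_lit 4, nat_lit 0x294cb, nat_lit 0)]),
  (nat_lit 0x298cb, [(nat_lit 0, nat_lit 0x298cb, nat_lit 0), (nat_lit 132, nat_lit 0x298cb, nat_lit 0), (nat_lit 4, nat_lit 0x298cb, nat_lit 0)]),
  (nat_lit 235, [(nat_lit 0, nat_lit 235, nat_lit 0), (nat_lit 8, nat_lit 235, nat_lit 0), (nat_lit 4, nat_lit 235, nat_lit 0)]),
  (nat_lit 0x14eb, [(nat_lit 0, nat_lit 0x14eb, nat_lit 0), (nat_lit 8, nat_lit 0x14eb, nat_lit 0), (nat_lit 4, nat_lit 0x14eb, nat_lit 0)]),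
  (nat_lit 0x294eb, [(nat_lit 0, nat_lit 0x294eb, nat_lit 0), (nat_lit 8, nat_lit 0x294eb, nat_lit 0), (nat_lit 4, nat_lit 0x294eb, nat_lit 0)]),
  (nat_lit 0x18eb, [(nat_lit 0, nat_lit 0x18eb, nat_lit 0), (nat_lit 8, nat_lit 0x18eb, nat_lit 0), (nat_lit 4, nat_lit 0x18eb, nat_lit 0)]),
  (nat_lit 0x298eb, [(nat_lit 0, nat_lit 0x298eb, nat_lit 0), (nat_lit 8, nat_lit 0x298eb, nat_lit 0), (nat_lit 4, nat_lit 0x298eb, nat_lit 0)]),
  (nat_lit 0x318eb, [(nat_lit 0, nat_lit 0x318eb, nat_lit 0), (nat_lit 8, nat_lit 0x318eb, nat_lit 0), (nat_lit 4, nat_lit 0x318eb, nat_lit 0)]),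
  (nat_lit 0xa5318eb, [(nat_lit 0, nat_lit 0xa5318eb, nat_lit 0), (nat_lit 8, nat_lit 0xa5318eb, nat_lit 0), (nat_lit 4, nat_lit 0xa5318eb, nat_lit 0)]),
  (nat_lit 0x29ceb, [(nat_lit 0, nat_lit 0x29ceb, nat_lit 0), (nat_lit 132, nat_lit 0x29ceb, nat_lit 0), (nat_lit 4, nat_lit 0x29ceb, nat_lit 0)]),
  (nat_lit 0x31ceb, [(nat_lit 0, nat_lit 0x31ceb, nat_lit 0), (nat_lit 9, nat_lit 0x31ceb, nat_lit 0), (nat_lit 4, nat_lit 0x31ceb, nat_lit 0)]),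
  (nat_lit 0xa531ceb, [(nat_lit 0, nat_lit 0xa531ceb, nat_lit 0), (nat_lit 9, nat_lit 0xa531ceb, nat_lit 0), (nat_lit 4, nat_lit 0xa531ceb, nat_lit 0)]),
  (nat_lit 0xa631ceb, [(nat_lit 0, nat_lit 0xa631ceb, nat_lit 0), (nat_lit 132, nat_lit 0xa631ceb, nat_lit 0), (nat_lit 4, nat_lit 0xa631ceb, nat_lit 0)]),
  (nat_lit 0x2996b, [(nat_lit 0, nat_lit 0x2996b, nat_lit 0), (nat_lit 4, nat_lit 0x2996b, nat_lit 0), (nat_lit 10, nat_lit 0x2996b, nat_lit 0)]),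
  (nat_lit 0x29d6b, [(nat_lit 0, nat_lit 0x29d6b, nat_lit 0), (nat_lit 4, nat_lit 0x29d6b, nat_lit 0), (nat_lit 10, nat_lit 0x29d6b, nat_lit 0)]),
  (nat_lit 0x31d6b, [(nat_lit 0, nat_lit 0x31d6b, nat_lit 0), (nat_lit 4, nat_lit 0x31d6b, nat_lit 0), (nat_lit 132, nat_lit 0x31d6b, nat_lit 0)])]
def c13 : List (ℕ × ℕ × ℕ) := [(nat_lit 0, nat_lit 0, nat_lit 0),
  (nat_lit 1, nat_lit 0, nat_lit 1),
  (nat_lit 2, nat_lit 0x83e30, nat_lit 1),
  (nat_lit 34, nat_lit 0, nat_lit 34),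
  (nat_lit 0x422, nat_lit 16, nat_lit 166),
  (nat_lit 3, nat_lit 0x83e50, nat_lit 1),
  (nat_lit 35, nat_lit 0, nat_lit 35),
  (nat_lit 0x423, nat_lit 16, nat_lit 167),
  (nat_lit 67, nat_lit 0, nat_lit 67),
  (nat_lit 0x443, nat_lit 0, nat_lit 0x443),
  (nat_lit 0x8443, nat_lit 16, nat_lit 0x14c7),
  (nat_lit 0x843, nat_lit 0, nat_lit 0x843),
  (nat_lit 0x8843, nat_lit 0, nat_lit 0x8843),
  (nat_lit 0x8863, nat_lit 0, nat_lit 0x8863),
  (nat_lit 4, nat_lit 527, nat_lit 1),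
  (nat_lit 36, nat_lit 0, nat_lit 36),
  (nat_lit 68, nat_lit 0xc60f, nat_lit 36),
  (nat_lit 0x444, nat_lit 0, nat_lit 0),
  (nat_lit 0x8444, nat_lit 0, nat_lit 0),
  (nat_lit 100, nat_lit 0xca0f, nat_lit 36),
  (nat_lit 0x464, nat_lit 0, nat_lit 0),
  (nat_lit 0x8464, nat_lit 0, nat_lit 0),
  (nat_lit 0x864, nat_lit 0, nat_lit 0),
  (nat_lit 0x8864, nat_lit 0, nat_lit 0),
  (nat_lit 0x108864, nat_lit 0, nat_lit 0),
  (nat_lit 0x10864, nat_lit 0, nat_lit 0),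
  (nat_lit 0x110864, nat_lit 0, nat_lit 0),
  (nat_lit 0x110c64, nat_lit 0, nat_lit 0),
  (nat_lit 5, nat_lit 16, nat_lit 1),
  (nat_lit 69, nat_lit 0x630, nat_lit 36),
  (nat_lit 0x445, nat_lit 0x9a30, nat_lit 36),
  (nat_lit 0x8445, nat_lit 0xc490, nat_lit 36),
  (nat_lit 101, nat_lit 0x650, nat_lit 36),
  (nat_lit 0x465, nat_lit 0x9e50, nat_lit 36),
  (nat_lit 0x8465, nat_lit 0xc890, nat_lit 36),
  (nat_lit 0x865, nat_lit 0, nat_lit 0),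
  (nat_lit 0x8865, nat_lit 0, nat_lit 0),
  (nat_lit 0x108865, nat_lit 0, nat_lit 0),
  (nat_lit 0x10865, nat_lit 0, nat_lit 0),
  (nat_lit 0x110865, nat_lit 0, nat_lit 0),
  (nat_lit 0x110c65, nat_lit 0, nat_lit 0),
  (nat_lit 6, nat_lit 0x41f1, nat_lit 1),
  (nat_lit 38, nat_lit 17, nat_lit 36),
  (nat_lit 102, nat_lit 0x1941f1, nat_lit 36),
  (nat_lit 0x466, nat_lit 0, nat_lit 0),
  (nat_lit 0x8466, nat_lit 0, nat_lit 0),
  (nat_lit 0x866, nat_lit 0x2db183e50, nat_lit 36),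
  (nat_lit 0x8866, nat_lit 0, nat_lit 0),
  (nat_lit 0x108866, nat_lit 0, nat_lit 0),
  (nat_lit 0x10866, nat_lit 0x357183e50, nat_lit 36),
  (nat_lit 0x110866, nat_lit 0, nat_lit 0),
  (nat_lit 0x110c66, nat_lit 0, nat_lit 0),
  (nat_lit 166, nat_lit 0, nat_lit 166),
  (nat_lit 0xca6, nat_lit 0, nat_lit 0),
  (nat_lit 0x8ca6, nat_lit 0, nat_lit 0),
  (nat_lit 0x108ca6, nat_lit 0, nat_lit 0),
  (nat_lit 0x10ca6, nat_lit 0, nat_lit 0),
  (nat_lit 0x110ca6, nat_lit 0, nat_lit 0),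
  (nat_lit 0x210ca6, nat_lit 0, nat_lit 0),
  (nat_lit 0x2218ca6, nat_lit 0, nat_lit 0),
  (nat_lit 0x10a6, nat_lit 0x5f1, nat_lit 166),
  (nat_lit 0x190a6, nat_lit 0, nat_lit 0),
  (nat_lit 0x21190a6, nat_lit 0, nat_lit 0),
  (nat_lit 0x42190a6, nat_lit 0, nat_lit 0),
  (nat_lit 0x14a6, nat_lit 464, nat_lit 34),
  (nat_lit 0x194a6, nat_lit 0, nat_lit 0),
  (nat_lit 0x1194a6, nat_lit 0, nat_lit 0),
  (nat_lit 0x422194a6, nat_lit 0, nat_lit 0),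
  (nat_lit 0x42194a6, nat_lit 0, nat_lit 0),
  (nat_lit 7, nat_lit 0x41f2, nat_lit 1),
  (nat_lit 39, nat_lit 18, nat_lit 36),
  (nat_lit 71, nat_lit 0x18c1f2, nat_lit 36),
  (nat_lit 0x447, nat_lit 0, nat_lit 0),
  (nat_lit 0x8447, nat_lit 0, nat_lit 0),
  (nat_lit 0x8867, nat_lit 0, nat_lit 0),
  (nat_lit 0x108867, nat_lit 0, nat_lit 0),
  (nat_lit 0x110867, nat_lit 0, nat_lit 0),
  (nat_lit 0x110c67, nat_lit 0, nat_lit 0),
  (nat_lit 167, nat_lit 0, nat_lit 167),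
  (nat_lit 0x8a7, nat_lit 0, nat_lit 0),
  (nat_lit 0x88a7, nat_lit 0, nat_lit 0),
  (nat_lit 0x1088a7, nat_lit 0, nat_lit 0),
  (nat_lit 0x10ca7, nat_lit 0, nat_lit 0),
  (nat_lit 0x2210ca7, nat_lit 0, nat_lit 0),
  (nat_lit 0x10a7, nat_lit 0x5f2, nat_lit 167),
  (nat_lit 0x110a7, nat_lit 0, nat_lit 0),
  (nat_lit 0x21110a7, nat_lit 0, nat_lit 0),
  (nat_lit 0x14a7, nat_lit 464, nat_lit 35),
  (nat_lit 0x114a7, nat_lit 0, nat_lit 0),
  (nat_lit 0x1114a7, nat_lit 0, nat_lit 0),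
  (nat_lit 199, nat_lit 464, nat_lit 67),
  (nat_lit 0x4c7, nat_lit 0, nat_lit 0),
  (nat_lit 0x1088c7, nat_lit 0, nat_lit 0),
  (nat_lit 0x108cc7, nat_lit 0, nat_lit 0),
  (nat_lit 0x14c7, nat_lit 0, nat_lit 0x14c7),
  (nat_lit 0x214c7, nat_lit 0xbc2e, nat_lit 0x14c7),
  (nat_lit 0x294c7, nat_lit 464, nat_lit 0x443),
  (nat_lit 0x4294c7, nat_lit 0x34222, nat_lit 0x443),
  (nat_lit 0x18c7, nat_lit 464, nat_lit 0x843),
  (nat_lit 0x98c7, nat_lit 0, nat_lit 0),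
  (nat_lit 0x298c7, nat_lit 16, nat_lit 0x8863),
  (nat_lit 0x4298c7, nat_lit 0x583c21, nat_lit 0x8863),
  (nat_lit 0x298e7, nat_lit 16, nat_lit 0x8843),
  (nat_lit 0x4298e7, nat_lit 0x583c21, nat_lit 0x8843),
  (nat_lit 8, nat_lit 529, nat_lit 1),
  (nat_lit 104, nat_lit 0xca11, nat_lit 36),
  (nat_lit 0x468, nat_lit 0x13ca11, nat_lit 36),
  (nat_lit 0x8468, nat_lit 0x191211, nat_lit 36),
  (nat_lit 0x868, nat_lit 0x2e307ca0f, nat_lit 36),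
  (nat_lit 0x8868, nat_lit 0x18eb8c2507c606, nat_lit 36),
  (nat_lit 0x108868, nat_lit 0x5c48a742507c450, nat_lit 36),
  (nat_lit 0x10868, nat_lit 0x460f9120f, nat_lit 36),
  (nat_lit 0x110868, nat_lit 0x1e24848b07c606, nat_lit 36),
  (nat_lit 0x110c68, nat_lit 0x3357184a0f88a30, nat_lit 36),
  (nat_lit 136, nat_lit 527, nat_lit 34),
  (nat_lit 0xc88, nat_lit 0, nat_lit 0),
  (nat_lit 0x8c88, nat_lit 0, nat_lit 0),
  (nat_lit 0x108c88, nat_lit 0, nat_lit 0),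
  (nat_lit 0x10c88, nat_lit 0, nat_lit 0),
  (nat_lit 0x210c88, nat_lit 0, nat_lit 0),
  (nat_lit 232, nat_lit 0x1184a0f, nat_lit 36),
  (nat_lit 0x10e8, nat_lit 0xd184a0f, nat_lit 36),
  (nat_lit 0x210e8, nat_lit 0x22484a0f, nat_lit 36),
  (nat_lit 0x14e8, nat_lit 0x5a78ca11, nat_lit 36),
  (nat_lit 0x214e8, nat_lit 0x2671e3024a11, nat_lit 36),
  (nat_lit 0x4214e8, nat_lit 0x2e3c60484a11, nat_lit 36),
  (nat_lit 0x294e8, nat_lit 0x4ed8ca11, nat_lit 36),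
  (nat_lit 0x18e8, nat_lit 0x17184a0f, nat_lit 36),
  (nat_lit 0x218e8, nat_lit 0x197184a0f, nat_lit 36),
  (nat_lit 0x298e8, nat_lit 0x2e2453a1283e22, nat_lit 36),
  (nat_lit 0x5298e8, nat_lit 0x18eb8c2507c442, nat_lit 36),
  (nat_lit 0x318e8, nat_lit 0x2309160f, nat_lit 36),
  (nat_lit 0x4318e8, nat_lit 0x1a309160f, nat_lit 36),
  (nat_lit 0x5318e8, nat_lit 0x1a2a7424583e22, nat_lit 36),
  (nat_lit 0x531ce8, nat_lit 0x1da65c61283e22, nat_lit 36),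
  (nat_lit 9, nat_lit 530, nat_lit 1),
  (nat_lit 73, nat_lit 0xc612, nat_lit 36),
  (nat_lit 0x449, nat_lit 0x134612, nat_lit 36),
  (nat_lit 0x8449, nat_lit 0x189212, nat_lit 36),
  (nat_lit 137, nat_lit 527, nat_lit 35),
  (nat_lit 0x889, nat_lit 0, nat_lit 0),
  (nat_lit 0x8889, nat_lit 0, nat_lit 0),
  (nat_lit 0x108889, nat_lit 0, nat_lit 0),
  (nat_lit 0x10c89, nat_lit 0, nat_lit 0),
  (nat_lit 201, nat_lit 0x11941f1, nat_lit 36),
  (nat_lit 0x10c9, nat_lit 0xf1941f1, nat_lit 36),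
  (nat_lit 0x210c9, nat_lit 0x22a941f1, nat_lit 36),
  (nat_lit 0x14c9, nat_lit 0x5a68c250, nat_lit 36),
  (nat_lit 0x214c9, nat_lit 0x2771a3094222, nat_lit 36),
  (nat_lit 0x294c9, nat_lit 0x4cd8c250, nat_lit 36),
  (nat_lit 0x218e9, nat_lit 0x1d71941f1, nat_lit 36),
  (nat_lit 0x4318e9, nat_lit 0x3b971941f1, nat_lit 36),
  (nat_lit 265, nat_lit 527, nat_lit 67),
  (nat_lit 0x1109, nat_lit 527, nat_lit 0x443),
  (nat_lit 0x21109, nat_lit 431, nat_lit 0x14c7),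
  (nat_lit 0x21909, nat_lit 0x4c75ba3094222, nat_lit 36),
  (nat_lit 0x2109, nat_lit 527, nat_lit 0x843),
  (nat_lit 0x22109, nat_lit 527, nat_lit 0x8843),
  (nat_lit 0x22129, nat_lit 527, nat_lit 0x8863),
  (nat_lit 10, nat_lit 0xe83e32, nat_lit 1),
  (nat_lit 42, nat_lit 0x3632, nat_lit 36),
  (nat_lit 138, nat_lit 529, nat_lit 67),
  (nat_lit 0x48a, nat_lit 0, nat_lit 0),
  (nat_lit 0x888a, nat_lit 0, nat_lit 0),
  (nat_lit 0x8c8a, nat_lit 0, nat_lit 0),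
  (nat_lit 0x108a, nat_lit 529, nat_lit 0x843),
  (nat_lit 0x908a, nat_lit 0, nat_lit 0),
  (nat_lit 170, nat_lit 0x6c650, nat_lit 36),
  (nat_lit 0x10aa, nat_lit 0x2e3283c2e, nat_lit 36),
  (nat_lit 0x210aa, nat_lit 0x3971941e1, nat_lit 36),
  (nat_lit 0x214ca, nat_lit 0x2b891d0941f1, nat_lit 36),
  (nat_lit 0x4214ca, nat_lit 0x3123a122c1f1, nat_lit 36),
  (nat_lit 0x214ea, nat_lit 0x2b8a9d0941f1, nat_lit 36),
  (nat_lit 0x4214ea, nat_lit 0x3153a122c1f1, nat_lit 36),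
  (nat_lit 0x4298ea, nat_lit 0x62453a122c1f1, nat_lit 36),
  (nat_lit 266, nat_lit 529, nat_lit 35),
  (nat_lit 0x110a, nat_lit 529, nat_lit 0x443),
  (nat_lit 0x2110a, nat_lit 529, nat_lit 0x8843),
  (nat_lit 0x190a, nat_lit 0xae83e32, nat_lit 35),
  (nat_lit 0x429d0a, nat_lit 0x2196d3c61283e22, nat_lit 36),
  (nat_lit 0x210a, nat_lit 433, nat_lit 167),
  (nat_lit 0x2210a, nat_lit 433, nat_lit 0x14c7),
  (nat_lit 298, nat_lit 530, nat_lit 34),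
  (nat_lit 0x112a, nat_lit 530, nat_lit 0x443),
  (nat_lit 0x2112a, nat_lit 530, nat_lit 0x8863),
  (nat_lit 0x42992a, nat_lit 0x21d6d34604941f1, nat_lit 36),
  (nat_lit 0x1d2a, nat_lit 0xae83e32, nat_lit 34),
  (nat_lit 0x212a, nat_lit 0xe83e32, nat_lit 0x443),
  (nat_lit 0x2212a, nat_lit 0, nat_lit 0x2212a),
  (nat_lit 0x842a12a, nat_lit 0x886878632, nat_lit 0x2212a),
  (nat_lit 0x863a12a, nat_lit 0x1235f1, nat_lit 0x2212a),
  (nat_lit 0x4212a, nat_lit 0xe83e32, nat_lit 0x8863),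
  (nat_lit 0x844212a, nat_lit 0x844f0ba22, nat_lit 0x2212a),
  (nat_lit 0x854212a, nat_lit 0x8cf70472, nat_lit 0x2212a),
  (nat_lit 0x252a, nat_lit 434, nat_lit 166),
  (nat_lit 0x2252a, nat_lit 434, nat_lit 0x14c7),
  (nat_lit 0x4252a, nat_lit 0xe83e32, nat_lit 0x8843),
  (nat_lit 0x844252a, nat_lit 0x846f0ba43, nat_lit 0x2212a),
  (nat_lit 0x854252a, nat_lit 0xccf70451, nat_lit 0x2212a),
  (nat_lit 0x884252a, nat_lit 0x1087114863, nat_lit 0x2212a),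
  (nat_lit 0x2214a, nat_lit 529, nat_lit 0x8863),
  (nat_lit 0x2254a, nat_lit 530, nat_lit 0x8843),
  (nat_lit 0x4254a, nat_lit 0x3e32, nat_lit 0x14c7),
  (nat_lit 0x44254a, nat_lit 0x863c5d0248b078622, nat_lit 36),
  (nat_lit 11, nat_lit 0x74232, nat_lit 1),
  (nat_lit 139, nat_lit 0x8ca0f, nat_lit 36),
  (nat_lit 171, nat_lit 0x741f1, nat_lit 67),
  (nat_lit 0x14ab, nat_lit 0x41f2, nat_lit 0x843),
  (nat_lit 203, nat_lit 497, nat_lit 167),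
  (nat_lit 0x8cb, nat_lit 0x1194090, nat_lit 167),
  (nat_lit 0x14cb, nat_lit 497, nat_lit 0x14c7),
  (nat_lit 0x294cb, nat_lit 0x41f1, nat_lit 0x8863),
  (nat_lit 0x298cb, nat_lit 0x741f1, nat_lit 0x443),
  (nat_lit 235, nat_lit 498, nat_lit 166),
  (nat_lit 0xceb, nat_lit 0x1194090, nat_lit 166),
  (nat_lit 0x14eb, nat_lit 498, nat_lit 0x14c7),
  (nat_lit 0x294eb, nat_lit 0x41f2, nat_lit 0x8843),
  (nat_lit 0x18eb, nat_lit 0x3632, nat_lit 0x14c7),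
  (nat_lit 0x298eb, nat_lit 0x86e88a43, nat_lit 0x2212a),
  (nat_lit 0x318eb, nat_lit 0x74232, nat_lit 0x8843),
  (nat_lit 0xa5318eb, nat_lit 0x46e78643, nat_lit 0x2212a),
  (nat_lit 0x29ceb, nat_lit 0x741f2, nat_lit 0x443),
  (nat_lit 0x31ceb, nat_lit 0x74232, nat_lit 0x8863),
  (nat_lit 0xa531ceb, nat_lit 0x44e78622, nat_lit 0x2212a),
  (nat_lit 0xa631ceb, nat_lit 431, nat_lit 0x2212a),
  (nat_lit 0x2996b, nat_lit 0x41f1, nat_lit 0x8843),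
  (nat_lit 0x29d6b, nat_lit 0x41f2, nat_lit 0x8863),
  (nat_lit 0x31d6b, nat_lit 0x4232, nat_lit 0x443),
  (nat_lit 12, nat_lit 0x84650, nat_lit 1),
  (nat_lit 44, nat_lit 0x83e30, nat_lit 67),
  (nat_lit 0x42c, nat_lit 0x83e30, nat_lit 0x843),
  (nat_lit 76, nat_lit 0x83e30, nat_lit 35),
  (nat_lit 0x44c, nat_lit 0x83e30, nat_lit 0x443),
  (nat_lit 0x844c, nat_lit 0x83e30, nat_lit 0x8843),
  (nat_lit 0x884c, nat_lit 0x6be30, nat_lit 0x14c7),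
  (nat_lit 108, nat_lit 0x83e50, nat_lit 34),
  (nat_lit 0x46c, nat_lit 0x83e50, nat_lit 0x443),
  (nat_lit 0x846c, nat_lit 0x83e50, nat_lit 0x8863),
  (nat_lit 0x86c, nat_lit 0x84650, nat_lit 0x443),
  (nat_lit 0x886c, nat_lit 496, nat_lit 0x2212a),
  (nat_lit 0x1086c, nat_lit 0x84650, nat_lit 0x8863),
  (nat_lit 0x211086c, nat_lit 0x89e10c606, nat_lit 0x2212a),
  (nat_lit 0x8c6c, nat_lit 0x6be50, nat_lit 0x14c7),
  (nat_lit 0x10c6c, nat_lit 0x84650, nat_lit 0x8843),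
  (nat_lit 0x2110c6c, nat_lit 0x8de10ca07, nat_lit 0x2212a),
  (nat_lit 0x2210c6c, nat_lit 0x871940c7, nat_lit 0x2212a),
  (nat_lit 0x898c, nat_lit 0x83e30, nat_lit 0x8863),
  (nat_lit 0x8d8c, nat_lit 0x83e50, nat_lit 0x8843),
  (nat_lit 0x10d8c, nat_lit 0x6c650, nat_lit 0x14c7)]

theorem s1 : stOk 11 1080 bs Ts 3 12 14 1 (c2.map Prod.fst) c1 = true := by decide +kernel

theorem s2 : stOk 11 1080 bs Ts 3 12 14 2 (c3.map Prod.fst) c2 = true := by decide +kernel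

theorem s3 : stOk 11 1080 bs Ts 3 12 14 3 (c4.map Prod.fst) c3 = true := by decide +kernel

theorem s4 : stOk 11 1080 bs Ts 3 12 14 4 (c5.map Prod.fst) c4 = true := by decide +kernel

theorem s5 : stOk 11 1080 bs Ts 3 12 14 5 (c6.map Prod.fst) c5 = true := by decide +kernel

theorem s6 : stOk 11 1080 bs Ts 3 12 14 6 (c7.map Prod.fst) c6 = true := by decide +kernel

theorem s7 : stOk 11 1080 bs Ts 3 12 14 7 (c8.map Prod.fst) c7 = true := by decide +kernel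

theorem s8 : stOk 11 1080 bs Ts 3 12 14 8 (c9.map Prod.fst) c8 = true := by decide +kernel

theorem s9 : stOk 11 1080 bs Ts 3 12 14 9 (c10.map Prod.fst) c9 = true := by decide +kernel

theorem s10 : stOk 11 1080 bs Ts 3 12 14 10 (c11.map Prod.fst) c10 = true := by decide +kernel

theorem s11 : stOk 11 1080 bs Ts 3 12 14 11 (c12.map Prod.fst) c11 = true := by decide +kernel

theorem s12 : stOk 11 1080 bs Ts 3 12 14 12 (c13.map Prod.fst) c12 = true := by decide +kernel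

theorem fn : fnOk 11 1080 bs Ts 3 [0, 1, 34, 35, 36, 67, 166, 167, 1091, 2115, 5319, 34883, 34915, 139562] c13 = true := by decide +kernel


theorem low : lowOk 11 1080 (3 ^ 12) [[nat_lit 0, nat_lit 0, nat_lit 3, nat_lit 1, nat_lit 11, nat_lit 11, nat_lit 5, nat_lit 11, nat_lit 1, nat_lit 7, nat_lit 5, nat_lit 0, nat_lit 3, nat_lit 4],
   [nat_lit 5, nat_lit 5, nat_lit 11, nat_lit 4, nat_lit 11, nat_lit 11, nat_lit 3, nat_lit 4, nat_lit 5, nat_lit 12, nat_lit 9],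
   [nat_lit 2, nat_lit 2, nat_lit 5, nat_lit 9, nat_lit 12, nat_lit 2, nat_lit 12, nat_lit 3, nat_lit 6, nat_lit 12],
   [nat_lit 2, nat_lit 1, nat_lit 1, nat_lit 1, nat_lit 5, nat_lit 5, nat_lit 2, nat_lit 2],
   [nat_lit 1, nat_lit 2, nat_lit 3, nat_lit 1, nat_lit 3, nat_lit 2, nat_lit 6, nat_lit 6, nat_lit 2],
   [nat_lit 4, nat_lit 3, nat_lit 3, nat_lit 2, nat_lit 4, nat_lit 2],
   [nat_lit 2, nat_lit 2, nat_lit 1, nat_lit 1, nat_lit 1, nat_lit 0],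
   [nat_lit 3, nat_lit 1, nat_lit 3]] (T0.take 12) [(nat_lit 0, [nat_lit 8, nat_lit 9, nat_lit 10, nat_lit 11]), (nat_lit 9, [nat_lit 7, nat_lit 6]), (nat_lit 108, [nat_lit 4, nat_lit 3]), (nat_lit 27, [nat_lit 1, nat_lit 0])] = true := by decide +kernel

theorem cls {G : Type*} [Group G] {S : TS G 11 1080} (M : Mdl S Ls bs 4952179814400) (h : ∀ t ∈ Ts, S.In ⊤ t) (x : G)
    (hx : x ^ 3 = 1) : x = 1 ∨ ∃ i, IsConj x (evC (gn S Ts) (zc i)) := by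
  have := S.finite
  have P := pc_of M.base h pc
  have c := P.cov Nat.prime_three (m := 9318400) M.card (by norm_num) (le_of_ok (S := S) low fun t ht => by
      obtain ⟨i, a, rfl⟩ := (by decide +kernel : ∀ t ∈ T0.take 12, ∃ i < 12, nd (idv 11 1080) Ts (i + 1) = t) t ht
      exact (nd_prop In.one h _).of_el (mem_KK (g := gn S Ts) (by omega) a))
  obtain ⟨y, a, b⟩ := Cov.fin M.base h fn (Cov.step M.base h P (by norm_num) s12 (Cov.step M.base h P (by norm_num) s11 (Cov.step M.base h P (by norm_num) s10 (Cov.step M.base h P (by norm_num) s9 (Cov.step M.base h P (by norm_num) s8 (Cov.step M.base h P (by norm_num) s7 (Cov.step M.base h P (by norm_num) s6 (Cov.step M.base h P (by norm_num) s5 (Cov.step M.base h P (by norm_num) s4 (Cov.step M.base h P (by norm_num) s3 (Cov.step M.base h P (by norm_num) s2 (Cov.step M.base h P (by norm_num) s1 c)))))))))))) x hx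
  rcases (by decide +kernel : ∀ y ∈ [0, 1, 34, 35, 36, 67, 166, 167, 1091, 2115, 5319, 34883, 34915, 139562], y = 0 ∨ ∃ i, zc i = y) y a with rfl | ⟨i, rfl⟩
  exacts [.inl (by simpa [evC_zero] using b), .inr ⟨i, b⟩]

end H27.O83
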