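import Cfsg.Agent.H27.PKx
import Cfsg.Agent.H05.Burnside

/-!
Order statistics of permutation groups given by tables (namespace `H27.PKx`).
* `cyl`, `ordL` (cycle length, order), `otV`/`ot_spec` (numbers of elements of each order, packed), `OT`;
* `OT.card_pow` (numbers of solutions of `x ^ n = 1`), `card_pow_prod`, `ot_of_et` (exponent type determines order type);
* `ss_SP` (subgroups of `Perm (Fin n)` by Schreier-Sims), `conjOk`/`solv_of` (solvability certificate), `not_solv_of`.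
-/

set_option autoImplicit false

namespace H27.PKx
open H13 H14.PK H14.PK.TS
open scoped commutatorElement

variable {G : Type*} [Group G] {w n : ℕ} {S : TS G w n} {K : Subgroup G}

/-- search for the return time -/
noncomputable def cyA (f : ℕ → ℕ) (b fuel : ℕ) : ℕ → ℕ → ℕ :=
  Nat.rec (motive := fun _ => ℕ → ℕ → ℕ) (fun _ _ => nat_lit 0)
    (fun _ ih k y => force y fun y => Bool.rec (force (Nat.succ k) fun k => ih k (f y)) k (Nat.beq y b)) fuel

theorem cyA_congr {x : G} {f : ℕ → ℕ} (hf : ∀ i < n, f i = S.ap x i) (b fuel k : ℕ) {y : ℕ} (hy : y < n) :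
    cyA f b fuel k y = cyA (S.ap x) b fuel k y := by
  induction fuel generalizing k y with
  | zero => rfl
  | succ m ih =>
    change (Bool.rec (cyA f b m (k + 1) (f y)) k (Nat.beq y b) : ℕ) = Bool.rec (cyA (S.ap x) b m (k + 1) (S.ap x y)) k (Nat.beq y b)
    rw [hf y hy, ih _ (S.ap_lt x hy)]

theorem cyA_spec {x : G} {b : ℕ} (hb : b < n) (fuel k : ℕ) (h : ∀ j < k, 0 < j → S.ap (x ^ j) b ≠ b)
    (h0 : cyA (S.ap x) b fuel k (S.ap (x ^ k) b) ≠ 0) :
    S.ap (x ^ cyA (S.ap x) b fuel k (S.ap (x ^ k) b)) b = b ∧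
      ∀ j < cyA (S.ap x) b fuel k (S.ap (x ^ k) b), 0 < j → S.ap (x ^ j) b ≠ b := by
  induction fuel generalizing k with
  | zero => exact absurd rfl h0
  | succ m ih =>
    have e : cyA (S.ap x) b (m + 1) k (S.ap (x ^ k) b) =
        (Bool.rec (cyA (S.ap x) b m (k + 1) (S.ap (x ^ (k + 1)) b)) k (Nat.beq (S.ap (x ^ k) b) b) : ℕ) := by
      rw [pow_succ', S.ap_mul _ _ hb]; rfl
    rw [e] at h0 ⊢
    cases c : Nat.beq (S.ap (x ^ k) b) b <;> rw [c] at h0
    · refine ih (k + 1) (fun j hj h1 => ?_) h0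
      rcases Nat.lt_succ_iff_lt_or_eq.1 hj with h2 | rfl
      exacts [h j h2 h1, Nat.ne_of_beq_eq_false c]
    · exact ⟨Nat.eq_of_beq_eq_true c, h⟩

theorem fix_iff_dvd {x : G} {b r : ℕ} (hb : b < n) (h0 : r ≠ 0) (h1 : S.ap (x ^ r) b = b)
    (h2 : ∀ j < r, 0 < j → S.ap (x ^ j) b ≠ b) (m : ℕ) : S.ap (x ^ m) b = b ↔ r ∣ m := by
  have h3 : ∀ q, S.ap (x ^ (r * q)) b = b := fun q =>
    (mem_st hb).1 (by rw [pow_mul]; exact (S.st b).pow_mem ((mem_st hb).2 h1) q)
  refine ⟨fun h => ?_, fun ⟨q, hq⟩ => hq ▸ h3 q⟩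
  rw [← Nat.mod_add_div m r, pow_add, S.ap_mul _ _ hb, h3] at h
  by_contra hd
  exact h2 _ (Nat.mod_lt _ (Nat.pos_of_ne_zero h0)) (Nat.pos_of_ne_zero fun c => hd (Nat.dvd_of_mod_eq_zero c)) h

/-- the least common multiple of the cycle lengths -/
noncomputable def ordL (n : ℕ) (bs : List ℕ) (f : ℕ → ℕ) : ℕ :=
  List.rec (nat_lit 1) (fun b _ ih => force ih fun a => force (cyA f b n (nat_lit 1) (f b)) fun c => Nat.lcm c a) bs

theorem ordL_congr {x : G} {f : ℕ → ℕ} (hf : ∀ i < n, f i = S.ap x i) {bs : List ℕ} (hb : ∀ b ∈ bs, b < n) :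
    ordL n bs f = ordL n bs (S.ap x) := by
  induction bs with
  | nil => rfl
  | cons b bs ih =>
    have h := List.forall_mem_cons.1 hb
    change Nat.lcm (cyA f b n 1 (f b)) (ordL n bs f) = Nat.lcm (cyA (S.ap x) b n 1 (S.ap x b)) (ordL n bs (S.ap x))
    rw [ih h.2, hf b h.1, cyA_congr hf _ _ _ (S.ap_lt x h.1)]

theorem ordL_dvd {x : G} {bs : List ℕ} (hb : ∀ b ∈ bs, b < n) (h0 : ordL n bs (S.ap x) ≠ 0) (m : ℕ) :
    ordL n bs (S.ap x) ∣ m ↔ ∀ b ∈ bs, S.ap (x ^ m) b = b := by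
  induction bs with
  | nil => simp [ordL]
  | cons b bs ih =>
    have h := List.forall_mem_cons.1 hb
    have e : ordL n (b :: bs) (S.ap x) = Nat.lcm (cyA (S.ap x) b n 1 (S.ap (x ^ 1) b)) (ordL n bs (S.ap x)) := by
      rw [pow_one]; rfl
    rw [e] at h0 ⊢
    have h1 := not_or.1 (mt Nat.lcm_eq_zero_iff.2 h0)
    obtain ⟨h2, h3⟩ := cyA_spec h.1 n 1 (fun j a b => by omega) h1.1
    rw [Nat.lcm_dvd_iff, ih h.2 h1.2, List.forall_mem_cons, fix_iff_dvd h.1 h1.1 h2 h3]

theorem card_fiber_eq_get {α : Type*} [Finite α] (o : α → ℕ) (h : Nat.card α < 2 ^ 16) (m : ℕ) :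
    Nat.card {x // o x = m} = get 16 (∑ᶠ x, 2 ^ (16 * o x)) m := by
  classical
  letI := Fintype.ofFinite α
  obtain ⟨M, hM⟩ : ∃ M, m < M ∧ ∀ x, o x < M :=
    ⟨Finset.univ.sup o + m + 1, by omega, fun x => by have := Finset.le_sup (f := o) (Finset.mem_univ x); omega⟩
  have e : ∑ᶠ x, 2 ^ (16 * o x) = pk 16 (fun k => Nat.card {x // o x = k}) M := by
    rw [finsum_eq_sum_of_fintype, pk, ← Finset.sum_fiberwise_of_maps_to (s := Finset.univ) (t := Finset.range M) (g := o)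
      fun x _ => Finset.mem_range.2 (hM.2 x)]
    refine Finset.sum_congr rfl fun k _ => ?_
    rw [Finset.sum_congr rfl fun x hx => by rw [(Finset.mem_filter.1 hx).2], Finset.sum_const, smul_eq_mul,
      Nat.card_eq_fintype_card, Fintype.card_subtype]
  rw [e, get_pk fun j _ => (Nat.card_le_card_of_injective _ Subtype.val_injective).trans_lt h, if_pos hM.1]

/-- the packed numbers of elements of each order -/
noncomputable def otV (w n : ℕ) (ch : Ch) : ℕ :=
  esum w n (fun _ _ _ _ => false) (fun f => force (ordL n (chB ch) f) fun o => p2 (Nat.mul (nat_lit 16) o)) ch 0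
    (idv w n) (idv w n)

/-- `T` lists the numbers of elements of each order -/
def OT (G : Type*) [Group G] (T : ℕ) : Prop := ∀ m, Nat.card {x : G // orderOf x = m} = get 16 T m

theorem ot_spec {ch : Ch} (h : S.Full K ch) {T : ℕ} (e : band (Nat.blt (chN ch) 65536)
    (band (Nat.beq (otV w n ch) T) (Nat.beq (get 16 T 0) 0)) = true) : OT K T := by
  have := S.finite
  simp only [band_eq_true, Nat.blt_eq, Nat.beq_eq] at e
  have hb : ∀ b ∈ chB ch, b < n := chB_eq ch ▸ List.forall_mem_map.2 h.lt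
  have h1 := h.sum_aux (φ := fun x => 2 ^ (16 * ordL n (chB ch) (S.ap x))) (pr := fun _ _ _ _ => false)
    (lf := fun f => force (ordL n (chB ch) f) fun o => p2 (Nat.mul (nat_lit 16) o))
    (fun _ _ _ _ _ _ c => by cases c) (fun x f hf => by rw [force_eq, p2_eq, ordL_congr hf hb]; rfl)
    (F := 0) (fun _ _ _ _ c => (bt_zero c).elim) 1 1
  simp only [one_mul, S.tb_one] at h1
  have h2 := fun m => card_fiber_eq_get (fun x : K => ordL n (chB ch) (S.ap x)) (by rw [h.card]; exact e.1) m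
  rw [h1, show esum _ _ _ _ _ _ _ _ = T from e.2.1] at h2
  have h3 : ∀ x : K, ordL n (chB ch) (S.ap x) ≠ 0 := fun x c => by
    haveI : Nonempty {x : K // ordL n (chB ch) (S.ap x) = 0} := ⟨⟨x, c⟩⟩
    exact Nat.card_pos.ne' ((h2 0).trans e.2.2)
  have h4 : ∀ x : K, orderOf x = ordL n (chB ch) (S.ap x) := fun x => by
    have h5 : ∀ m, orderOf x ∣ m ↔ ordL n (chB ch) (S.ap x) ∣ m := fun m => by
      rw [ordL_dvd hb (h3 x), orderOf_dvd_iff_pow_eq_one, chB_eq, List.forall_mem_map, Subtype.ext_iff]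
      exact ⟨fun c l hl => by rw [show (x : G) ^ m = 1 from c, S.ap_one (h.lt l hl)], h.eq_one (K.pow_mem x.2 m)⟩
    exact Nat.dvd_antisymm ((h5 _).2 dvd_rfl) ((h5 _).1 dvd_rfl)
  intro m
  rw [← h2 m]
  exact Nat.card_congr (Equiv.subtypeEquivRight fun x => by rw [h4])

theorem card_pow_eq_sum (G : Type*) [Group G] [Finite G] {m : ℕ} (hm : m ≠ 0) :
    Nat.card {x : G // x ^ m = 1} = ∑ d ∈ m.divisors, Nat.card {x : G // orderOf x = d} := by
  classical
  letI := Fintype.ofFinite G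
  simp only [Nat.card_eq_fintype_card, Fintype.card_subtype]
  convert (sum_card_orderOf_eq_card_pow_eq_one (G := G) hm).symm

theorem ot_of_et {G H : Type*} [Group G] [Finite G] [Group H] [Finite H]
    (h : ∀ m, Nat.card {x : G // x ^ m = 1} = Nat.card {x : H // x ^ m = 1}) (m : ℕ) :
    Nat.card {x : G // orderOf x = m} = Nat.card {x : H // orderOf x = m} := by
  induction m using Nat.strong_induction_on with
  | _ m ih =>
    rcases Nat.eq_zero_or_pos m with rfl | hm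
    · haveI : IsEmpty {x : G // orderOf x = 0} := ⟨fun x => (orderOf_pos x.1).ne' x.2⟩
      haveI : IsEmpty {x : H // orderOf x = 0} := ⟨fun x => (orderOf_pos x.1).ne' x.2⟩
      rw [Nat.card_of_isEmpty, Nat.card_of_isEmpty]
    · have h1 := h m
      rw [card_pow_eq_sum G hm.ne', card_pow_eq_sum H hm.ne', ← Nat.cons_self_properDivisors hm.ne', Finset.sum_cons,
        Finset.sum_cons, Finset.sum_congr rfl fun d hd => ih d (Nat.mem_properDivisors.1 hd).2] at h1
      omega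

theorem card_pow_prod (G H : Type*) [Group G] [Group H] (m : ℕ) :
    Nat.card {x : G × H // x ^ m = 1} = Nat.card {x : G // x ^ m = 1} * Nat.card {x : H // x ^ m = 1} := by
  rw [← Nat.card_prod]
  exact Nat.card_congr ((Equiv.subtypeEquivRight fun x => by simp [Prod.ext_iff]).trans
    (Equiv.subtypeProdEquivProd (p := fun x : G => x ^ m = 1) (q := fun x : H => x ^ m = 1)))

/-- the number of solutions of `x ^ d = 1` -/
def ec (T d : ℕ) : ℕ := ∑ m ∈ d.divisors, get 16 T m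

theorem OT.card_pow [Finite G] {T E : ℕ} (h : OT G T) (hE : E ≠ 0) (e : T < 2 ^ (16 * (E + 1)) ∧
    ∀ m < E + 1, get 16 T m ≠ 0 → m ∣ E) (m : ℕ) : Nat.card {x : G // x ^ m = 1} = ec T (Nat.gcd m E) := by
  have h1 : ∀ x : G, orderOf x ∣ E := fun x => by
    haveI : Nonempty {y : G // orderOf y = orderOf x} := ⟨⟨x, rfl⟩⟩
    have h2 := (h (orderOf x)) ▸ Nat.card_pos.ne'
    exact e.2 _ (lt_of_not_ge fun c => h2 (get_eq_zero_of_lt e.1 c)) h2
  rw [ec, ← Finset.sum_congr rfl fun d _ => h d, ← card_pow_eq_sum G (Nat.gcd_ne_zero_right hE)]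
  exact Nat.card_congr (Equiv.subtypeEquivRight fun x => by
    rw [← orderOf_dvd_iff_pow_eq_one, ← orderOf_dvd_iff_pow_eq_one, Nat.dvd_gcd_iff, and_iff_left (h1 x)])

theorem ss_SP {hw : 0 < w} {hn : n ≤ 2 ^ w} {Ls : List ℕ} {pr : List (List ℕ)} {ch : Ch} {sl : List (List ℕ × ℕ)}
    (e : band (allL (permOk w n) Ls) (ssOk w n Ls pr ch sl) = true) :
    (∀ t ∈ Ls, (SP w n hw hn).In ⊤ t) ∧ (SP w n hw hn).Full ((SP w n hw hn).cl Ls) ch :=
  have h : ∀ t ∈ Ls, (SP w n hw hn).In ⊤ t := fun t ht => in_SP (allL_iff.1 (band_eq_true.1 e).1 t ht)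
  ⟨h, full_of_ss h (band_eq_true.1 e).2⟩

/-- `B` lies in the group generated by `A` and generates a normal subgroup of it -/
noncomputable def conjOk (w n : ℕ) (A B : List ℕ) (p1 p2 : List (List ℕ)) : Bool :=
  band (slpOk w n B p1 A) (allL (fun a => allL (fun b => slpOk w n [tm w n (tm w n a b) (ti w n a)] p2 B) B) A)

theorem solv_of {A B : List ℕ} (hA : ∀ t ∈ A, S.In ⊤ t) {p1 p2 : List (List ℕ)} (e : conjOk w n A B p1 p2 = true)
    {p q r a b c : ℕ} (hp : p.Prime) (hq : q.Prime) (hr : r.Prime) (h1 : Nat.card (S.cl B) = r ^ c)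
    (h2 : Nat.card (S.cl A) = r ^ c * (p ^ a * q ^ b)) : Group.IsSolvable (S.cl A) := by
  haveI := S.finite
  haveI := Fact.mk hr
  simp only [conjOk, band_eq_true, allL_iff] at e
  have hA' : ∀ t ∈ A, S.In (S.cl A) t := fun t ht => (hA t ht).cl ht
  have hB := In.slp e.1 hA'
  have hle : S.cl B ≤ S.cl A := cl_le hB
  have hN : S.cl A ≤ Subgroup.normalizer (S.cl B : Set G) := cl_le' fun t ht =>
    Subgroup.mem_normalizer_fintype fun _ hy => (cl_le' (K := (S.cl B).comap (MulAut.conj (S.el t)).toMonoidHom)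
      fun u hu => by
        have := (In.slp (e.2 t ht u hu) (fun v hv => (hB v hv).cl hv) _ List.mem_cons_self).el_mem
        rwa [((hA t ht).mul (hB u hu).top).el_tm (hA t ht).inv, (hA t ht).el_tm (hB u hu), (hA t ht).el_ti] at this) hy
  haveI := (Subgroup.normal_subgroupOf_iff_le_normalizer hle).2 hN
  have h3 : Nat.card ((S.cl B).subgroupOf (S.cl A)) = r ^ c :=
    (Nat.card_congr (Subgroup.subgroupOfEquivOfLe hle).toEquiv).trans h1
  haveI : Group.IsSolvable ((S.cl B).subgroupOf (S.cl A)) := by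
    haveI := (IsPGroup.of_card h3).isNilpotent
    infer_instance
  haveI : Group.IsSolvable (S.cl A ⧸ (S.cl B).subgroupOf (S.cl A)) := H05.burnside_paqb _ hp hq (a := a) (b := b) (by
    have := ((S.cl B).subgroupOf (S.cl A)).card_mul_index
    rw [h3, h2] at this
    exact Nat.eq_of_mul_eq_mul_left (pow_pos hr.pos c) this)
  exact Group.isSolvable_of_ker_le_range ((S.cl B).subgroupOf (S.cl A)).subtype
    (QuotientGroup.mk' ((S.cl B).subgroupOf (S.cl A))) (by simp)

theorem not_solv_of {x y z : ℕ} (hx : S.In K x) (hy : S.In K y) (hz : S.In K z)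
    (e : band (bn (Nat.beq x (idv w n))) (force (tm w n (tm w n y x) (ti w n y)) fun u =>
      Nat.beq (tm w n (tm w n x z) (tm w n u x)) (tm w n z (tm w n x u))) = true) : ¬ Group.IsSolvable K := by
  obtain ⟨a, ha, rfl⟩ := hx
  obtain ⟨b, hb, rfl⟩ := hy
  obtain ⟨c, hc, rfl⟩ := hz
  simp only [band_eq_true, bn_iff, force_eq, Nat.beq_eq, ← S.tb_one, ← S.tb_inv, ← S.tb_mul, S.tb_eq_iff] at e
  refine not_isSolvable_of_mem_derivedSeries (g := ⟨a, ha⟩) (fun h => e.1 (congrArg Subtype.val h)) fun m => ?_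
  induction m with
  | zero => exact Subgroup.mem_top _
  | succ m ih =>
    have key : (⟨a, ha⟩ : K) = ⟨c, hc⟩ * ⁅(⟨a, ha⟩ : K), ⟨b, hb⟩ * ⟨a, ha⟩ * (⟨b, hb⟩ : K)⁻¹⁆ * (⟨c, hc⟩ : K)⁻¹ := by
      apply Subtype.ext
      change a = c * (a * (b * a * b⁻¹) * a⁻¹ * (b * a * b⁻¹)⁻¹) * c⁻¹
      rw [← mul_assoc c, ← mul_assoc c, ← e.2]; group
    rw [key]
    exact (derivedSeries_normal _ _).conj_mem _
      (Subgroup.commutator_mem_commutator ih ((derivedSeries_normal _ _).conj_mem _ ih _)) _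

end H27.PKx
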