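import Cfsg.Agent.H27.MG3
import Cfsg.Agent.S1069

/-! `²G₂(3)` on 28 points: `H27.Ree3.model`. -/

set_option autoImplicit false
set_option maxRecDepth 100000

namespace H27.Ree3
open H13 H14.PK H14.PK.TS H27.PKx H27.MG Cfsg

/-- numbering of the coordinates -/
def E0 : Lie.chevG2.Idx ≃ Fin 14 := finSumFinEquiv (m := 2) (n := 12)
/-- the field -/
def C := FC.prime (ZMod 3) (p := 3) (s := 2) (by norm_num) (ZMod.card 3) (by norm_num)
def X7_1 : ℕ := nat_lit 0x40000001010000051000001200000042005001000000040800001000000068000001800000040000001000000040001001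
theorem hX7_1 : ∀ i j, get 2 X7_1 (E0 i * 14 + E0 j) = xC (adP 3) (muP 3) 2 Lie.chevG2 ⟨7, by decide⟩ 1 i j := by decide +kernel
def X6_1 : ℕ := nat_lit 0x50000001000000040000001400000040000001800400040000001800000040000001000000060000001000040040000001
theorem hX6_1 : ∀ i j, get 2 X6_1 (E0 i * 14 + E0 j) = xC (adP 3) (muP 3) 2 Lie.chevG2 ⟨6, by decide⟩ 1 i j := by decide +kernel
def X8_1 : ℕ := nat_lit 0x40080001000000048800001008090048000001001000040000001110000040000001200000040000001000000040000401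
theorem hX8_1 : ∀ i j, get 2 X8_1 (E0 i * 14 + E0 j) = xC (adP 3) (muP 3) 2 Lie.chevG2 ⟨8, by decide⟩ 1 i j := by decide +kernel
def X9_1 : ℕ := nat_lit 0x40000801000010040020201020400040420001000000040000001040000041000001000000040000001000000040000201
theorem hX9_1 : ∀ i j, get 2 X9_1 (E0 i * 14 + E0 j) = xC (adP 3) (muP 3) 2 Lie.chevG2 ⟨9, by decide⟩ 1 i j := by decide +kernel
def X10_0 : ℕ := nat_lit 0x40000001000000040000001000000040000001000000040000001000000040000001000000040000001000000040000001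
theorem hX10_0 : ∀ i j, get 2 X10_0 (E0 i * 14 + E0 j) = xC (adP 3) (muP 3) 2 Lie.chevG2 ⟨10, by decide⟩ 0 i j := by decide +kernel
def X11_0 : ℕ := nat_lit 0x40000001000000040000001000000040000001000000040000001000000040000001000000040000001000000040000001
theorem hX11_0 : ∀ i j, get 2 X11_0 (E0 i * 14 + E0 j) = xC (adP 3) (muP 3) 2 Lie.chevG2 ⟨11, by decide⟩ 0 i j := by decide +kernel
def X4_2 : ℕ := nat_lit 0x40000001000000240000029000000040000201000000040000081005000840000045000004040000001000000040040001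
theorem hX4_2 : ∀ i j, get 2 X4_2 (E0 i * 14 + E0 j) = xC (adP 3) (muP 3) 2 Lie.chevG2 ⟨4, by decide⟩ 2 i j := by decide +kernel
def X5_2 : ℕ := nat_lit 0x40000009000000040000001000000240000001000000240040001000000140000001000000040000005000100040000001
theorem hX5_2 : ∀ i j, get 2 X5_2 (E0 i * 14 + E0 j) = xC (adP 3) (muP 3) 2 Lie.chevG2 ⟨5, by decide⟩ 2 i j := by decide +kernel
def X3_2 : ℕ := nat_lit 0x40000001000000840000001000004440000001000040040000021000020040900221000000040002001000000040100001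
theorem hX3_2 : ∀ i j, get 2 X3_2 (E0 i * 14 + E0 j) = xC (adP 3) (muP 3) 2 Lie.chevG2 ⟨3, by decide⟩ 2 i j := by decide +kernel
def X2_2 : ℕ := nat_lit 0x40000001000000040000041000001040000001000000040008101000108040008001024000040200001000000040800001
theorem hX2_2 : ∀ i j, get 2 X2_2 (E0 i * 14 + E0 j) = xC (adP 3) (muP 3) 2 Lie.chevG2 ⟨2, by decide⟩ 2 i j := by decide +kernel
def X1_0 : ℕ := nat_lit 0x40000001000000040000001000000040000001000000040000001000000040000001000000040000001000000040000001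
theorem hX1_0 : ∀ i j, get 2 X1_0 (E0 i * 14 + E0 j) = xC (adP 3) (muP 3) 2 Lie.chevG2 ⟨1, by decide⟩ 0 i j := by decide +kernel
def X0_0 : ℕ := nat_lit 0x40000001000000040000001000000040000001000000040000001000000040000001000000040000001000000040000001
theorem hX0_0 : ∀ i j, get 2 X0_0 (E0 i * 14 + E0 j) = xC (adP 3) (muP 3) 2 Lie.chevG2 ⟨0, by decide⟩ 0 i j := by decide +kernel
def M0 : ℕ := nat_lit 0x50080901018024051294001622450042185001801400040900001940000068000001800000060000001000040040001051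
def T0 : ℕ := nat_lit 0xc38946dd22a9d489d8112e76c868d278c2b
theorem g0 : ∃ g : Lie.twistedG2 (ZMod 3) 1, ((Units.coeHom _).comp (Lie.twistedG2 (ZMod 3) 1).subtype) g = C.mat E0 M0 :=
  C.exists_word (m1 := 2) (by decide +kernel) Lie.chevG2 E0 (U := Lie.g2Words (ZMod 3) 1) [(⟨7, by decide⟩, 1, X7_1), (⟨6, by decide⟩, 1, X6_1), (⟨8, by decide⟩, 1, X8_1), (⟨9, by decide⟩, 1, X9_1), (⟨10, by decide⟩, 0, X10_0), (⟨11, by decide⟩, 0, X11_0)]
    ⟨1, 0, 0, Or.inl (by decide +kernel)⟩ (by simp only [List.forall_mem_cons]; exact ⟨hX7_1, hX6_1, hX8_1, hX9_1, hX10_0, hX11_0, by simp⟩)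
    (M' := nat_lit 0x6014090102002006599a801982a80046aaa00180a80004040000140000005a000001500000050000001000080840002891) (by decide +kernel)
def M1 : ℕ := nat_lit 0x40000009000000240000029000001640000601000040240042481005188940516845008024044602005000100045040001
def T1 : ℕ := nat_lit 0x93c9b5272545aedab34638e2170a14c4d60
theorem g1 : ∃ g : Lie.twistedG2 (ZMod 3) 1, ((Units.coeHom _).comp (Lie.twistedG2 (ZMod 3) 1).subtype) g = C.mat E0 M1 :=
  C.exists_word (m1 := 2) (by decide +kernel) Lie.chevG2 E0 (U := Lie.g2Words (ZMod 3) 1) [(⟨4, by decide⟩, 2, X4_2), (⟨5, by decide⟩, 2, X5_2), (⟨3, by decide⟩, 2, X3_2), (⟨2, by decide⟩, 2, X2_2), (⟨1, by decide⟩, 0, X1_0), (⟨0, by decide⟩, 0, X0_0)]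
    ⟨1, 0, 0, Or.inr (by decide +kernel)⟩ (by simp only [List.forall_mem_cons]; exact ⟨hX4_2, hX5_2, hX3_2, hX2_2, hX1_0, hX0_0, by simp⟩)
    (M' := nat_lit 0x400000050000005400000a50000001400001010000a024008aa9100aa826408a6659088008040601409020200046280001) (by decide +kernel)
def PT : ℕ := nat_lit 0xa650a61a2a5894a0280a19a059a1994986598804199618a599496a2492616658a96164889521086aa92584a911081011596aa0951625a8a460140915a249695869914560aa915586855544042952925554a55a154669254410226940000000000010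
theorem a0 : actOk (adP 3) (muP 3) 2 14 true PT 5 28 (M0, T0) = true := by decide +kernel
theorem a1 : actOk (adP 3) (muP 3) 2 14 true PT 5 28 (M1, T1) = true := by decide +kernel
def Ls : List ℕ := [T0, T1]
def bs : List ℕ := [nat_lit 0, nat_lit 1, nat_lit 2]

theorem model : ∃ S : TS (Lie.twistedG2 (ZMod 3) 1) 5 28, Mdl S Ls bs 1512 := by
  have hN : Nat.card (Lie.twistedG2 (ZMod 3) 1) = 1512 := by
    simpa using Cfsg.Agent.S1069.result (K := ZMod 3) (m := 0) (by simp)
  obtain ⟨S, h, -⟩ := C.model E0 _ (MonoidHom.id _) (pj := true) (PT := PT) (w := 5)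
    (n := 28) (by norm_num) (by norm_num) (by decide +kernel) (Ps := [(M0, T0), (M1, T1)])
    (List.forall_mem_cons.2 ⟨g0, List.forall_mem_cons.2 ⟨g1, List.forall_mem_nil _⟩⟩)
    (List.forall_mem_cons.2 ⟨a0, List.forall_mem_cons.2 ⟨a1, List.forall_mem_nil _⟩⟩)
    hN (pr := [[nat_lit 1, nat_lit 1, nat_lit 0],
   [nat_lit 1, nat_lit 0, nat_lit 1, nat_lit 0, nat_lit 0, nat_lit 1],
   [nat_lit 2, nat_lit 3, nat_lit 3, nat_lit 3, nat_lit 1, nat_lit 1, nat_lit 3, nat_lit 1],
   [nat_lit 0, nat_lit 0, nat_lit 1, nat_lit 0, nat_lit 1, nat_lit 1, nat_lit 1]]) (lv := [(nat_lit 0, [nat_lit 4, nat_lit 5]), (nat_lit 1, [nat_lit 2, nat_lit 1]), (nat_lit 2, [nat_lit 0])]) (Ls := Ls) rfl (by decide +kernel) (Or.inl Function.injective_id)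
  exact ⟨S, h⟩

end H27.Ree3
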