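import Cfsg.Agent.H27.WK2
import Cfsg.Agent.H27.MG3
import Cfsg.Agent.H27.Cov2

/-!
Isomorphisms of subgroups with models (namespace `H27.MG`): `Mdl.res`, `res_sub`, `in_clW`.
-/

set_option autoImplicit false

namespace H27.MG
open H13 H14.PK H14.PK.TS H27.PKx

variable {G H : Type*} [Group G] [Group H] {w n v m : ℕ} {S : TS G w n} {S' : TS H v m} {Ls bs Ms bs' : List ℕ} {N N' : ℕ}

theorem Mdl.res (M : Mdl S Ls bs N) (M' : Mdl S' Ms bs' N') {O c : ℕ} {Ps : List (ℕ × ℕ)} (h : Ps.map Prod.fst = Ls)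
    (e : band (rstOk w n v m O bs Ps)
      (band (permOk v m c) (all2 (fun a b => Nat.beq (tm v m c a) (tm v m b c)) (Ps.map Prod.snd) Ms)) = true) :
    Nonempty (G ≃* H) := by
  obtain ⟨a, ⟨f⟩⟩ := cl_res M.base S'.hw S'.hn (fun p hp => M.mem _ (h ▸ List.mem_map_of_mem hp)) (band_eq_true.1 e).1
  obtain ⟨g⟩ := Mdl.equiv a M' (band_eq_true.1 e).2
  exact ⟨(Subgroup.topEquiv.symm.trans (MulEquiv.subgroupCongr (M.cl.symm.trans (h ▸ rfl)))).trans (f.trans g)⟩

/-- a subgroup of known order with a restricted action -/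
theorem res_sub {K : Subgroup G} (hK : Nat.card K = N) (M' : Mdl S' Ms bs' N') {O c : ℕ} {Ps : List (ℕ × ℕ)}
    (h : ∀ t ∈ Ps.map Prod.fst, S.In K t) {pr : List (List ℕ)} {lv : Ch} (e : lowOk w n N pr (Ps.map Prod.fst) lv = true)
    (e' : band (rstOk w n v m O (lv.map Prod.fst) Ps)
      (band (permOk v m c) (all2 (fun a b => Nat.beq (tm v m c a) (tm v m b c)) (Ps.map Prod.snd) Ms)) = true) :
    Nonempty (K ≃* H) :=
  (mdl_of_low (S := S.sub K) e (fun t ht => (h t ht).sub) hK).res M' rfl e'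

/-- a generated subgroup with a restricted action, given a base of the whole group -/
theorem res_cl (hb : S.Base bs) (M' : Mdl S' Ms bs' N') {O c : ℕ} {Ps : List (ℕ × ℕ)} (h : ∀ t ∈ Ps.map Prod.fst, S.In ⊤ t)
    (e : band (rstOk w n v m O bs Ps)
      (band (permOk v m c) (all2 (fun a b => Nat.beq (tm v m c a) (tm v m b c)) (Ps.map Prod.snd) Ms)) = true) :
    Nonempty (S.cl (Ps.map Prod.fst) ≃* H) := by
  obtain ⟨a, ⟨f⟩⟩ := cl_res hb S'.hw S'.hn (fun p hp => h _ (List.mem_map_of_mem hp)) (band_eq_true.1 e).1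
  obtain ⟨g⟩ := Mdl.equiv a M' (band_eq_true.1 e).2
  exact ⟨f.trans g⟩

theorem in_clW {W : ℕ} [NeZero m] [MulAction G (Fin m)] {gen : ℕ → G} {nets : List Net} (Y : Sys (finPts m) W gen nets)
    (hf : Faith (finPts m) (⊤ : Subgroup G)) {us pr : List (List ℕ)} {Ts : List ℕ}
    (e : slpOk W m Ts pr (us.map (tabW W m nets)) = true) : ∀ t ∈ Ts, (tsOf Y hf).In (clW gen us) t :=
  In.slp e (List.forall_mem_map.2 fun u hu => ⟨_, Subgroup.subset_closure ⟨u, hu, rfl⟩, tb_sys Y hf u⟩)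

end H27.MG
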