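import Cfsg.Agent.H27.MG4
import Cfsg.Agent.H14.Simd
import Cfsg.Prelude.Def_Spor_Ru

/-!
Real coordinates for the Conway–Wales lattice (namespace `H27.Ru`).
* `co`, `mk`, `dot`, `vc`, `vn`, signed permutations `SPm`/`apS`, reduction `redC`/`mem_of_memC`;
* `K` (the lattice from a code modulo 4), `K_le`, `le_K`, `dual`, `even`.
-/

set_option autoImplicit false

namespace H27.Ru
open Cfsg.Spor H13 H14.PK Finset

/-- the complex coordinate containing a real coordinate -/
def ix (k : ℕ) : RuIdx := (⟨k / 8 % 7, Nat.mod_lt _ (by norm_num)⟩, ⟨k / 2 % 4, Nat.mod_lt _ (by norm_num)⟩)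

/-- real coordinates -/
def co (v : RuVec) (k : ℕ) : ℤ := if k % 2 = 0 then (v (ix k)).re else (v (ix k)).im

/-- the vector with given real coordinates -/
def mk (f : ℕ → ℤ) : RuVec := fun p => ⟨f (8 * p.1 + 2 * p.2), f (8 * p.1 + 2 * p.2 + 1)⟩

theorem co_mk (f : ℕ → ℤ) {k : ℕ} (hk : k < 56) : co (mk f) k = f k := by
  simp only [co, mk, ix]
  split_ifs <;> congr 1 <;> omega

theorem ext_co {v w : RuVec} (h : ∀ k < 56, co v k = co w k) : v = w := by
  funext ⟨a, b⟩
  have h1 := h (8 * a + 2 * b) (by omega)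
  have h2 := h (8 * a + 2 * b + 1) (by omega)
  have e1 : ix (8 * a + 2 * b) = (a, b) := Prod.ext (Fin.ext (by simp only [ix]; omega)) (Fin.ext (by simp only [ix]; omega))
  have e2 : ix (8 * a + 2 * b + 1) = (a, b) := Prod.ext (Fin.ext (by simp only [ix]; omega)) (Fin.ext (by simp only [ix]; omega))
  simp only [co, e1, e2] at h1 h2
  rw [if_pos (by omega), if_pos (by omega)] at h1
  rw [if_neg (by omega), if_neg (by omega)] at h2
  exact Zsqrtd.ext h1 h2

/-- a coordinate as an additive map -/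
def coH (k : ℕ) : RuVec →+ ℤ := AddMonoidHom.mk' (co · k) fun v w => by simp only [co]; split_ifs <;> rfl

theorem co_add (v w : RuVec) (k : ℕ) : co (v + w) k = co v k + co w k := (coH k).map_add v w
theorem co_sub (v w : RuVec) (k : ℕ) : co (v - w) k = co v k - co w k := (coH k).map_sub v w
theorem co_neg (v : RuVec) (k : ℕ) : co (-v) k = -co v k := (coH k).map_neg v
theorem co_zero (k : ℕ) : co 0 k = 0 := (coH k).map_zero
theorem co_zsmul (m : ℤ) (v : RuVec) (k : ℕ) : co (m • v) k = m * co v k := (coH k).map_zsmul m v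
theorem co_sum {ι : Type*} (s : Finset ι) (v : ι → RuVec) (k : ℕ) : co (∑ i ∈ s, v i) k = ∑ i ∈ s, co (v i) k :=
  map_sum (coH k) v s

/-- the real scalar product -/
def dot (v w : RuVec) : ℤ := ∑ k ∈ range 56, co v k * co w k

theorem norm_eq (v : RuVec) : ruNorm v = dot v v := by
  simp only [ruNorm, dot, Fintype.sum_prod_type, Fin.sum_univ_succ, sum_range_succ, Zsqrtd.norm_def, co, ix]
  simp
  ring

theorem dot_comm (v w : RuVec) : dot v w = dot w v := sum_congr rfl fun _ _ => mul_comm _ _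

/-- the scalar product as an additive map -/
def dotH (w : RuVec) : RuVec →+ ℤ := AddMonoidHom.mk' (dot · w) fun u v => by simp only [dot, co_add, add_mul, sum_add_distrib]

theorem dot_add (u v : RuVec) : dot (u + v) (u + v) = dot u u + 2 * dot u v + dot v v := by
  simp only [dot, co_add, mul_sum, ← sum_add_distrib]
  exact sum_congr rfl fun _ _ => by ring

theorem dot_smul (m : ℤ) (u v : RuVec) : dot (m • u) v = m * dot u v := (dotH v).map_zsmul m u

theorem eq_zero_of_dot {v : RuVec} (h : dot v v = 0) : v = 0 := ext_co fun k hk => by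
  rw [co_zero]
  exact mul_self_eq_zero.1 ((sum_eq_zero_iff_of_nonneg fun _ _ => mul_self_nonneg _).1 h k (mem_range.2 hk))

/-- the vector of a code, with offset -/
def vc (c : ℕ) : RuVec := mk fun k => (get 8 c k : ℤ) - 4

/-- the vector of a code -/
def vn (c : ℕ) : RuVec := mk fun k => (get 8 c k : ℤ)

theorem co_vc (c : ℕ) {k : ℕ} (hk : k < 56) : co (vc c) k = (get 8 c k : ℤ) - 4 := co_mk _ hk
theorem co_vn (c : ℕ) {k : ℕ} (hk : k < 56) : co (vn c) k = (get 8 c k : ℤ) := co_mk _ hk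

/-- `f` is the signed permutation `T` -/
def SPm (f : RuVec → RuVec) (T : ℕ) : Prop := ∀ k < 56, get 8 T k % 64 < 56 ∧
  ∀ v, co (f v) k = if get 8 T k < 64 then co v (get 8 T k % 64) else -co v (get 8 T k % 64)

/-- multiplication by `i` -/
def TI : ℕ := nat_lit 0x36773475327330712e6f2c6d2a6b286926672465226320611e5f1c5d1a5b185916571455125310510e4f0c4d0a4b08490647044502430041
/-- right multiplication by `j` -/
def TJ : ℕ := nat_lit 0x75743736307132736d6c2f2e28692a6b65642726206122635d5c1f1e18591a5b55541716105112534d4c0f0e08490a4b4544070600410243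
/-- right multiplication by `k` -/
def TK : ℕ := nat_lit 0x33323071777634752b2a28696f6e2c6d23222061676624651b1a18595f5e1c5d13121051575614550b0a08494f4e0c4d0302004147460445
/-- the sign change -/
def TS' : ℕ := nat_lit 0x77767574737271706f6e6d6c6b6a696827262524232221205f5e5d5c5b5a595817161514131211100f0e0d0c0b0a09084746454443424140
/-- the shift -/
def TH : ℕ := nat_lit 0x70605040302010037363534333231302f2e2d2c2b2a292827262524232221201f1e1d1c1b1a191817161514131211100f0e0d0c0b0a0908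

theorem re_i (z : GaussianInt) : (gI * z).re = -z.im := by simp [gI]
theorem im_i (z : GaussianInt) : (gI * z).im = z.re := by simp [gI]

theorem spI : SPm (gI • ·) TI := by
  intro k hk
  interval_cases k <;> exact ⟨by decide, fun v => by first | exact re_i _ | exact im_i _⟩

theorem spJ : SPm ruRj TJ := by
  intro k hk
  interval_cases k <;> exact ⟨by decide, fun v => by first | exact re_i _ | exact im_i _ | rfl⟩

theorem spK : SPm ruRk TK := by
  intro k hk
  interval_cases k <;> exact ⟨by decide, fun v => by first | exact re_i _ | exact im_i _ | rfl⟩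

theorem spS : SPm ruSign TS' := by
  intro k hk
  interval_cases k <;> exact ⟨by decide, fun v => rfl⟩

theorem spH : SPm ruShift TH := by
  intro k hk
  interval_cases k <;> exact ⟨by decide, fun v => rfl⟩

variable {f : RuVec → RuVec} {T : ℕ} {A : AddSubgroup RuVec}

theorem SPm.add (h : SPm f T) (v w : RuVec) : f (v + w) = f v + f w := ext_co fun k hk => by
  simp only [co_add, (h k hk).2]
  split_ifs <;> ring

/-- a signed permutation as an additive map -/
def SPm.hom (h : SPm f T) : RuVec →+ RuVec := AddMonoidHom.mk' f h.add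

/-- a signed permutation on codes -/
noncomputable def apS (T c : ℕ) : ℕ := force c fun c => mkT 8 56 fun k => force (get 8 T k) fun t =>
  Bool.rec (Nat.sub 8 (get 8 c (Nat.mod t 64))) (get 8 c (Nat.mod t 64)) (Nat.blt t 64)

/-- the fields are at most eight -/
def Bd (c : ℕ) : Prop := ∀ k < 56, get 8 c k ≤ 8

/-- check of `Bd` -/
noncomputable def bd (c : ℕ) : Bool := allLt (fun k => Nat.ble (get 8 c k) 8) 56

theorem bd_spec {c : ℕ} (h : bd c = true) : Bd c := fun k hk => Nat.le_of_ble_eq_true (allLt_iff.1 h k hk)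

theorem get_apS (T c : ℕ) {k : ℕ} (hk : k < 56) :
    get 8 (apS T c) k = if get 8 T k < 64 then get 8 c (get 8 T k % 64) else 8 - get 8 c (get 8 T k % 64) := by
  have e : ∀ t, (Bool.rec (Nat.sub 8 (get 8 c (Nat.mod t 64))) (get 8 c (Nat.mod t 64)) (Nat.blt t 64) : ℕ) =
      if t < 64 then get 8 c (t % 64) else 8 - get 8 c (t % 64) := fun t => by
    split_ifs with a
    · rw [Nat.blt_eq.mpr a]; rfl
    · rw [Bool.eq_false_iff.2 fun b => a (Nat.blt_eq.mp b)]; rfl
  simp only [apS, force_eq, e]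
  rw [get_mkT fun i _ => by
    split_ifs
    · exact get_lt _ _ _
    · omega, if_pos hk]

theorem SPm.apS (h : SPm f T) {c : ℕ} (hc : Bd c) : Bd (apS T c) ∧ f (vc c) = vc (apS T c) := by
  refine ⟨fun k hk => ?_, ext_co fun k hk => ?_⟩
  · have := hc _ (h k hk).1
    rw [get_apS T c hk]; split_ifs <;> omega
  · have := hc _ (h k hk).1
    rw [(h k hk).2, co_vc _ hk, co_vc _ (h k hk).1, get_apS T c hk]
    split_ifs <;> omega

/-- the five maps -/
noncomputable def mp (l : ℕ) : ℕ := nd TI [TJ, TK, TS', TH] l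

theorem mp_spec (l : ℕ) : ∃ f, SPm f (mp l) ∧ ∀ L ∈ ruClosed, ∀ v ∈ L, f v ∈ L := by
  rcases l with _ | _ | _ | _ | l
  · exact ⟨_, spJ, fun L h v hv => (h.2 v hv).2.1⟩
  · exact ⟨_, spK, fun L h v hv => (h.2 v hv).2.2.1⟩
  · exact ⟨_, spS, fun L h v hv => (h.2 v hv).2.2.2.1⟩
  · exact ⟨_, spH, fun L h v hv => (h.2 v hv).2.2.2.2⟩
  · exact ⟨_, spI, fun L h v hv => (h.2 v hv).1⟩

/-- a word in the five maps -/
noncomputable def apWd (u : List ℕ) (c : ℕ) : ℕ := List.rec c (fun l _ ih => apS (mp l) ih) u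

theorem mem_apWd {c : ℕ} (hc : Bd c) (h : vc c ∈ ruLattice) (u : List ℕ) : Bd (apWd u c) ∧ vc (apWd u c) ∈ ruLattice := by
  induction u with
  | nil => exact ⟨hc, h⟩
  | cons l u ih =>
    obtain ⟨f, a, b⟩ := mp_spec l
    refine ⟨(a.apS ih.1).1, ?_⟩
    change vc (apS (mp l) (apWd u c)) ∈ _
    rw [← (a.apS ih.1).2]
    exact AddSubgroup.mem_sInf.2 fun L hL => b L hL _ (AddSubgroup.mem_sInf.1 ih.2 L hL)

/-- all fields four -/
def c4 : ℕ := nat_lit 0x404040404040404040404040404040404040404040404040404040404040404040404040404040404040404040404040404040404040404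
/-- all fields three -/
def m3 : ℕ := nat_lit 0x303030303030303030303030303030303030303030303030303030303030303030303030303030303030303030303030303030303030303

theorem get_c4 (k : ℕ) : get 8 c4 k = if k < 56 then 4 else 0 :=
  (show c4 = cst 8 56 4 by decide +kernel) ▸ get_cst (by norm_num) (by norm_num) k
theorem get_m3 (k : ℕ) : get 8 m3 k = if k < 56 then 3 else 0 :=
  (show m3 = cst 8 56 3 by decide +kernel) ▸ get_cst (by norm_num) (by norm_num) k

/-- the code of four times a unit vector -/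
def fr (k : ℕ) : ℕ := Nat.add c4 (Nat.shiftLeft 4 (Nat.mul 8 k))

theorem co_fr {k j : ℕ} (hk : k < 56) (hj : j < 56) : co (vc (fr k)) j = if j = k then 4 else 0 := by
  have : ∀ k < 56, ∀ j < 56, (get 8 (fr k) j : ℤ) - 4 = if j = k then 4 else 0 := by decide +kernel
  rw [co_vc _ hj, this k hk j hj]

theorem four_eq (v : RuVec) : (4 : ℤ) • v = ∑ k ∈ range 56, co v k • vc (fr k) := ext_co fun j hj => by
  rw [co_zsmul, co_sum, sum_eq_single j (fun k hk e => by rw [co_zsmul, co_fr (mem_range.1 hk) hj, if_neg e.symm, mul_zero])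
    (fun e => absurd (mem_range.2 hj) e), co_zsmul, co_fr hj hj, if_pos rfl, mul_comm]

theorem four_mem (h : ∀ k < 56, vc (fr k) ∈ A) (v : RuVec) : (4 : ℤ) • v ∈ A :=
  four_eq v ▸ A.sum_mem fun k hk => A.zsmul_mem (h k (mem_range.1 hk)) _

theorem mem_mod (h4 : ∀ v : RuVec, (4 : ℤ) • v ∈ A) {v w : RuVec} (hv : v ∈ A) (h : ∀ k < 56, 4 ∣ co w k - co v k) : w ∈ A := by
  have : w = v + (4 : ℤ) • mk fun k => (co w k - co v k) / 4 := ext_co fun k hk => by
    rw [co_add, co_zsmul, co_mk _ hk, Int.mul_ediv_cancel' (h k hk)]; ring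
  exact this ▸ A.add_mem hv (h4 _)

theorem get_m3_land (x : ℕ) (k : ℕ) : get 8 (x &&& m3) k = if k < 56 then get 8 x k % 4 else 0 := by
  rw [get_land, get_m3]
  split_ifs
  · exact Nat.and_two_pow_sub_one_eq_mod _ 2
  · exact Nat.and_zero _

/-- reduction modulo four -/
noncomputable def redC (gs : List (ℕ × ℕ)) (d : ℕ) : ℕ → Bool :=
  List.rec (fun x => Nat.beq x 0) (fun g _ ih x => force (Nat.land (Nat.add x (Nat.mul (Nat.land g.1 m3)
    (Nat.land (Nat.shiftRight (Nat.lor x d) g.2) 3))) m3) ih) gs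

theorem mem_of_redC (h4 : ∀ v : RuVec, (4 : ℤ) • v ∈ A) {gs : List (ℕ × ℕ)} (hg : ∀ g ∈ gs, vn g.1 ∈ A) {d x : ℕ}
    (e : redC gs d (x &&& m3) = true) : vn x ∈ A := by
  induction gs generalizing x with
  | nil =>
    refine mem_mod h4 A.zero_mem fun k hk => ?_
    have := get_m3_land x k
    rw [Nat.eq_of_beq_eq_true e, get_zero_left, if_pos hk] at this
    rw [co_vn _ hk, co_zero]; omega
  | cons g gs ih =>
    obtain ⟨h1, h2⟩ := List.forall_mem_cons.1 hg
    have a := ih h2 e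
    generalize hm : Nat.land (Nat.shiftRight (Nat.lor (x &&& m3) d) g.2) 3 = m at a
    have b : m ≤ 3 := hm ▸ Nat.and_le_right
    refine mem_mod h4 (A.sub_mem a (A.zsmul_mem h1 m)) fun k hk => ?_
    have c : ∀ i, get 8 (g.1 &&& m3) i * m ≤ 3 * 3 := fun i => Nat.mul_le_mul (by rw [get_m3_land]; split_ifs <;> omega) b
    have c' : ∀ i, get 8 (g.1 &&& m3) i * m < 2 ^ 8 := fun i => by have := c i; omega
    rw [co_sub, co_zsmul, co_vn _ hk, co_vn _ hk, co_vn _ hk]
    change _ ∣ _ - (((get 8 ((x &&& m3) + (g.1 &&& m3) * m) k : ℕ) : ℤ) - _)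
    rw [get_add fun i => by rw [get_mul c', get_m3_land]; have := c i; split_ifs <;> omega, get_mul c', get_m3_land,
      get_m3_land, if_pos hk, if_pos hk]
    push_cast

    have h5 : (4 : ℤ) ∣ (get 8 g.1 k : ℤ) - (get 8 g.1 k : ℤ) % 4 := by omega
    have h6 : (4 : ℤ) ∣ (get 8 x k : ℤ) - (get 8 x k : ℤ) % 4 := by omega
    exact (dvd_add h6 (h5.mul_left m)).trans (dvd_of_eq (by ring))

/-- membership test -/
noncomputable def memC (gs : List (ℕ × ℕ)) (d x : ℕ) : Bool := force (Nat.land x m3) (redC gs d)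

theorem vn_iff (h4 : ∀ v : RuVec, (4 : ℤ) • v ∈ A) {c : ℕ} : vn c ∈ A ↔ vc c ∈ A :=
  ⟨fun h => mem_mod h4 h fun k hk => by rw [co_vc _ hk, co_vn _ hk]; omega,
    fun h => mem_mod h4 h fun k hk => by rw [co_vc _ hk, co_vn _ hk]; omega⟩

theorem mem_of_memC (h4 : ∀ v : RuVec, (4 : ℤ) • v ∈ A) {gs : List (ℕ × ℕ)} (hg : ∀ g ∈ gs, vc g.1 ∈ A) {d x : ℕ}
    (e : memC gs d x = true) : vc x ∈ A := (vn_iff h4).1 (mem_of_redC h4 (fun g h => (vn_iff h4).2 (hg g h)) e)

/-- the lattice of a code modulo four -/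
def K (gs : List (ℕ × ℕ)) : AddSubgroup RuVec :=
  AddSubgroup.closure ({v | ∃ g ∈ gs, vc g.1 = v} ∪ {v | ∃ u : RuVec, (4 : ℤ) • u = v})

variable {gs : List (ℕ × ℕ)}

theorem K_four (v : RuVec) : (4 : ℤ) • v ∈ K gs := AddSubgroup.subset_closure (Or.inr ⟨v, rfl⟩)

theorem K_gen : ∀ g ∈ gs, vc g.1 ∈ K gs := fun g h => AddSubgroup.subset_closure (Or.inl ⟨g, h, rfl⟩)

theorem K_le (h4 : ∀ v : RuVec, (4 : ℤ) • v ∈ A) (h : ∀ g ∈ gs, vc g.1 ∈ A) : K gs ≤ A :=
  (AddSubgroup.closure_le _).2 (by rintro _ (⟨g, a, rfl⟩ | ⟨u, rfl⟩); exacts [h g a, h4 u])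

/-- the code is closed under the five maps and contains the table -/
noncomputable def clOk (gs : List (ℕ × ℕ)) (tab : List ℕ) : Bool := band (allL (memC gs 0) tab)
  (allL (fun g => band (bd g.1) (allLt (fun l => memC gs 0 (apS (mp l) g.1)) 5)) gs)

theorem le_K {tab : List ℕ} (ht : ruTable = tab.map vc) (e : clOk gs tab = true) : ruLattice ≤ K gs := by
  simp only [clOk, band_eq_true, allL_iff, allLt_iff] at e
  have k : ∀ l < 5, ∀ {f}, SPm f (mp l) → ∀ v ∈ K gs, f v ∈ K gs := fun l hl f h =>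
    K_le (A := (K gs).comap h.hom) (fun v => by rw [AddSubgroup.mem_comap, map_zsmul]; exact K_four _) fun g hg => by
      change f _ ∈ K gs
      rw [(h.apS (bd_spec (e.2 g hg).1)).2]
      exact mem_of_memC K_four K_gen ((e.2 g hg).2 l hl)
  refine sInf_le ⟨fun v hv => ?_, fun v hv => ⟨k 4 (by norm_num) spI v hv, k 0 (by norm_num) spJ v hv,
    k 1 (by norm_num) spK v hv, k 2 (by norm_num) spS v hv, k 3 (by norm_num) spH v hv⟩⟩
  obtain ⟨c, a, rfl⟩ := List.mem_map.1 (ht ▸ hv)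
  exact mem_of_memC K_four K_gen (e.1 c a)

/-- scalar products of codes -/
noncomputable def dotC (a b : ℕ) : ℕ := H14.sumLt 56 fun k => Nat.mul (get 8 a k) (get 8 b k)

theorem dotC_eq (a b : ℕ) : (dotC a b : ℤ) = dot (vn a) (vn b) := by
  rw [dotC, H14.sumLt_eq, dot, Nat.cast_sum]
  exact sum_congr rfl fun k hk => by rw [co_vn _ (mem_range.1 hk), co_vn _ (mem_range.1 hk)]; exact Nat.cast_mul _ _

/-- the Gram matrix -/
noncomputable def gramOk (gs : List (ℕ × ℕ)) : Bool := allL (fun g => band (Nat.beq (Nat.mod (dotC g.1 g.1) 8) 0)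
  (allL (fun h => Nat.beq (Nat.mod (dotC g.1 h.1) 4) 0) gs)) gs

theorem K_ind (h4 : ∀ v : RuVec, (4 : ℤ) • v ∈ A) (h : ∀ g ∈ gs, vn g.1 ∈ A) : K gs ≤ A := K_le h4 fun g a => (vn_iff h4).1 (h g a)

theorem dual (e : gramOk gs = true) {x y : RuVec} (hx : x ∈ K gs) (hy : y ∈ K gs) : 4 ∣ dot x y := by
  simp only [gramOk, band_eq_true, allL_iff, Nat.beq_eq] at e
  have k : ∀ {y}, (∀ g ∈ gs, 4 ∣ dot (vn g.1) y) → ∀ x ∈ K gs, 4 ∣ dot x y := fun {y} h x hx =>
    Int.mem_zmultiples_iff.1 (K_ind (A := (AddSubgroup.zmultiples 4).comap (dotH y))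
      (fun v => Int.mem_zmultiples_iff.2 ⟨_, dot_smul 4 v y⟩) (fun g a => Int.mem_zmultiples_iff.2 (h g a)) hx)
  refine k (fun g hg => dot_comm y _ ▸ k (fun h hh => ?_) y hy) x hx
  rw [← dotC_eq]
  exact Int.natCast_dvd_natCast.2 (Nat.dvd_of_mod_eq_zero ((e h hh).2 g hg))

theorem even (e : gramOk gs = true) {x : RuVec} (hx : x ∈ K gs) : 8 ∣ dot x x := by
  let B : AddSubgroup RuVec :=
    { carrier := {x | x ∈ K gs ∧ 8 ∣ dot x x}
      zero_mem' := ⟨AddSubgroup.zero_mem _, by simp [dot, co_zero]⟩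
      add_mem' := fun {a b} ha hb => ⟨AddSubgroup.add_mem _ ha.1 hb.1, by
        have := dual e ha.1 hb.1
        have := ha.2
        have := hb.2
        rw [dot_add]; omega⟩
      neg_mem' := fun {a} ha => ⟨AddSubgroup.neg_mem _ ha.1, by simpa [dot, co_neg] using ha.2⟩ }
  refine (K_ind (A := B) (fun v => ⟨K_four v, ?_⟩) (fun g a => ⟨(vn_iff K_four).2 (K_gen g a), ?_⟩) hx).2
  · rw [dot_smul, dot_comm, dot_smul]; omega
  · simp only [gramOk, band_eq_true, allL_iff, Nat.beq_eq] at e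
    rw [← dotC_eq]
    exact Int.natCast_dvd_natCast.2 (Nat.dvd_of_mod_eq_zero (e g a).1)

end H27.Ru
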