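import Cfsg.Agent.H27.RuA

/-!
Short vectors of the lattice of a code modulo four (namespace `H27.Ru`): spans `Sn`, `allSn`, `sol`, `allSw`, `leaf`, `classify`.
-/

set_option autoImplicit false
set_option exponentiation.threshold 700

namespace H27.Ru
open Cfsg.Spor H13 H14.PK Finset

/-- the span over the field with two elements -/
def Sn : List ℕ → ℕ → Prop
  | [], u => u = 0
  | c :: cs, u => Sn cs u ∨ Sn cs (u ^^^ c)

variable {cs : List ℕ} {u v a : ℕ} {k : ℕ → Bool}

theorem xor_xor (a b : ℕ) : a ^^^ b ^^^ b = a := by rw [Nat.xor_assoc, Nat.xor_self, Nat.xor_zero]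

theorem Sn.xor (h : Sn cs u) (h' : Sn cs v) : Sn cs (u ^^^ v) := by
  induction cs generalizing u v with
  | nil => rw [show u = 0 from h, show v = 0 from h']; rfl
  | cons c cs ih =>
    rcases h with h | h <;> rcases h' with h' | h'
    · exact Or.inl (ih h h')
    · exact Or.inr (Nat.xor_assoc u v c ▸ ih h h')
    · exact Or.inr (by rw [Nat.xor_assoc, Nat.xor_comm v, ← Nat.xor_assoc]; exact ih h h')
    · exact Or.inl (by
        have := ih h h'
        rwa [Nat.xor_comm v, ← Nat.xor_assoc, xor_xor] at this)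

theorem Sn.zero : Sn cs 0 := by
  induction cs with
  | nil => rfl
  | cons c cs ih => exact Or.inl ih

theorem Sn.mem (h : u ∈ cs) : Sn cs u := by
  induction cs with
  | nil => cases h
  | cons c cs ih =>
    rcases List.mem_cons.1 h with rfl | h
    · exact Or.inr (by rw [Nat.xor_self]; exact Sn.zero)
    · exact Or.inl (ih h)

theorem Sn.ind {P : ℕ → Prop} (h0 : P 0) (hx : ∀ a b, P a → P b → P (a ^^^ b)) (hc : ∀ c ∈ cs, P c) (h : Sn cs u) : P u := by
  induction cs generalizing u with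
  | nil => exact (show u = 0 from h) ▸ h0
  | cons c cs ih =>
    obtain ⟨h1, h2⟩ := List.forall_mem_cons.1 hc
    rcases h with h | h
    · exact ih h2 h
    · exact xor_xor u c ▸ hx _ _ (ih h2 h) h1

/-- a test on a coset of the span -/
noncomputable def allSn (k : ℕ → Bool) (cs : List ℕ) : ℕ → Bool :=
  List.rec k (fun c _ ih a => band (ih a) (force (Nat.xor a c) ih)) cs

theorem allSn_spec (e : allSn k cs a = true) (h : Sn cs u) : k (a ^^^ u) = true := by
  induction cs generalizing a u with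
  | nil => rw [show u = 0 from h, Nat.xor_zero]; exact e
  | cons c cs ih =>
    obtain ⟨e1, e2⟩ := band_eq_true.1 e
    rcases h with h | h
    · exact ih e1 h
    · have := ih (a := a ^^^ c) e2 h
      rwa [Nat.xor_comm u, ← Nat.xor_assoc, xor_xor] at this

theorem allSn_cons {c : ℕ} (e1 : allSn k cs a = true) (e2 : allSn k cs (Nat.xor a c) = true) : allSn k (c :: cs) a = true :=
  band_eq_true.2 ⟨e1, e2⟩

/-- clear the bit `b` -/
noncomputable def elm (c b u : ℕ) : ℕ := Bool.rec u (Nat.xor u c) (bt u b)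

/-- the bound -/
def C512 : ℕ := nat_lit 0x100000000000000000000000000000000000000000000000000000000000000000000000000000000000000000000000000000000000000000000000000000000

/-- all fields one -/
def m1 : ℕ := nat_lit 0x101010101010101010101010101010101010101010101010101010101010101010101010101010101010101010101010101010101010101

/-- a pivot -/
def pv (c : ℕ) : ℕ := Nat.add 504 (Nat.mul 8 (Nat.mod (Nat.land (Nat.xor (Nat.shiftRight c 512)
  (Nat.sub (Nat.shiftRight c 512) 1)) m1) 255))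

/-- a test on the small members of a coset of the span -/
noncomputable def sol (k : ℕ → Bool) (fuel : ℕ) : List ℕ → ℕ → Bool :=
  Nat.rec (fun _ _ => false) (fun _ ih l a => List.rec (bor (Nat.ble C512 a) (k a)) (fun c cs _ => force (pv c) fun b =>
    Bool.rec (band (ih cs a) (force (Nat.xor a c) (ih cs)))
      (H14.forceL (H14.mapL (elm c b) cs) fun cs' => force (elm c b a) (ih cs')) (band (Nat.ble 512 b) (bt c b))) l) fuel

theorem sol_spec {fuel : ℕ} (e : sol k fuel cs a = true) (h : Sn cs u) (hs : a ^^^ u < 2 ^ 512) : k (a ^^^ u) = true := by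
  induction fuel generalizing cs a u with
  | zero => cases e
  | succ fuel ih =>
    rcases cs with _ | ⟨c, cs⟩
    · rw [show u = 0 from h, Nat.xor_zero] at hs ⊢
      refine (bor_eq_true.1 e).resolve_left fun c => ?_
      rw [Nat.ble_eq, show C512 = 2 ^ 512 by decide +kernel] at c
      omega
    have e0 : sol k (fuel + 1) (c :: cs) a = Bool.rec (band (sol k fuel cs a) (sol k fuel cs (a ^^^ c)))
      (H14.forceL (H14.mapL (elm c (pv c)) cs) fun cs' => sol k fuel cs' (elm c (pv c) a))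
        (band (Nat.ble 512 (pv c)) (bt c (pv c))) := rfl
    rw [e0] at e
    generalize pv c = b at e
    cases hc : band (Nat.ble 512 b) (bt c b) <;> rw [hc] at e
    · obtain ⟨e1, e2⟩ := band_eq_true.1 e
      rcases h with h | h
      · exact ih e1 h hs
      · have e3 : a ^^^ c ^^^ (u ^^^ c) = a ^^^ u := by rw [Nat.xor_comm u, ← Nat.xor_assoc, xor_xor]
        exact e3 ▸ ih e2 h (e3 ▸ hs)
    simp only [band_eq_true, Nat.ble_eq, bt_eq] at hc
    rw [H14.forceL_eq, H14.mapL_eq] at e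
    have k1 : ∀ u, (u.testBit b = false ∧ elm c b u = u) ∨ (u.testBit b = true ∧ elm c b u = u ^^^ c) := fun u => by
      rw [elm, bt_eq]; cases u.testBit b <;> simp
    have k2 : Sn (c :: cs.map (elm c b)) u := h.ind Sn.zero (fun _ _ => Sn.xor) (List.forall_mem_cons.2
      ⟨Sn.mem List.mem_cons_self, fun d hd => by
        have := Sn.mem (List.mem_map_of_mem (f := elm c b) hd)
        rcases k1 d with x | x <;> rw [x.2] at this
        exacts [Or.inl this, Or.inr this]⟩)
    have k3 : ∀ {u}, Sn (cs.map (elm c b)) u → u.testBit b = false := fun h =>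
      h.ind (P := fun u => u.testBit b = false) (Nat.zero_testBit b) (fun _ _ x y => by rw [Nat.testBit_xor, x, y]; rfl)
        (List.forall_mem_map.2 fun d _ => by
          rcases k1 d with x | x <;> rw [x.2]
          · exact x.1
          · rw [Nat.testBit_xor, x.1, hc.2]; rfl)
    have k4 := Nat.testBit_eq_false_of_lt (hs.trans_le (Nat.pow_le_pow_right (by norm_num) hc.1))
    rw [Nat.testBit_xor] at k4
    rcases k2 with h | h <;> have k5 := k3 h <;> rcases k1 a with x | x <;> rw [x.2] at e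
    · exact ih e h hs
    · rw [x.1, k5] at k4; cases k4
    · rw [Nat.testBit_xor, hc.2] at k5
      rw [x.1] at k4
      revert k4 k5; cases u.testBit b <;> simp
    · have e3 : a ^^^ c ^^^ (u ^^^ c) = a ^^^ u := by rw [Nat.xor_comm u, ← Nat.xor_assoc, xor_xor]
      exact e3 ▸ ih e h (e3 ▸ hs)

/-- selected members of a family -/
noncomputable def lst (u : ℕ → ℕ) (p : ℕ → Bool) (m : ℕ) : List ℕ := Nat.rec [] (fun j ih => Bool.rec ih (u j :: ih) (p j)) m

/-- the sum of selected members of a family -/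
def xs (u : ℕ → ℕ) (q : ℕ → Prop) [DecidablePred q] : ℕ → ℕ
  | 0 => 0
  | m + 1 => if q m then xs u q m ^^^ u m else xs u q m

section
variable {u : ℕ → ℕ} {p : ℕ → Bool} {q : ℕ → Prop} [DecidablePred q] {m : ℕ}

theorem lst_succ : lst u p (m + 1) = if p m = true then u m :: lst u p m else lst u p m := by
  change (Bool.rec (lst u p m) (u m :: lst u p m) (p m) : List ℕ) = _
  cases p m <;> rfl

theorem sn_xs (h : ∀ j < m, q j → p j = true) : Sn (lst u p m) (xs u q m) := by
  induction m with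
  | zero => rfl
  | succ m ih =>
    have := ih fun j hj => h j (by omega)
    rw [lst_succ, xs]
    split_ifs with a b b
    · exact Or.inr (by rwa [xor_xor])
    · exact Or.inl this
    · exact absurd (h m (by omega) b) a
    · exact this

theorem xs_zero (h : ∀ j < m, ¬ q j) : xs u q m = 0 := by
  induction m with
  | zero => rfl
  | succ m ih => rw [xs, if_neg (h m (by omega)), ih fun j hj => h j (by omega)]

/-- a test on the sums of at most `d` members -/
noncomputable def allSw (k : ℕ → Bool) (d : ℕ) : List ℕ → ℕ → Bool :=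
  Nat.rec (fun _ a => k a) (fun _ ih l => List.rec k (fun c cs ih2 a => band (ih2 a) (force (Nat.xor a c) (ih cs))) l) d

theorem allSw_spec {d : ℕ} (e : allSw k d (lst u p m) a = true) (h : ∀ j < m, q j → p j = true)
    (hd : ((range m).filter q).card ≤ d) : k (a ^^^ xs u q m) = true := by
  induction m generalizing d a with
  | zero => cases d <;> exact (Nat.xor_zero a).symm ▸ e
  | succ m ih =>
    rcases d with _ | d
    · rw [xs_zero fun j hj c => by
        have : j ∈ (range (m + 1)).filter q := mem_filter.2 ⟨mem_range.2 hj, c⟩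
        rw [card_eq_zero.1 (Nat.le_zero.1 hd)] at this; simp at this, Nat.xor_zero]
      exact e
    have h' : ∀ j < m, q j → p j = true := fun j hj => h j (by omega)
    rw [range_add_one, filter_insert] at hd
    rw [lst_succ] at e
    rw [xs]
    by_cases y : q m
    · rw [if_pos y] at hd ⊢
      rw [if_pos (h m (by omega) y)] at e
      rw [card_insert_of_notMem (by simp)] at hd
      have := ih (a := a ^^^ u m) (band_eq_true.1 e).2 h' (by omega)
      rwa [Nat.xor_assoc, Nat.xor_comm (u m)] at this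
    · rw [if_neg y] at hd ⊢
      split_ifs at e
      · exact ih (d := d + 1) (band_eq_true.1 e).1 h' hd
      · exact ih e h' hd

theorem get_xor2 {a b l : ℕ} (ha : get 8 a l ≤ 1) (hb : get 8 b l ≤ 1) : get 8 (a ^^^ b) l = (get 8 a l + get 8 b l) % 2 := by
  rw [get_xor]
  generalize get 8 a l = x at ha
  generalize get 8 b l = y at hb
  interval_cases x <;> interval_cases y <;> rfl

theorem get_xs {l : ℕ} (h : ∀ j < m, get 8 (u j) l ≤ 1) :
    get 8 (xs u q m) l = (∑ j ∈ range m, if q j then get 8 (u j) l else 0) % 2 := by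
  induction m with
  | zero => exact get_zero_left _ _
  | succ m ih =>
    have := ih fun j hj => h j (by omega)
    rw [xs, sum_range_succ]
    split_ifs
    · rw [get_xor2 (by omega) (h m (by omega))]; omega
    · exact this

end

theorem get_m1 (k : ℕ) : get 8 m1 k = if k < 56 then 1 else 0 :=
  (show m1 = rep 8 56 by decide +kernel) ▸ get_rep (by norm_num) _ k

theorem get_m1_land (x : ℕ) (k : ℕ) : get 8 (x &&& m1) k = if k < 56 then get 8 x k % 2 else 0 := by
  rw [get_land, get_m1]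
  split_ifs
  · exact Nat.and_one_is_mod _
  · exact Nat.and_zero _

variable {gs : List (ℕ × ℕ)} {rs : List ℕ}

/-- generators of the residue code -/
noncomputable def resOk (gs : List (ℕ × ℕ)) (rs : List ℕ) : Bool :=
  band (allL (fun g => memL (Nat.land g.1 m1) (0 :: rs)) gs) (allL (fun r => Nat.beq (Nat.land r m1) r) rs)

theorem exists_res (e : resOk gs rs = true) {x : RuVec} (hx : x ∈ K gs) :
    ∃ r, Sn rs r ∧ (∀ k, get 8 r k ≤ if k < 56 then 1 else 0) ∧ ∀ k < 56, 2 ∣ co x k - get 8 r k := by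
  simp only [resOk, band_eq_true, allL_iff, memL_iff, Nat.beq_eq] at e
  have k0 : ∀ {r}, Sn rs r → ∀ k, get 8 r k ≤ if k < 56 then 1 else 0 := fun h =>
    h.ind (P := fun r => ∀ k, get 8 r k ≤ if k < 56 then 1 else 0) (by simp) (fun a b x y k => by
      have := x k
      have := y k
      rw [get_xor2] <;> split_ifs at * <;> omega) fun c hc k => by
      rw [← e.2 c hc]
      refine (get_m1_land c k).le.trans ?_
      split_ifs <;> omega
  let B : AddSubgroup RuVec :=
    { carrier := {x | ∃ r, Sn rs r ∧ ∀ k < 56, 2 ∣ co x k - get 8 r k}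
      zero_mem' := ⟨0, Sn.zero, by simp [co_zero]⟩
      add_mem' := fun ⟨r, a1, a2⟩ ⟨s, b1, b2⟩ => ⟨_, a1.xor b1, fun k hk => by
        have := k0 a1 k
        have := k0 b1 k
        have := a2 k hk
        have := b2 k hk
        rw [co_add, get_xor2] <;> simp only [if_pos hk] at * <;> omega⟩
      neg_mem' := fun ⟨r, a1, a2⟩ => ⟨r, a1, fun k hk => by have := a2 k hk; rw [co_neg]; omega⟩ }
  obtain ⟨r, a, b⟩ := K_le (A := B) (fun v => ⟨0, Sn.zero, fun k hk => by rw [co_zsmul, get_zero_left]; omega⟩)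
    (fun g hg => ⟨g.1 &&& m1, by
      rcases List.mem_cons.1 (e.1 g hg) with c | c
      · exact (show g.1 &&& m1 = 0 from c) ▸ Sn.zero
      · exact Sn.mem c, fun k hk => by rw [co_vc _ hk, get_m1_land, if_pos hk]; omega⟩) hx
  exact ⟨r, a, k0 a, b⟩

/-- the `j`-th generator -/
noncomputable def yj (gs : List (ℕ × ℕ)) (j : ℕ) : ℕ := (nd (0, 0) gs j).1

theorem yj_mem (j : ℕ) : vn (yj gs j) ∈ K gs :=
  nd_prop (p := fun g : ℕ × ℕ => vn g.1 ∈ K gs) ((ext_co fun k hk => by rw [co_vn _ hk, co_zero, get_zero_left]; rfl : vn 0 = 0) ▸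
    AddSubgroup.zero_mem _) (fun g h => (vn_iff K_four).2 (K_gen g h)) j

/-- the columns -/
noncomputable def uOk (gs : List (ℕ × ℕ)) (U : ℕ) : Bool := allLt (fun k => force (Nat.shiftRight (get 664 U k) 64) fun u =>
  band (allLt (fun l => Nat.beq (get 8 u l) (Bool.rec 0 1 (Nat.beq l k))) 56)
    (allLt (fun j => Nat.beq (get 8 u (Nat.add 56 j)) (Nat.mod (get 8 (yj gs j) k) 2)) 19)) 56

/-- the right hand sides -/
noncomputable def kap (gs : List (ℕ × ℕ)) (r : ℕ) : ℕ := force (Nat.mul r 3) fun r3 =>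
  Nat.shiftLeft (mkT 8 19 fun j => Nat.mod (Nat.div (cnt 8 (Nat.land (yj gs j) r3)) 2) 2) 448

/-- the final test -/
noncomputable def fin (look : ℕ → Bool) (r w a : ℕ) : Bool :=
  bor (band (Nat.beq r 0) (Nat.beq (Nat.shiftRight a 64) 0))
    (band (Nat.beq w 16) (force (Nat.sub (Nat.add c4 r) (Nat.mul (Nat.shiftRight a 64) 2)) look))

/-- the test for one residue -/
noncomputable def leaf (gs : List (ℕ × ℕ)) (U : ℕ) (look : ℕ → Bool) (s : ℕ) : Bool := force (cnt 8 (Nat.shiftRight s 64)) fun w =>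
  bor (Nat.blt 16 w) (force (Nat.shiftRight s 64) fun r => H14.forceL (lst (get 664 U) (fun k => Nat.beq (get 8 r k) 0) 56) fun l0 =>
    H14.forceL (lst (get 664 U) (fun k => Nat.beq (get 8 r k) 1) 56) fun l1 =>
      force (Nat.xor (Nat.shiftLeft (kap gs r) 64) (get 64 s 0)) (allSw (sol (fin look r w) 57 l1) (Nat.div (Nat.sub 16 w) 4) l0))

/-- the code of minus four times a unit vector -/
def fr' (k : ℕ) : ℕ := Nat.sub c4 (Nat.shiftLeft 4 (Nat.mul 8 k))

theorem co_fr' {k j : ℕ} (hk : k < 56) (hj : j < 56) : co (vc (fr' k)) j = if j = k then -4 else 0 := by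
  have : ∀ k < 56, ∀ j < 56, (get 8 (fr' k) j : ℤ) - 4 = if j = k then -4 else 0 := by decide +kernel
  rw [co_vc _ hj, this k hk j hj]

theorem term_mod (x : ℤ) (y r : ℕ) (h1 : r ≤ 1) (h2 : 2 ∣ x - r) :
    4 ∣ x * y - ((y &&& r * 3 : ℕ) + 2 * (if 2 ≤ x % 4 then y % 2 else 0 : ℕ)) := by
  have a : x * y = 4 * (x / 4 * y) + x % 4 * y := by rw [← mul_assoc, ← add_mul, Int.mul_ediv_add_emod]
  have b : y &&& 1 * 3 = y % 4 := Nat.and_two_pow_sub_one_eq_mod _ 2
  rw [a]
  have : x % 4 = 0 ∨ x % 4 = 1 ∨ x % 4 = 2 ∨ x % 4 = 3 := by omega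
  interval_cases r <;> rcases this with c | c | c | c <;> simp only [c, b, zero_mul, Nat.and_zero] <;> norm_num <;> omega

theorem sb {f : ℕ → ℕ} (h : ∀ k < 56, f k ≤ 3) : ∑ k ∈ range 56, f k < 2 ^ 8 - 1 :=
  (sum_le_card_nsmul (range 56) f 3 fun k hk => h k (mem_range.1 hk)).trans_lt (by simp)

theorem get_col {U : ℕ} (e3 : uOk gs U = true) {k : ℕ} (hk : k < 56) (l : ℕ) : get 8 (get 664 U k >>> 64) l =
    if l < 56 then (if l = k then 1 else 0) else if l < 75 then get 8 (yj gs (l - 56)) k % 2 else 0 := by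
  simp only [uOk, allLt_iff, force_eq, band_eq_true, Nat.beq_eq] at e3
  split_ifs with a b b
  · exact ((e3 k hk).1 l a).trans (by rw [Nat.beq_eq.mpr b])
  · exact ((e3 k hk).1 l a).trans (by rw [Bool.eq_false_iff.2 fun c => b (Nat.beq_eq.mp c)])
  · have := (e3 k hk).2 (l - 56) (by omega)
    rwa [Nat.add_eq, Nat.add_sub_cancel' (by omega)] at this
  · exact get_eq_zero_of_lt (n := 75) (by have := get_lt 664 U k; rw [Nat.shiftRight_eq_div_pow]; omega) (by omega)

theorem get_kap {r : ℕ} (r2 : ∀ k, get 8 r k ≤ if k < 56 then 1 else 0) (l : ℕ) : get 8 (kap gs r) l = if 56 ≤ l ∧ l < 75 then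
    (∑ k ∈ range 56, (get 8 (yj gs (l - 56)) k &&& get 8 r k * 3)) / 2 % 2 else 0 := by
  have m3 : ∀ k, get 8 (r * 3) k = get 8 r k * 3 := get_mul fun i => by have := r2 i; split_ifs at this <;> omega
  refine (get_shiftLeft 8 _ 56 l).trans ?_
  rw [get_mkT (f := fun j => Nat.mod (Nat.div (cnt 8 (Nat.land (yj gs j) (Nat.mul r 3))) 2) 2)
    fun i _ => (Nat.mod_lt _ (by norm_num)).trans (by norm_num)]
  by_cases a : 56 ≤ l ∧ l < 75
  · rw [if_pos a, if_pos a.1, if_pos (by omega)]
    change cnt 8 (_ &&& r * 3) / 2 % 2 = _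
    rw [cnt_eq (n := 56) (by norm_num) (fun i hi => by
      have := r2 i; rw [if_neg (by omega)] at this; rw [get_land, m3, Nat.le_zero.1 this]; simp) (sb fun k hk => by
      rw [get_land, m3]; have := r2 k; rw [if_pos hk] at this; exact Nat.and_le_right.trans (by omega))]
    simp only [get_land, m3]
  · rw [if_neg a]
    split_ifs <;> first | rfl | omega

theorem get_sol {U : ℕ} (e1 : gramOk gs = true) (e3 : uOk gs U = true) {x : RuVec} (hx : x ∈ K gs) {r : ℕ}
    (r2 : ∀ k, get 8 r k ≤ if k < 56 then 1 else 0) (r3 : ∀ k < 56, 2 ∣ co x k - get 8 r k) (l : ℕ) :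
    get 8 (kap gs r ^^^ xs (fun k => get 664 U k >>> 64) (fun k => get 8 r k = 0 ∧ 2 ≤ co x k % 4) 56 ^^^
      xs (fun k => get 664 U k >>> 64) (fun k => get 8 r k = 1 ∧ 2 ≤ co x k % 4) 56) l = if l < 56 ∧ 2 ≤ co x l % 4 then 1 else 0 := by
  have r4 : ∀ k < 56, get 8 r k ≤ 1 := fun k hk => by simpa [hk] using r2 k
  have u2 : ∀ k < 56, get 8 (get 664 U k >>> 64) l ≤ 1 := fun k hk => by rw [get_col e3 hk]; split_ifs <;> omega
  have a : get 8 (kap gs r) l ≤ 1 := by rw [get_kap r2]; split_ifs <;> omega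
  have b := get_xs (q := fun k => get 8 r k = 0 ∧ 2 ≤ co x k % 4) u2
  have c := get_xs (q := fun k => get 8 r k = 1 ∧ 2 ≤ co x k % 4) u2
  have d : (∑ k ∈ range 56, if 2 ≤ co x k % 4 then get 8 (get 664 U k >>> 64) l else 0) =
      (∑ k ∈ range 56, if get 8 r k = 0 ∧ 2 ≤ co x k % 4 then get 8 (get 664 U k >>> 64) l else 0) +
      ∑ k ∈ range 56, if get 8 r k = 1 ∧ 2 ≤ co x k % 4 then get 8 (get 664 U k >>> 64) l else 0 := by
    rw [← sum_add_distrib]
    refine sum_congr rfl fun k hk => ?_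
    have := r4 k (mem_range.1 hk)
    split_ifs <;> omega
  have b' := b.trans_le (Nat.le_of_lt_succ (Nat.mod_lt _ two_pos))
  have c' := c.trans_le (Nat.le_of_lt_succ (Nat.mod_lt _ two_pos))
  have f := get_xor2 a b'
  rw [get_xor2 (f.trans_le (Nat.le_of_lt_succ (Nat.mod_lt _ two_pos))) c', f, b, c, Nat.mod_add_mod, Nat.add_mod_mod,
    Nat.add_right_comm, Nat.add_mod_mod, Nat.add_assoc, Nat.add_comm (∑ k ∈ range 56, _), ← d,
    sum_congr rfl fun k hk => by rw [get_col e3 (mem_range.1 hk)], get_kap r2]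
  clear a b c d b' c' f u2
  by_cases a : l < 56
  · rw [if_neg (by omega), sum_eq_single l (fun k _ c => by simp [a, c.symm]) fun c => absurd (mem_range.2 a) c]
    simp only [a, if_true, true_and]
    split_ifs <;> rfl
  by_cases b : l < 75
  · simp only [a, b, if_false, if_true, false_and, and_true, if_pos (Nat.not_lt.1 a)]
    have c := dual e1 hx (yj_mem (gs := gs) (l - 56))
    have d := Finset.dvd_sum fun k (hk : k ∈ range 56) =>
      term_mod (co x k) (get 8 (yj gs (l - 56)) k) _ (r4 k (mem_range.1 hk)) (r3 k (mem_range.1 hk))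
    rw [sum_sub_distrib, sum_add_distrib, ← mul_sum, ← Nat.cast_sum, ← Nat.cast_sum,
      ← sum_congr rfl fun k hk => congrArg (co x k * ·) (co_vn (yj gs (l - 56)) (mem_range.1 hk))] at d
    rw [dot] at c
    omega
  · simp [a, b]

theorem low_term (x : ℤ) (r : ℕ) (h1 : r ≤ 1) (h2 : 2 ∣ x - r) : ((r + if r = 0 ∧ 2 ≤ x % 4 then 4 else 0 : ℕ) : ℤ) ≤ x * x := by
  split_ifs with c
  · have : 2 ≤ x ∨ x ≤ -2 := by have := c.1; have := c.2; omega
    rw [c.1]; rcases this with d | d <;> push_cast <;> nlinarith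
  · rcases Nat.le_one_iff_eq_zero_or_eq_one.1 h1 with rfl | rfl
    · simpa using mul_self_nonneg x
    · have : 1 ≤ x ∨ x ≤ -1 := by omega
      rcases this with d | d <;> push_cast <;> nlinarith

theorem frame_of {x : RuVec} (h0 : x ≠ 0) (hn : dot x x ≤ 16) (h : ∀ k < 56, 4 ∣ co x k) :
    dot x x = 16 ∧ ∃ k < 56, x = vc (fr k) ∨ x = vc (fr' k) := by
  obtain ⟨k, hk, c⟩ : ∃ k < 56, co x k ≠ 0 := by
    by_contra! c
    exact h0 (ext_co fun k hk => (c k hk).trans (co_zero k).symm)
  have b3 : 16 ≤ co x k * co x k := by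
    have : 4 ≤ co x k ∨ co x k ≤ -4 := by have := h k hk; omega
    rcases this with d | d <;> nlinarith
  have b4 : _ = dot x x := add_sum_erase (range 56) (fun k => co x k * co x k) (mem_range.2 hk)
  have b5 : 0 ≤ ∑ j ∈ (range 56).erase k, co x j * co x j := sum_nonneg fun _ _ => mul_self_nonneg _
  have b6 : ∀ j < 56, j ≠ k → co x j = 0 := fun j hj d => mul_self_eq_zero.1
    ((sum_eq_zero_iff_of_nonneg fun _ _ => mul_self_nonneg _).1 (le_antisymm (by linarith) b5) j
      (mem_erase.2 ⟨d, mem_range.2 hj⟩))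
  refine ⟨by linarith, k, hk, (mul_self_eq_mul_self_iff.1 (show co x k * co x k = 4 * 4 by linarith)).imp (fun d => ?_) fun d => ?_⟩
  · refine ext_co fun j hj => ?_
    rw [co_fr hk hj]; split_ifs with c
    exacts [c ▸ d, b6 j hj c]
  · refine ext_co fun j hj => ?_
    rw [co_fr' hk hj]; split_ifs with c
    exacts [c ▸ d, b6 j hj c]

theorem unit_of {x : RuVec} {r a : ℕ} (r2 : ∀ k, get 8 r k ≤ if k < 56 then 1 else 0)
    (u5 : ∀ l, get 8 a l = if l < 56 ∧ 2 ≤ co x l % 4 then 1 else 0) (h : ∀ k < 56, (get 8 r k : ℤ) = co x k * co x k) :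
    x = vc (c4 + r - a * 2) := ext_co fun k hk => by
  have b3 : ∀ i, get 8 (a * 2) i = get 8 a i * 2 := get_mul fun i => by rw [u5]; split_ifs <;> norm_num
  have b4 : ∀ i, get 8 (c4 + r) i = get 8 c4 i + get 8 r i := get_add fun i => by
    have := r2 i; rw [get_c4]; split_ifs at * <;> omega
  rw [co_vc _ hk, get_sub (by norm_num) fun i => by rw [b3, b4, u5, get_c4]; split_ifs <;> omega, b3, b4, u5, get_c4, if_pos hk]
  have b1 := h k hk
  have b5 := r2 k
  rw [if_pos hk] at b5
  generalize co x k = z at *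
  have b6 : z ≤ 1 := by nlinarith
  have b7 : -1 ≤ z := by nlinarith
  interval_cases z <;> simp [hk] at b1 ⊢ <;> omega

theorem xs_shift {u : ℕ → ℕ} {q : ℕ → Prop} [DecidablePred q] (m : ℕ) : xs u q m >>> 64 = xs (fun k => u k >>> 64) q m := by
  induction m with
  | zero => exact Nat.zero_shiftRight _
  | succ m ih => rw [xs, xs]; split_ifs; exacts [by rw [Nat.shiftRight_xor_distrib, ih], ih]

theorem classify {U : ℕ} {look : ℕ → Bool} (e1 : gramOk gs = true)
    (e2 : resOk gs (H14.mapL (fun r => Nat.shiftRight r 64) rs) = true) (e3 : uOk gs U = true)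
    (e4 : allSn (leaf gs U look) rs 0 = true) (e5 : allLt (fun k => band (look (fr k)) (look (fr' k))) 56 = true)
    {x : RuVec} (hx : x ∈ K gs) (h0 : x ≠ 0) (hn : dot x x ≤ 16) : dot x x = 16 ∧ ∃ c, look c = true ∧ x = vc c := by
  obtain ⟨r, r1, r2, r3⟩ := exists_res e2 hx
  obtain ⟨s, s1, rfl⟩ : ∃ s, Sn rs s ∧ s >>> 64 = r := r1.ind (P := fun r => ∃ s, Sn rs s ∧ s >>> 64 = r) ⟨0, Sn.zero, rfl⟩
    (fun _ _ ⟨_, a, b⟩ ⟨_, c, d⟩ => ⟨_, a.xor c, by rw [Nat.shiftRight_xor_distrib, b, d]⟩)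
    (by rw [H14.mapL_eq]; exact List.forall_mem_map.2 fun c hc => ⟨c, Sn.mem hc, rfl⟩)
  have e := allSn_spec e4 s1
  simp only [Nat.zero_xor, leaf, force_eq, H14.forceL_eq, bor_eq_true, Nat.blt_eq, Nat.shiftRight_eq] at e
  generalize s >>> 64 = r at *
  have r4 : ∀ k < 56, get 8 r k ≤ 1 := fun k hk => by simpa [hk] using r2 k
  have w1 : cnt 8 r = ∑ k ∈ range 56, get 8 r k := cnt_eq (by norm_num) (fun k hk => by simpa [Nat.not_lt.2 hk] using r2 k)
    (sb fun k hk => by have := r4 k hk; omega)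
  have n1 := fun k (hk : k ∈ range 56) => low_term (co x k) _ (r4 k (mem_range.1 hk)) (r3 k (mem_range.1 hk))
  have n0 : (∑ k ∈ range 56, ((get 8 r k + if get 8 r k = 0 ∧ 2 ≤ co x k % 4 then 4 else 0 : ℕ) : ℤ)) =
      (cnt 8 r + ((range 56).filter fun k => get 8 r k = 0 ∧ 2 ≤ co x k % 4).card * 4 : ℕ) := by
    rw [← Nat.cast_sum, sum_add_distrib, ← w1, ← sum_filter, sum_const, smul_eq_mul]
  have n2 : _ ≤ dot x x := n0.ge.trans (sum_le_sum n1)
  have u5 := get_sol e1 e3 hx r2 r3
  have u6 : kap gs r = (Nat.xor (Nat.shiftLeft (kap gs r) 64) (get 64 s 0)) >>> 64 := by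
    change _ = (kap gs r <<< 64 ^^^ _) >>> 64
    rw [Nat.shiftRight_xor_distrib, Nat.shiftLeft_shiftRight, Nat.shiftRight_eq_div_pow, Nat.div_eq_of_lt (get_lt _ _ _),
      Nat.xor_zero]
  rw [u6, ← xs_shift, ← xs_shift, ← Nat.shiftRight_xor_distrib, ← Nat.shiftRight_xor_distrib] at u5
  have f := sol_spec (allSw_spec (q := fun k => get 8 r k = 0 ∧ 2 ≤ co x k % 4) (e.resolve_left (by omega))
    (fun j _ c => Nat.beq_eq.mpr c.1) (by
      change _ ≤ (16 - cnt 8 r) / 4
      omega)) (sn_xs (q := fun k => get 8 r k = 1 ∧ 2 ≤ co x k % 4) fun j _ c => Nat.beq_eq.mpr c.1)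
    (by
      have := lt_of_get (w := 8) (n := 56) (by norm_num) fun i hi => (u5 i).trans (if_neg (by omega))
      rw [Nat.shiftRight_eq_div_pow] at this
      omega)
  simp only [fin, bor_eq_true, band_eq_true, Nat.beq_eq, force_eq, Nat.shiftRight_eq] at f
  generalize (_ ^^^ _ ^^^ _) >>> 64 = a at u5 f
  rcases f with ⟨rfl, rfl⟩ | ⟨f1, f2⟩
  · obtain ⟨a, k, hk, b⟩ := frame_of h0 hn fun k hk => by
      have b1 := u5 k
      have b2 := r3 k hk
      rw [get_zero_left] at b1 b2
      split_ifs at b1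
      omega
    have b7 := band_eq_true.1 (allLt_iff.1 e5 k hk)
    exact ⟨a, b.elim (fun b => ⟨_, b7.1, b⟩) fun b => ⟨_, b7.2, b⟩⟩
  · refine ⟨by omega, _, f2, unit_of r2 u5 fun k hk => ?_⟩
    have b1 := (sum_eq_sum_iff_of_le n1).1 (n0.trans (show _ = dot x x by omega)) k (mem_range.2 hk)
    rwa [if_neg fun c => by
      have := card_pos.2 ⟨k, (mem_filter (p := fun k => get 8 r k = 0 ∧ 2 ≤ co x k % 4)).2 ⟨mem_range.2 hk, c⟩⟩
      omega] at b1

end H27.Ru
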