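import Cfsg.Agent.H27.RuB

/-!
Numbered short vectors and automorphisms of the Conway–Wales lattice (namespace `H27.Ru`):
`code`, `look`, `ptOk`, arrays of coordinates `Ar`, `matOk`, `exists_aut`, labels `lb`, upper bounds `upK`.
-/

set_option autoImplicit false

namespace H27.Ru
open Cfsg.Spor H13 H14.PK H14.PK.TS Finset
open H14 (Sp Fl forceL mapL lin sumLt)

/-- the code of a point -/
noncomputable def code (Y : List ℕ) (i : ℕ) : ℕ := List.rec 0 (fun y _ ih => Nat.lor (Nat.shiftLeft ih 16) (get 16 y i)) Y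

theorem get_code (Y : List ℕ) (i m : ℕ) : get 16 (code Y i) m = get 16 (Y.getD m 0) i := by
  induction Y generalizing m with
  | nil => exact (get_zero_left _ _).trans (get_zero_left _ _).symm
  | cons y Y ih =>
    refine (get_lor 16 _ _ m).trans ?_
    rw [get_small (get_lt _ _ _)]
    have := get_shiftLeft 16 (code Y i) 1 m
    rcases m with _ | m
    · exact (congrArg (· ||| _) this).trans (by simp)
    · exact (congrArg (· ||| _) this).trans (by simp [ih])

theorem get_get (c k : ℕ) : get 8 c k = get 8 (get 16 c (k / 2)) (k % 2) := Nat.eq_of_testBit_eq fun j => by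
  simp only [testBit_get]
  by_cases h : j < 8
  · rw [show 16 * (k / 2) + (8 * (k % 2) + j) = 8 * k + j by omega]
    simp [h, show 8 * (k % 2) + j < 16 by omega]
  · simp [h]

/-- all fields fifteen -/
def m15 : ℕ := nat_lit 0xf0f0f0f0f0f0f0f0f0f0f0f0f0f0f0f0f0f0f0f0f0f0f0f0f0f0f0f0f0f0f0f0f0f0f0f0f0f0f0f0f0f0f0f0f0f0f0f0f0f0f0f0f0f0f0f

theorem get_m15 {c : ℕ} (h : Nat.beq (Nat.land c m15) c = true) (k : ℕ) : get 8 c k ≤ if k < 56 then 15 else 0 := by
  rw [← Nat.eq_of_beq_eq_true h, ← get_cst (w := 8) (by norm_num) (by norm_num), ← show m15 = cst 8 56 15 by decide +kernel]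
  exact (get_land _ _ _ _).le.trans Nat.and_le_right

theorem lt_m15 {c : ℕ} (h : Nat.beq (Nat.land c m15) c = true) {k : ℕ} (hk : k < 56) : get 8 c k < 16 := by
  have := get_m15 h k
  rw [if_pos hk] at this; omega

theorem vc_inj {c d : ℕ} (hc : Nat.beq (Nat.land c m15) c = true) (hd : Nat.beq (Nat.land d m15) d = true) (e : vc c = vc d) :
    c = d := ext_get (w := 8) (by norm_num) fun k => by
  by_cases hk : k < 56
  · have := congrArg (co · k) e
    simp only [co_vc _ hk] at this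
    omega
  · have := get_m15 hc k
    have := get_m15 hd k
    simp only [if_neg hk] at *
    omega

/-- the code is the code of a point -/
noncomputable def look (Y : List ℕ) (n : ℕ) (fd : ℕ → ℕ) (c : ℕ) : Bool :=
  force (fd c) fun i => band (Nat.blt i n) (Nat.beq (code Y i) c)

theorem look_spec {Y : List ℕ} {n : ℕ} {fd : ℕ → ℕ} {c : ℕ} (h : look Y n fd c = true) : fd c < n ∧ code Y (fd c) = c := by
  simpa only [look, force_eq, band_eq_true, Nat.blt_eq, Nat.beq_eq] using h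

/-- the checks on one point -/
noncomputable def ptOk (gs : List (ℕ × ℕ)) (Y : List ℕ) (fd : ℕ → ℕ) (i : ℕ) : Bool := force (code Y i) fun c =>
  band (memC gs 0 c) (band (Nat.beq (fd c) i) (Nat.beq (Nat.land c m15) c))

/-- arrays of coordinates -/
structure Ar (n : ℕ) (X : List ℕ) (f : ℕ → ℕ → ℕ) : Prop where
  len : X.length = 56
  sp : ∀ k < 56, Sp 16 n (X.getD k 0) fun i => f i k
  bd : ∀ i < n, ∀ k < 56, f i k < 16

variable {n : ℕ} {X X' Y : List ℕ} {f f' : ℕ → ℕ → ℕ}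

theorem ar_map {φ : ℕ → ℕ} (h : ∀ k < 56, Sp 16 n (φ k) fun i => f i k) (h' : ∀ i < n, ∀ k < 56, f i k < 16) :
    Ar n (mapL φ (List.range 56)) f :=
  ⟨by simp [H14.mapL_eq], fun k hk => by simpa [H14.mapL_eq, hk] using h k hk, h'⟩

/-- the arrays of coordinates of the points -/
noncomputable def PX (n : ℕ) (Y : List ℕ) : List ℕ := mapL (fun k =>
  Nat.land (Nat.shiftRight (nthN Y (Nat.div k 2)) (Nat.mul 8 (Nat.mod k 2))) (cst 16 n 255)) (List.range 56)

theorem ar_PX (h : ∀ i < n, ∀ k < 56, get 8 (code Y i) k < 16) : Ar n (PX n Y) fun i k => get 8 (code Y i) k :=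
  ar_map (fun k _ i => by
    refine (get_land 16 _ _ i).trans ?_
    rw [get_cst (by norm_num) (by norm_num)]
    split_ifs
    · beta_reduce
      rw [get_get (code Y i), get_code, nthN_eq]
      refine Nat.eq_of_testBit_eq fun j => ?_
      change ((get 16 (Y.getD (k / 2) 0 >>> (8 * (k % 2))) i) &&& (2 ^ 8 - 1)).testBit j = _
      simp only [Nat.testBit_and, testBit_get, Nat.testBit_shiftRight, Nat.testBit_two_pow_sub_one]
      by_cases h : j < 8
      · rw [show 8 * (k % 2) + (16 * i + j) = 16 * i + (8 * (k % 2) + j) by omega]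
        simp [h, show 8 * (k % 2) + j < 16 by omega, show j < 16 by omega]
      · simp [h]
    · exact Nat.and_zero _) h

/-- the arrays of coordinates of a family of codes -/
noncomputable def PC (n : ℕ) (cf : ℕ → ℕ) : List ℕ := mapL (fun k => mkT 16 n fun i => get 8 (cf i) k) (List.range 56)

theorem ar_PC {cf : ℕ → ℕ} (h : ∀ i < n, ∀ k < 56, get 8 (cf i) k < 16) : Ar n (PC n cf) fun i k => get 8 (cf i) k :=
  ar_map (fun k _ i => get_mkT (fun i _ => (get_lt _ _ _).trans (by norm_num)) i) h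

theorem Ar.net (h : Ar n X f) {N : Net} {σ : ℕ → ℕ} (h1 : ∀ i < n, σ i < n) (h2 : ∀ i, n ≤ i → σ i = i)
    (h3 : ∀ x i, get 16 (N.ap x) i = get 16 x (σ i)) : Ar n (mapL N.ap X) fun i k => f (σ i) k :=
  ⟨by rw [H14.mapL_eq, List.length_map, h.len], fun k hk i => by
    have hk' := h.len ▸ hk
    have := h.sp k hk (σ i)
    rw [List.getD_eq_getElem _ _ hk'] at this
    rw [H14.mapL_eq, List.getD_eq_getElem _ _ (by rwa [List.length_map]), List.getElem_map, h3, this]
    by_cases hi : i < n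
    · rw [if_pos hi, if_pos (h1 i hi)]
    · rw [if_neg hi, h2 i (by omega), if_neg hi], fun i hi => h.bd _ (h1 i hi)⟩

theorem s56 {F : ℕ → ℕ} {b : ℕ} (h : ∀ k < 56, F k ≤ b) : ∑ k ∈ range 56, F k ≤ 56 * b := by
  simpa using sum_le_card_nsmul (range 56) F b fun k hk => h k (mem_range.1 hk)

theorem Ar.lin_le (h : Ar n X f) {c : ℕ → ℕ} (hc : ∀ k < 56, c k < 16) {i : ℕ} (hi : i < n) :
    ∑ k ∈ range 56, f i k * c k ≤ 56 * (15 * 15) :=
  s56 fun k hk => Nat.mul_le_mul (Nat.le_of_lt_succ (h.bd i hi k hk)) (Nat.le_of_lt_succ (hc k hk))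

theorem Ar.lin (h : Ar n X f) {c : ℕ → ℕ} (hc : ∀ k < 56, c k < 16) : Sp 16 n (lin c X) fun i => ∑ k ∈ range 56, f i k * c k := by
  rw [H14.lin_eq, h.len]
  refine Sp.sum _ (fun k hk => (h.sp k (mem_range.1 hk)).mul _ fun i hi => ?_) fun i hi => ?_
  · have := Nat.mul_le_mul (h.bd i hi k (mem_range.1 hk)).le (hc k (mem_range.1 hk)).le; omega
  · have := h.lin_le hc hi; omega

theorem Ar.sum_le (h : Ar n X f) {i : ℕ} (hi : i < n) : ∑ k ∈ range 56, f i k ≤ 56 * 15 :=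
  s56 fun k hk => Nat.le_of_lt_succ (h.bd i hi k hk)

/-- four times the sums of the coordinates -/
noncomputable def sum4 (X : List ℕ) : ℕ := Nat.mul (H14.sumL (fun x => x) X) 4

theorem Ar.sum4 (h : Ar n X f) : Sp 16 n (sum4 X) fun i => (∑ k ∈ range 56, f i k) * 4 := by
  rw [Ru.sum4, H14.sumL_eq, h.len]
  exact (Sp.sum _ (fun k hk => h.sp k (mem_range.1 hk)) fun i hi => by have := h.sum_le hi; omega).mul _
    fun i hi => by have := h.sum_le hi; omega

theorem sum_off (a c : ℕ → ℕ) : ∑ k ∈ range 56, ((c k : ℤ) - 4) * ((a k : ℤ) - 4) =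
    (∑ k ∈ range 56, a k * c k : ℕ) - 4 * (∑ k ∈ range 56, a k : ℕ) - 4 * (∑ k ∈ range 56, c k : ℕ) + 896 := by
  push_cast
  simp only [mul_sum, ← sum_sub_distrib]
  rw [show (896 : ℤ) = ∑ k ∈ range 56, 16 by simp, ← sum_add_distrib]
  exact sum_congr rfl fun _ _ => by ring

/-- the matrix maps the points of `X` to four times the points of `X'` -/
noncomputable def matOk (n : ℕ) (c : ℕ → ℕ → ℕ) (X X' : List ℕ) : Bool := force (sum4 X) fun T => allLt (fun j =>
  Nat.beq (Nat.add (lin (c j) X) (cst 16 n 912))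
    (Nat.add (Nat.add (Nat.mul (nthN X' j) 4) T) (cst 16 n (Nat.mul (sumLt 56 (c j)) 4)))) 56

theorem mat_spec (h : Ar n X f) (h' : Ar n X' f') {c : ℕ → ℕ → ℕ} (hc : ∀ j < 56, ∀ k < 56, c j k < 16)
    (e : matOk n c X X' = true) {i j : ℕ} (hi : i < n) (hj : j < 56) :
    ∑ k ∈ range 56, ((c j k : ℤ) - 4) * ((f i k : ℤ) - 4) = 4 * ((f' i j : ℤ) - 4) := by
  rw [matOk, force_eq] at e
  have a := allLt_iff.1 e j hj
  have b : ∑ k ∈ range 56, c j k ≤ 56 * 15 := s56 fun k hk => Nat.le_of_lt_succ (hc j hj k hk)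
  rw [nthN_eq, H14.sumLt_eq] at a
  have := ((h.lin (hc j hj)).add (Sp.cst (c := 912) (by norm_num) (by norm_num)) fun i hi => by
    have := h.lin_le (hc j hj) hi; omega).eq_of_beq ((((h'.sp j hj).mul 4 fun i hi => by
      have := h'.bd i hi j hj; omega).add h.sum4 fun i hi => by
        have := h'.bd i hi j hj; have := h.sum_le hi; omega).add
          (Sp.cst (c := (∑ k ∈ range 56, c j k) * 4) (by norm_num) (by omega)) fun i hi => by
            have := h'.bd i hi j hj; have := h.sum_le hi; omega) a i hi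
  rw [sum_off]
  omega

/-- the points have norm sixteen -/
noncomputable def nrmOk (n : ℕ) (X : List ℕ) : Bool := force (rep 16 n) fun R =>
  Nat.beq (H14.sumL (fun x => force (Nat.add x (Nat.mul R 4)) (H14.sqA R)) X) (cst 16 n 16)

theorem nrm_spec (h : Ar n X f) (e : nrmOk n X = true) {i : ℕ} (hi : i < n) :
    ∑ k ∈ range 56, ((f i k : ℤ) - 4) * ((f i k : ℤ) - 4) = 16 := by
  rw [nrmOk, force_eq, H14.sumL_eq, h.len] at e
  have b : ∀ v < 16, (((min (v + 4) 31 : ℕ) : ℤ) - 8).natAbs ^ 2 ≤ 121 ∧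
    (((((min (v + 4) 31 : ℕ) : ℤ) - 8).natAbs ^ 2 : ℕ) : ℤ) = ((v : ℤ) - 4) * ((v : ℤ) - 4) := by decide +kernel
  have := (Sp.sum (range 56) (fun k hk => ((((h.sp k (mem_range.1 hk)).add ((Sp.rep (by norm_num)).mul 4 fun _ _ => by norm_num)
    fun i hi => by have := h.bd i hi k (mem_range.1 hk); omega).congr (g := fun i => min (f i k + 4) 31)
      fun i hi => by have := h.bd i hi k (mem_range.1 hk); omega).sqA le_rfl fun i => by omega)) fun i hi =>
        (s56 fun k hk => (b _ (h.bd i hi k hk)).1).trans_lt (by norm_num)).eq_of_beq (Sp.cst (by norm_num) (by norm_num)) e i hi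
  rw [← sum_congr rfl fun k hk => (b _ (h.bd i hi k (mem_range.1 hk))).2, ← Nat.cast_sum, this]
  rfl

/-- a matrix as an additive map -/
def mv (M : ℕ → ℕ → ℤ) : RuVec →+ RuVec := AddMonoidHom.mk' (fun v => mk fun j => ∑ k ∈ range 56, M j k * co v k)
  fun v w => ext_co fun j hj => by simp only [co_add, co_mk _ hj, mul_add, sum_add_distrib]

theorem co_mv (M : ℕ → ℕ → ℤ) (v : RuVec) {j : ℕ} (hj : j < 56) : co (mv M v) j = ∑ k ∈ range 56, M j k * co v k := co_mk _ hj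

theorem co_I (v : RuVec) {k : ℕ} (hk : k < 56) : co (gI • v) k = (if k % 2 = 0 then -1 else 1) * co v (k ^^^ 1) := by
  have : ∀ k < 56, get 8 TI k % 64 = k ^^^ 1 ∧ (get 8 TI k < 64 ↔ ¬ k % 2 = 0) := by decide +kernel
  rw [(spI k hk).2, (this k hk).1]
  simp only [(this k hk).2]
  split_ifs <;> ring

theorem mv_I {M : ℕ → ℕ → ℤ} (h : ∀ j < 56, ∀ k < 56, M j k = (if (j + k) % 2 = 0 then 1 else -1) * M (j ^^^ 1) (k ^^^ 1)) (v : RuVec) :
    mv M (gI • v) = gI • mv M v := ext_co fun j hj => by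
  have a : ∀ k < 56, k ^^^ 1 < 56 := by decide
  rw [co_I _ hj, co_mv _ _ hj, co_mv _ _ (a j hj), mul_sum]
  refine sum_nbij' (· ^^^ 1) (· ^^^ 1) (fun k hk => mem_range.2 (a k (mem_range.1 hk)))
    (fun k hk => mem_range.2 (a k (mem_range.1 hk))) (fun k _ => xor_xor k 1) (fun k _ => xor_xor k 1) fun k hk => ?_
  rw [co_I _ (mem_range.1 hk), h j hj k (mem_range.1 hk)]
  split_ifs <;> first | omega | ring

theorem dot_mv {M : ℕ → ℕ → ℤ} (h : ∀ k < 56, ∀ l < 56, ∑ j ∈ range 56, M j k * M j l = if k = l then 16 else 0) (v : RuVec) :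
    dot (mv M v) (mv M v) = 16 * dot v v := by
  rw [dot, sum_congr rfl fun j hj => by rw [co_mv _ _ (mem_range.1 hj), sum_mul_sum], sum_comm, dot, mul_sum]
  refine sum_congr rfl fun k hk => ?_
  rw [sum_comm, sum_eq_single k (fun l hl e => ?_) fun e => absurd hk e]
  · have := h k (mem_range.1 hk) k (mem_range.1 hk)
    rw [if_pos rfl] at this
    rw [← this, sum_mul]
    exact sum_congr rfl fun _ _ => by ring
  · have := h k (mem_range.1 hk) l (mem_range.1 hl)
    rw [if_neg e.symm] at this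
    rw [← zero_mul (co v k * co v l), ← this, sum_mul]
    exact sum_congr rfl fun _ _ => by ring

theorem four_inj {v w : RuVec} (h : (4 : ℤ) • v = (4 : ℤ) • w) : v = w := ext_co fun k _ => by
  have := congrArg (co · k) h
  simp only [co_zsmul] at this
  omega

theorem exists_aut {P : ℕ → RuVec} (hs : ∀ A : AddSubgroup RuVec, (∀ i < n, P i ∈ A) → ruLattice ≤ A)
    (hm : ∀ i < n, P i ∈ ruLattice) {φ : RuVec →+ RuVec} {σ : ℕ → ℕ} (h1 : ∀ i < n, σ i < n) (h2 : Function.Injective σ)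
    (h3 : ∀ i < n, φ (P i) = (4 : ℤ) • P (σ i)) (h4 : ∀ v, dot (φ v) (φ v) = 16 * dot v v) (h5 : ∀ v, φ (gI • v) = gI • φ v) :
    ∃ g : fourRu, ∀ i < n, ∀ x : ruLattice, x.1 = P i → (g.1 x).1 = P (σ i) := by
  have a : ∀ x : ruLattice, ∃ y : ruLattice, φ x = (4 : ℤ) • y.1 := fun x => by
    obtain ⟨y, b, c⟩ := hs ((ruLattice.map (zsmulAddGroupHom 4)).comap φ) (fun i hi => ⟨_, hm _ (h1 i hi), (h3 i hi).symm⟩) x.2
    exact ⟨⟨y, b⟩, c.symm⟩
  choose g hg using a
  have g1 : ∀ x y, g (x + y) = g x + g y := fun x y => Subtype.ext (four_inj (by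
    rw [← hg, AddSubgroup.coe_add, AddSubgroup.coe_add, map_add, hg, hg, smul_add]))
  have g2 : ∀ x, dot (g x) (g x) = dot x x := fun x => by
    have := h4 x
    rw [hg, dot_smul, dot_comm, dot_smul] at this
    omega
  let G := AddMonoidHom.mk' g g1
  have g3 : ∀ i < n, ∀ x : ruLattice, x.1 = P i → (g x).1 = P (σ i) := fun i hi x e => four_inj (by rw [← hg, e, h3 i hi])
  have g4 : Function.Bijective g := ⟨(injective_iff_map_eq_zero G).2 fun x e => Subtype.ext (eq_zero_of_dot (by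
    rw [← g2, show g x = 0 from e]; simp [dot, co_zero])), fun y => by
      obtain ⟨_, ⟨x, rfl⟩, e⟩ := hs (G.range.map ruLattice.subtype) (fun j hj => by
        obtain ⟨i, e⟩ := Finite.injective_iff_surjective.1
          (show Function.Injective fun i : Fin n => (⟨σ i, h1 i i.2⟩ : Fin n) from fun a b e => Fin.ext (h2 (congrArg Fin.val e)))
          ⟨j, hj⟩
        exact ⟨_, ⟨⟨_, hm i i.2⟩, rfl⟩, (g3 i i.2 _ rfl).trans (congrArg P (congrArg Fin.val e))⟩) y.2
      exact ⟨x, Subtype.ext e⟩⟩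
  refine ⟨⟨Equiv.ofBijective g g4, g1, fun x => Subtype.ext (four_inj ?_), fun x => ?_⟩, g3⟩
  · exact (hg _).symm.trans ((h5 x).trans (by rw [hg, smul_comm]; rfl))
  · rw [norm_eq, norm_eq]; exact g2 x

/-- the matrix commutes with `i` -/
noncomputable def iOk (Mc : ℕ → ℕ) : Bool := allLt (fun k => force (Mc k) fun a => force (Mc (Nat.xor k 1)) fun b =>
  band (Nat.beq (Nat.land a m15) a) (allLt (fun j => Bool.rec (Nat.beq (Nat.add (get 8 a j) (get 8 b (Nat.xor j 1))) 8)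
    (Nat.beq (get 8 a j) (get 8 b (Nat.xor j 1))) (Nat.beq (Nat.mod (Nat.add j k) 2) 0)) 56)) 56

/-- the checks on an automorphism -/
noncomputable def autOk (n : ℕ) (Y Mc : List ℕ) (N : Net) : Bool :=
  band (band (iOk (nthN Mc)) (forceL (PC 56 (nthN Mc)) fun X => forceL (PC 56 fr) (matOk 56 (fun j => get 8 (nthN Mc j)) X)))
    (band (N.ok 16 n) (forceL (PX n Y) fun X => forceL (mapL N.ap X) (matOk n (fun j k => get 8 (nthN Mc k) j) X)))

theorem aut_of_ok (hs : ∀ A : AddSubgroup RuVec, (∀ i < n, vc (code Y i) ∈ A) → ruLattice ≤ A)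
    (hm : ∀ i < n, vc (code Y i) ∈ ruLattice) (hb : ∀ i < n, ∀ k < 56, get 8 (code Y i) k < 16) {Mc : List ℕ} {N : Net}
    (e : autOk n Y Mc N = true) : ∃ (g : fourRu) (σ : ℕ → ℕ), (∀ i < n, σ i < n) ∧ (∀ i, n ≤ i → σ i = i) ∧
      (∀ x i, get 16 (N.ap x) i = get 16 x (σ i)) ∧ ∀ i < n, ∀ x : ruLattice, x.1 = vc (code Y i) → (g.1 x).1 = vc (code Y (σ i)) := by
  simp only [autOk, band_eq_true, H14.forceL_eq, iOk, allLt_iff, force_eq] at e
  obtain ⟨⟨e1, e2⟩, e3, e4⟩ := e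
  obtain ⟨σ, s1, s2, s3, s4⟩ := N.sem (by norm_num) e3
  have b : ∀ k < 56, ∀ j < 56, get 8 (nthN Mc k) j < 16 := fun k hk j hj => lt_m15 (e1 k hk).1 hj
  have fr1 : ∀ i < 56, ∀ k < 56, get 8 (fr i) k < 16 := by decide +kernel
  obtain ⟨g, hg⟩ := exists_aut hs hm (φ := mv fun j k => (get 8 (nthN Mc k) j : ℤ) - 4) s1 s3 (fun i hi => ext_co fun j hj => by
    rw [co_mv _ _ hj, co_zsmul, co_vc _ hj, ← mat_spec (ar_PX hb) ((ar_PX hb).net s1 s2 s4) (fun j hj k hk => b k hk j hj) e4 hi hj]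
    exact sum_congr rfl fun k hk => by rw [co_vc _ (mem_range.1 hk)]) (dot_mv fun k hk l hl => by
      rw [mat_spec (ar_PC b) (ar_PC fr1) b e2 hl hk, ← co_vc _ hk, co_fr hl hk]
      split_ifs <;> rfl) (mv_I fun j hj k hk => by
        have := (e1 k hk).2 j hj
        split_ifs with c
        · rw [Nat.beq_eq.mpr (show Nat.mod (Nat.add j k) 2 = 0 from c)] at this
          rw [Nat.eq_of_beq_eq_true this, one_mul]; rfl
        · rw [show Nat.beq (Nat.mod (Nat.add j k) 2) 0 = false from Bool.eq_false_iff.2 fun d => c (Nat.beq_eq.mp d)] at this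
          have : get 8 (nthN Mc k) j + get 8 (nthN Mc (k ^^^ 1)) (j ^^^ 1) = 8 := Nat.eq_of_beq_eq_true this
          omega)
  exact ⟨g, σ, s1, s2, s4, hg⟩

/-- codes of lattice vectors from words -/
noncomputable def wl (tab : List ℕ) (ws : List (List ℕ × ℕ)) : List ℕ := List.rec [] (fun w _ ih => apWd w.1 (nd c4 tab w.2) :: ih) ws

/-- the generators are lattice vectors and points -/
noncomputable def spanOk (gs g0 : List (ℕ × ℕ)) (tab ds : List ℕ) (ws : List (List ℕ × ℕ)) (lk : ℕ → Bool) : Bool :=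
  band (band (allL bd tab) (forceL (wl tab ws) fun W => band (allLt (fun k => memL (fr k) W) 56) (allL (fun g => memL g.1 W) g0)))
    (band (allL (fun g => lk g.1) g0) (allL (fun g => anyL (fun d => memC g0 d g.1) ds) gs))

/-- the numbered minimal vectors -/
structure Lat (n : ℕ) (Y : List ℕ) (fd : ℕ → ℕ) : Prop where
  mem : ∀ i < n, vc (code Y i) ∈ ruLattice
  span : ∀ A : AddSubgroup RuVec, (∀ i < n, vc (code Y i) ∈ A) → ruLattice ≤ A
  bd : ∀ i < n, ∀ k < 56, get 8 (code Y i) k < 16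
  inj : ∀ i < n, ∀ j < n, vc (code Y i) = vc (code Y j) → i = j
  nrm : ∀ i < n, dot (vc (code Y i)) (vc (code Y i)) = 16
  cls : ∀ x ∈ ruLattice, x ≠ 0 → dot x x ≤ 16 → dot x x = 16 ∧ ∃ i < n, x = vc (code Y i)
  ev : ∀ x ∈ ruLattice, 8 ∣ dot x x
  frm : ∀ k < 56, fd (fr k) < n ∧ code Y (fd (fr k)) = fr k

theorem lat_of {gs g0 : List (ℕ × ℕ)} {tab ds rs : List ℕ} {ws : List (List ℕ × ℕ)} {fd : ℕ → ℕ} {U : ℕ}
    (ht : ruTable = tab.map vc) (e0 : clOk gs tab = true) (e1 : gramOk gs = true) 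
    (e2 : resOk gs (mapL (fun r => Nat.shiftRight r 64) rs) = true) (e3 : uOk gs U = true)
    (e4 : allSn (leaf gs U (look Y n fd)) rs 0 = true)
    (e5 : allLt (fun k => band (look Y n fd (fr k)) (look Y n fd (fr' k))) 56 = true)
    (e6 : spanOk gs g0 tab ds ws (look Y n fd) = true) (e7 : ∀ i < n, ptOk gs Y fd i = true)
    (e8 : forceL (PX n Y) (nrmOk n) = true) : Lat n Y fd := by
  simp only [spanOk, band_eq_true, H14.forceL_eq, allL_iff, allLt_iff, anyL_iff, memL_iff] at e6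
  simp only [ptOk, force_eq, band_eq_true] at e7
  obtain ⟨⟨a1, a2, a3⟩, a4, a5⟩ := e6
  have k1 : ∀ A : AddSubgroup RuVec, (∀ k < 56, vc (fr k) ∈ A) → (∀ g ∈ g0, vc g.1 ∈ A) → K gs ≤ A := fun A h h' =>
    K_le (four_mem h) fun g hg => let ⟨_, _, c⟩ := a5 g hg; mem_of_memC (four_mem h) h' c
  have k2 : ∀ c ∈ wl tab ws, vc c ∈ ruLattice := by
    clear a2 a3
    induction ws with
    | nil => simp [wl]
    | cons w ws ih =>
      have := nd_prop (p := fun c => Bd c ∧ vc c ∈ ruLattice) (d := c4) (L := tab) ⟨fun k hk => by rw [get_c4, if_pos hk]; norm_num,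
        (ext_co fun k hk => by rw [co_vc _ hk, co_zero, get_c4, if_pos hk]; rfl : vc c4 = 0) ▸ AddSubgroup.zero_mem _⟩
        (fun c hc => ⟨bd_spec (a1 c hc), AddSubgroup.mem_sInf.2 fun L hL => hL.1 _ (ht ▸ List.mem_map_of_mem hc)⟩) w.2
      exact List.forall_mem_cons.2 ⟨(mem_apWd this.1 this.2 w.1).2, ih⟩
  have k3 := k1 _ (fun k hk => k2 _ (a2 k hk)) fun g hg => k2 _ (a3 g hg)
  have k4 := le_K ht e0
  have k5 : ∀ k < 56, fd (fr k) < n ∧ code Y (fd (fr k)) = fr k := fun k hk => look_spec (band_eq_true.1 (allLt_iff.1 e5 k hk)).1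
  have k6 : ∀ i < n, ∀ k < 56, get 8 (code Y i) k < 16 := fun i hi k hk => lt_m15 (e7 i hi).2.2 hk
  refine ⟨fun i hi => k3 (mem_of_memC K_four K_gen (e7 i hi).1), fun A h => k4.trans (k1 A (fun k hk => (k5 k hk).2 ▸ h _ (k5 k hk).1)
    fun g hg => (look_spec (a4 g hg)).2 ▸ h _ (look_spec (a4 g hg)).1), k6, fun i hi j hj e => ?_, fun i hi => ?_,
    fun x hx h0 hn => ?_, fun x hx => even e1 (k4 hx), k5⟩
  · rw [← Nat.eq_of_beq_eq_true (e7 i hi).2.1, vc_inj (e7 i hi).2.2 (e7 j hj).2.2 e, Nat.eq_of_beq_eq_true (e7 j hj).2.1]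
  · rw [← nrm_spec (ar_PX k6) ((H14.forceL_eq _ _).symm.trans e8) hi]
    exact sum_congr rfl fun k hk => by rw [co_vc _ (mem_range.1 hk)]
  · obtain ⟨a, c, b, rfl⟩ := classify e1 e2 e3 e4 e5 (k4 hx) h0 hn
    exact ⟨a, _, (look_spec b).1, by rw [(look_spec b).2]⟩

/-- an automorphism as an additive map -/
def gH (g : fourRu) : ruLattice →+ ruLattice := AddMonoidHom.mk' g.1 g.2.1

theorem dot_g (g : fourRu) (x y : ruLattice) : dot (g • x : ruLattice) (g • y : ruLattice) = dot x y := by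
  have h : ∀ x : ruLattice, dot (g • x : ruLattice) (g • x : ruLattice) = dot x x := fun x => by
    rw [← norm_eq, ← norm_eq]; exact g.2.2.2 x
  have a := h (x + y)
  rw [show g • (x + y) = g • x + g • y from g.2.1 x y, AddSubgroup.coe_add, AddSubgroup.coe_add, dot_add, dot_add, h, h] at a
  omega

theorem eq_one_of_fr {g : fourRu} (h : ∀ k < 56, ∃ x : ruLattice, x.1 = vc (fr k) ∧ g • x = x) : g = 1 :=
  Subtype.ext (Equiv.ext fun x => Subtype.ext (four_inj (by
    obtain ⟨y, a, b⟩ := four_mem (A := ((gH g).eqLocus (AddMonoidHom.id _)).map ruLattice.subtype)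
      (fun k hk => let ⟨x, a, b⟩ := h k hk; ⟨x, b, a⟩) x.1
    obtain rfl : y = (4 : ℤ) • x := Subtype.ext b
    exact congrArg Subtype.val (((gH g).map_zsmul 4 x).symm.trans a))))

variable {fd : ℕ → ℕ}

open Classical in
/-- the points -/
noncomputable def Lat.pts (h : Lat n Y fd) : Pts ruLattice where
  n := n
  pt i := if c : i < n then ⟨_, h.mem i c⟩ else 0
  inj i hi j hj e := h.inj i hi j hj (by simpa [hi, hj] using e)

theorem Lat.coe_pt (h : Lat n Y fd) {i : ℕ} (hi : i < n) : (h.pts.pt i).1 = vc (code Y i) := by simp [Lat.pts, hi]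

theorem Lat.exists_TS (h : Lat n Y fd) (hn : n ≤ 2 ^ 16) :
    ∃ S : TS fourRu 16 n, ∀ g, ∀ i < n, g • h.pts.pt i = h.pts.pt (S.ap g i) :=
  exists_act h.pts.pt (by norm_num) hn h.pts.inj (fun g i hi => by
    have a := dot_g g (h.pts.pt i) (h.pts.pt i)
    rw [h.coe_pt hi, h.nrm i hi] at a
    obtain ⟨-, j, hj, e⟩ := h.cls _ (g • h.pts.pt i).2 (fun c => by rw [c] at a; simp [dot, co_zero] at a) a.le
    exact ⟨j, hj, Subtype.ext (e.trans (h.coe_pt hj).symm)⟩) fun g e => eq_one_of_fr fun k hk =>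
      ⟨_, by rw [h.coe_pt (h.frm k hk).1, (h.frm k hk).2], e _ (h.frm k hk).1⟩

theorem Lat.netRep (h : Lat n Y fd) {Mc : List ℕ} {N : Net} (e : autOk n Y Mc N = true) : ∃ g : fourRu, NetRep h.pts 16 g N :=
  let ⟨g, σ, a, b, c, d⟩ := aut_of_ok h.span h.mem h.bd e
  ⟨g, σ, fun i hi => ⟨a i hi, Subtype.ext ((d i hi _ (h.coe_pt hi)).trans (h.coe_pt (a i hi)).symm)⟩, b, c⟩

/-- scalar products with a vector -/
noncomputable def lb (n : ℕ) (X : List ℕ) (T c : ℕ) : ℕ := Nat.sub (Nat.add (lin (get 8 c) X) (cst 16 n 3584)) T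

/-- the number of points with the labels of `b` -/
noncomputable def cntK (n : ℕ) (Ds : List ℕ) (b : ℕ) : ℕ :=
  cnt 16 (List.rec (rep 16 n) (fun D _ ih => Nat.land (H14.eqF 16 n D (cst 16 n (get 16 D b))) ih) Ds)

theorem cntK_eq (hn : n + 1 < 2 ^ 16) {Ds : List ℕ} (h : ∀ D ∈ Ds, Small 16 n D) (b : ℕ) :
    cntK n Ds b = ((range n).filter fun i => ∀ D ∈ Ds, get 16 D i = get 16 D b).card := by
  refine Fl.cnt (by norm_num) hn ?_
  induction Ds with
  | nil => exact (Fl.rep (by norm_num)).congr (by simp)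
  | cons D Ds ih =>
    obtain ⟨h1, h2⟩ := List.forall_mem_cons.1 h
    exact (((Sp.of_small h1).eqF (by norm_num) (Sp.cst (by norm_num) (get_lt _ _ _)) (fun i _ => (h1 i).1)
      fun i _ => (h1 b).1).fl.and (ih h2)).congr fun i _ => by simp

/-- the product of the numbers of possible images -/
noncomputable def upK (n : ℕ) (Y X : List ℕ) (T : ℕ) (bs : List ℕ) (k : List ℕ → ℕ) : List ℕ → ℕ :=
  List.rec k (fun b _ ih Ds => force (cntK n Ds b) fun c => force (code Y b) fun v => force (lb n X T v) fun D =>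
    force (apS TI v) fun v' => force (lb n X T v') fun D' => Nat.mul c (ih (D :: D' :: Ds))) bs

section
variable {G : Type*} [Group G] {w : ℕ} {S : TS G w n}

theorem card_le_mul (K : Subgroup G) {b : ℕ} (hb : b < n) {p : ℕ → Prop} [DecidablePred p] (h : ∀ g ∈ K, p (S.ap g b)) :
    Nat.card K ≤ ((range n).filter p).card * Nat.card ↥(K ⊓ S.st b) := by
  have := S.finite
  rw [Subgroup.card_eq_card_quotient_mul_card_subgroup ((S.st b).subgroupOf K), ← Subgroup.inf_subgroupOf_left,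
    Nat.card_congr (Subgroup.subgroupOfEquivOfLe inf_le_left).toEquiv, Subgroup.inf_subgroupOf_left, ← Nat.card_eq_finsetCard]
  refine Nat.mul_le_mul_right _ (Nat.card_le_card_of_injective (fun q => (⟨S.ap q.out.1 b,
    mem_filter.2 ⟨mem_range.2 (S.ap_lt _ hb), h _ q.out.2⟩⟩ : (range n).filter p)) fun q r e => ?_)
  rw [← q.out_eq, ← r.out_eq]
  refine QuotientGroup.eq.2 fun _ => ?_
  change S.ap (q.out.1⁻¹ * r.out.1) b = b
  rw [S.ap_mul _ _ hb, ← show S.ap q.out.1 b = S.ap r.out.1 b from congrArg Subtype.val e, S.ap_inv_ap _ hb]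

variable (S) in
/-- pointwise stabilisers -/
def fx : List ℕ → Subgroup G → Subgroup G
  | [], K => K
  | b :: bs, K => fx bs (K ⊓ S.st b)

theorem mem_fx {bs : List ℕ} {K : Subgroup G} {g : G} : g ∈ fx S bs K ↔ g ∈ K ∧ ∀ b ∈ bs, g ∈ S.st b := by
  induction bs generalizing K with
  | nil => simp [fx]
  | cons b bs ih => simp [fx, ih, and_assoc]

variable (S) in
/-- invariant labels -/
def Inv (K : Subgroup G) (Ds : List ℕ) : Prop := ∀ D ∈ Ds, Small w n D ∧ ∀ g ∈ K, ∀ i < n, get w D (S.ap g i) = get w D i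

end

variable (h : Lat n Y fd) {S : TS fourRu 16 n} (hS : ∀ g, ∀ i < n, g • h.pts.pt i = h.pts.pt (S.ap g i))
include hS

theorem inv_lb {c : ℕ} (hc : Bd c) {x : ruLattice} (hx : x.1 = vc c) {K : Subgroup fourRu} (hK : ∀ g ∈ K, g • x = x) :
    Inv S K [lb n (PX n Y) (sum4 (PX n Y)) c] := by
  have A := ar_PX h.bd
  have b : ∀ k < 56, get 8 c k < 16 := fun k hk => by have := hc k hk; omega
  have a := ((A.lin b).add (Sp.cst (c := 3584) (by norm_num) (by norm_num)) fun i hi => by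
    have := A.lin_le b hi; omega).sub (by norm_num) A.sum4 fun i hi => by have := A.sum_le hi; omega
  refine List.forall_mem_singleton.2 ⟨a.small fun i hi => by have := A.lin_le b hi; omega, fun g hg i hi => ?_⟩
  have k : ∀ i < n, dot x (h.pts.pt i) = _ := fun i hi =>
    (sum_congr rfl fun k hk => by rw [hx, h.coe_pt hi, co_vc _ (mem_range.1 hk), co_vc _ (mem_range.1 hk)]).trans
      (sum_off (get 8 (code Y i)) (get 8 c))
  have d := dot_g g x (h.pts.pt i)
  rw [hK g hg, hS g i hi, k _ (S.ap_lt g hi), k i hi] at d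
  refine (a.get (S.ap_lt g hi)).trans (Eq.trans ?_ (a.get hi).symm)
  have := A.sum_le hi
  have := A.sum_le (S.ap_lt g hi)
  omega

theorem upK_spec (hn : n + 1 < 2 ^ 16) {bs : List ℕ} (hb : ∀ b ∈ bs, b < n ∧ Bd (code Y b)) {K : Subgroup fourRu} {Ds : List ℕ}
    (I : Inv S K Ds) (k : List ℕ → ℕ) : ∃ m Ds', Inv S (fx S bs K) Ds' ∧
      upK n Y (PX n Y) (sum4 (PX n Y)) bs k Ds = m * k Ds' ∧ Nat.card K ≤ m * Nat.card (fx S bs K) := by
  induction bs generalizing K Ds with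
  | nil => exact ⟨1, Ds, I, (one_mul _).symm, (one_mul _).ge⟩
  | cons b bs ih =>
    obtain ⟨⟨b1, b2⟩, h2⟩ := List.forall_mem_cons.1 hb
    have a : ∀ g ∈ K ⊓ S.st b, g • h.pts.pt b = h.pts.pt b := fun g hg => by rw [hS g b b1, hg.2 b1]
    obtain ⟨m, Ds', a1, a2, a3⟩ := ih h2 (K := K ⊓ S.st b) (Ds := _ :: _ :: Ds) (List.forall_mem_cons.2
      ⟨inv_lb h hS b2 (h.coe_pt b1) a _ List.mem_cons_self, List.forall_mem_cons.2
        ⟨inv_lb h hS (spI.apS b2).1 (x := ruI (h.pts.pt b)) ((congrArg (gI • ·) (h.coe_pt b1)).trans (spI.apS b2).2)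
          (fun g hg => (g.2.2.1 _).trans (congrArg ruI (a g hg))) _ List.mem_cons_self,
        fun D hD => ⟨(I D hD).1, fun g hg => (I D hD).2 g hg.1⟩⟩⟩)
    refine ⟨cntK n Ds b * m, Ds', a1, (congrArg (cntK n Ds b * ·) a2).trans (mul_assoc _ _ _).symm, ?_⟩
    rw [mul_assoc, cntK_eq hn fun D hD => (I D hD).1]
    exact (card_le_mul K b1 fun g hg D hD => (I D hD).2 g hg b b1).trans (Nat.mul_le_mul_left _ a3)

omit hS in
/-- the upper bound for the order -/
noncomputable def upOk (n : ℕ) (Y : List ℕ) (fd : ℕ → ℕ) (bs cs : List ℕ) (N : ℕ) : Bool :=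
  band (band (allL (fun b => band (Nat.blt b n) (bd (code Y b))) (bs ++ cs)) (allLt (fun k => memL (fd (fr k)) (bs ++ cs)) 56))
    (forceL (PX n Y) fun X => force (sum4 X) fun T => band (Nat.blt 0 N) (Nat.beq (upK n Y X T bs
      (fun Ds => Bool.rec 0 1 (Nat.beq (upK n Y X T cs (fun _ => 1) Ds) 1)) []) N))

theorem up_spec (hn : n + 1 < 2 ^ 16) {bs cs : List ℕ} {N : ℕ} (e : upOk n Y fd bs cs N = true) :
    S.Base bs ∧ Nat.card fourRu ≤ N := by
  simp only [upOk, band_eq_true, allL_iff, allLt_iff, memL_iff, H14.forceL_eq, force_eq, Nat.blt_eq, Nat.beq_eq,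
    List.forall_mem_append] at e
  obtain ⟨⟨⟨e1, e2⟩, e3⟩, e4, e5⟩ := e
  obtain ⟨m, Ds, a1, a2, a3⟩ := upK_spec h hS hn (fun b hb => ⟨(e1 b hb).1, bd_spec (e1 b hb).2⟩) (K := ⊤) (Ds := []) (by simp [Inv])
    fun Ds => Bool.rec 0 1 (Nat.beq (upK n Y (PX n Y) (sum4 (PX n Y)) cs (fun _ => 1) Ds) 1)
  obtain ⟨m', Ds', -, b2, b3⟩ := upK_spec h hS hn (fun b hb => ⟨(e2 b hb).1, bd_spec (e2 b hb).2⟩) a1 fun _ => 1
  rw [e5, b2, mul_one] at a2
  obtain rfl : m' = 1 := by
    by_contra c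
    rw [Bool.eq_false_iff.2 fun d => c (Nat.beq_eq.mp d)] at a2
    exact e4.ne' a2
  have c1 : fx S cs (fx S bs ⊤) = ⊥ := eq_bot_iff.2 fun g hg => eq_one_of_fr fun k hk => by
    obtain ⟨c1, c2⟩ := mem_fx.1 hg
    have c3 := (h.frm k hk).1
    refine ⟨_, by rw [h.coe_pt c3, (h.frm k hk).2], ?_⟩
    rw [hS g _ c3, (List.mem_append.1 (e3 k hk)).elim (fun d => (mem_fx.1 c1).2 _ d c3) fun d => c2 _ d c3]
  have := S.finite
  rw [c1, Subgroup.card_bot] at b3
  have c2 := Subgroup.eq_bot_of_card_le _ b3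
  rw [c2, Subgroup.card_bot, Subgroup.card_top] at a3
  exact ⟨⟨fun b hb => (e1 b hb).1, fun g hg => Subgroup.mem_bot.1 (c2 ▸ mem_fx.2 ⟨trivial, fun b hb _ => hg b hb⟩)⟩, a2 ▸ a3⟩

end H27.Ru
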