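import Cfsg.Agent.H27.RuD

/-! Short vectors, second part. -/

set_option maxRecDepth 100000
set_option Elab.async false

namespace H27.Ru

open Cfsg.Spor H13 H15 H14.PK

theorem c4_6 : wY (fun Y fd => H13.force U fun U => allSn (leaf gs U (look Y 16240 fd)) rs4 (Nat.xor (Nat.xor 0 r1) r2)) = true := by decide +kernel

theorem c4_7 : wY (fun Y fd => H13.force U fun U => allSn (leaf gs U (look Y 16240 fd)) rs4 (Nat.xor (Nat.xor (Nat.xor 0 r1) r2) r3)) = true := by decide +kernel

theorem c4_8 : wY (fun Y fd => H13.force U fun U => allSn (leaf gs U (look Y 16240 fd)) rs4 (Nat.xor 0 r0)) = true := by decide +kernel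

theorem c4_9 : wY (fun Y fd => H13.force U fun U => allSn (leaf gs U (look Y 16240 fd)) rs4 (Nat.xor (Nat.xor 0 r0) r3)) = true := by decide +kernel

theorem c4_10 : wY (fun Y fd => H13.force U fun U => allSn (leaf gs U (look Y 16240 fd)) rs4 (Nat.xor (Nat.xor 0 r0) r2)) = true := by decide +kernel

theorem c4_11 : wY (fun Y fd => H13.force U fun U => allSn (leaf gs U (look Y 16240 fd)) rs4 (Nat.xor (Nat.xor (Nat.xor 0 r0) r2) r3)) = true := by decide +kernel

theorem c4_12 : wY (fun Y fd => H13.force U fun U => allSn (leaf gs U (look Y 16240 fd)) rs4 (Nat.xor (Nat.xor 0 r0) r1)) = true := by decide +kernel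

theorem c4_13 : wY (fun Y fd => H13.force U fun U => allSn (leaf gs U (look Y 16240 fd)) rs4 (Nat.xor (Nat.xor (Nat.xor 0 r0) r1) r3)) = true := by decide +kernel

theorem c4_14 : wY (fun Y fd => H13.force U fun U => allSn (leaf gs U (look Y 16240 fd)) rs4 (Nat.xor (Nat.xor (Nat.xor 0 r0) r1) r2)) = true := by decide +kernel

theorem c4_15 : wY (fun Y fd => H13.force U fun U => allSn (leaf gs U (look Y 16240 fd)) rs4 (Nat.xor (Nat.xor (Nat.xor (Nat.xor 0 r0) r1) r2) r3)) = true := by decide +kernel


end H27.Ru
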