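import Cfsg.Agent.H27.RuD

/-! The points. -/

set_option maxRecDepth 100000
set_option Elab.async false

namespace H27.Ru

open Cfsg.Spor H13 H15 H14.PK

theorem c7_0 : wY (fun Y fd => rng (ptOk gs Y fd) 0 1015) = true := by decide +kernel

theorem c7_1 : wY (fun Y fd => rng (ptOk gs Y fd) 1015 1015) = true := by decide +kernel

theorem c7_2 : wY (fun Y fd => rng (ptOk gs Y fd) 2030 1015) = true := by decide +kernel

theorem c7_3 : wY (fun Y fd => rng (ptOk gs Y fd) 3045 1015) = true := by decide +kernel

theorem c7_4 : wY (fun Y fd => rng (ptOk gs Y fd) 4060 1015) = true := by decide +kernel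

theorem c7_5 : wY (fun Y fd => rng (ptOk gs Y fd) 5075 1015) = true := by decide +kernel

theorem c7_6 : wY (fun Y fd => rng (ptOk gs Y fd) 6090 1015) = true := by decide +kernel

theorem c7_7 : wY (fun Y fd => rng (ptOk gs Y fd) 7105 1015) = true := by decide +kernel

theorem c7_8 : wY (fun Y fd => rng (ptOk gs Y fd) 8120 1015) = true := by decide +kernel

theorem c7_9 : wY (fun Y fd => rng (ptOk gs Y fd) 9135 1015) = true := by decide +kernel

theorem c7_10 : wY (fun Y fd => rng (ptOk gs Y fd) 10150 1015) = true := by decide +kernel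

theorem c7_11 : wY (fun Y fd => rng (ptOk gs Y fd) 11165 1015) = true := by decide +kernel

theorem c7_12 : wY (fun Y fd => rng (ptOk gs Y fd) 12180 1015) = true := by decide +kernel

theorem c7_13 : wY (fun Y fd => rng (ptOk gs Y fd) 13195 1015) = true := by decide +kernel

theorem c7_14 : wY (fun Y fd => rng (ptOk gs Y fd) 14210 1015) = true := by decide +kernel

theorem c7_15 : wY (fun Y fd => rng (ptOk gs Y fd) 15225 1015) = true := by decide +kernel


end H27.Ru
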