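import Cfsg.Agent.H27.RuE0
import Cfsg.Agent.H27.RuE1
import Cfsg.Agent.H27.RuE2

/-! The minimal vectors of the Conway–Wales lattice. -/

set_option maxRecDepth 100000
set_option Elab.async false

namespace H27.Ru

open Cfsg.Spor H13 H15 H14.PK

theorem ht : ruTable = tab.map vc := by decide +kernel

theorem e0 : clOk gs tab = true := by decide +kernel

theorem e1 : gramOk gs = true := by decide +kernel

theorem e2 : resOk gs (H14.mapL (fun r => Nat.shiftRight r 64) (r0 :: r1 :: r2 :: r3 :: rs4)) = true := by decide +kernel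

theorem e3 : H13.force U (uOk gs) = true := by decide +kernel

theorem e5 : wY (fun Y fd => H13.allLt (fun k => H13.band (look Y 16240 fd (fr k)) (look Y 16240 fd (fr' k))) 56) = true := by
  decide +kernel

theorem e6 : wY (fun Y fd => spanOk gs g0 tab ds ws (look Y 16240 fd)) = true := by decide +kernel

theorem e8 : wY (fun Y _ => H14.forceL (PX 16240 Y) (nrmOk 16240)) = true := by decide +kernel

theorem ea : wY (fun Y _ => autOk 16240 Y Ma Na) = true := by decide +kernel

theorem eb : wY (fun Y _ => autOk 16240 Y Mb Nb) = true := by decide +kernel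

theorem eu : wY (fun Y fd => upOk 16240 Y fd bs cs 583704576000) = true := by decide +kernel

theorem w4 {a : ℕ} (h : wY (fun Y fd => H13.force U fun U => allSn (leaf gs U (look Y 16240 fd)) rs4 a) = true) :
    allSn (leaf gs U (look Y 16240 (fdH H1 H2))) rs4 a = true :=
  (force_eq U fun U => allSn (leaf gs U (look Y 16240 (fdH H1 H2))) rs4 a).symm.trans (wY_spec h)

theorem lat : Lat 16240 Y (fdH H1 H2) :=
  lat_of ht e0 e1 e2 ((force_eq U (uOk gs)).symm.trans e3) (allSn_cons (allSn_cons (allSn_cons (allSn_cons (w4 c4_0) (w4 c4_1)) (allSn_cons (w4 c4_2) (w4 c4_3))) (allSn_cons (allSn_cons (w4 c4_4) (w4 c4_5)) (allSn_cons (w4 c4_6) (w4 c4_7)))) (allSn_cons (allSn_cons (allSn_cons (w4 c4_8) (w4 c4_9)) (allSn_cons (w4 c4_10) (w4 c4_11))) (allSn_cons (allSn_cons (w4 c4_12) (w4 c4_13)) (allSn_cons (w4 c4_14) (w4 c4_15)))))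
    (wY_spec e5) (wY_spec e6) (rng_add (rng_add (rng_add (rng_add (rng_add (rng_add (rng_add (rng_add (rng_add (rng_add (rng_add (rng_add (rng_add (rng_add (rng_add (rng_add rng_zero (wY_spec c7_0)) (wY_spec c7_1)) (wY_spec c7_2)) (wY_spec c7_3)) (wY_spec c7_4)) (wY_spec c7_5)) (wY_spec c7_6)) (wY_spec c7_7)) (wY_spec c7_8)) (wY_spec c7_9)) (wY_spec c7_10)) (wY_spec c7_11)) (wY_spec c7_12)) (wY_spec c7_13)) (wY_spec c7_14)) (wY_spec c7_15)) (wY_spec e8)


end H27.Ru
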