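import Cfsg.Agent.H27.MG2
import Cfsg.Agent.S0245

/-! `Sp(4,4)` on 85 points: `H27.Sp44.model`. -/

set_option autoImplicit false
set_option maxRecDepth 100000

namespace H27.Sp44
open H13 H14.PK H14.PK.TS H27.PKx H27.MG Cfsg

def AT : ℕ := nat_lit 0x1b4eb1e4
def MT : ℕ := nat_lit 0x9c78e400
theorem fok : fieldOk 4 2 AT MT = true := by decide +kernel

def J0 : ℕ := nat_lit 0x4014010
def PT : ℕ := nat_lit 0xfdf9f5f4f1ede9e5e4e1ddd9d5d4d1d0cdc9c5c4c1bdb9b5b4b1ada9a5a4a19d99959491908d898584817d797574716d696564615d59555451504d49454441403d393534312d292524211d19151411100d09050401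
def Ps : List (ℕ × ℕ) := [(nat_lit 0x1b9820e0, nat_lit 0x34490d7131ebe50a54f2607645e0960d2d0bb3b45ba2020cfb91d4d03a086aa3f6c00e31a111aa59e506474e4564e32264be53185ab809882384ccf121134c027ab640d70a29300b14d95), (nat_lit 0x3a6ae19e, nat_lit 0x52a7502018c1604c96321c8633e2c4921d44d2ea5e8b28e81b770786b434963ae42c032c56a9f411049909465978036d8e9c3eccc8f7e889bb2a988903039aca782922784b6751720a820)]
def Ls : List ℕ := [nat_lit 0x34490d7131ebe50a54f2607645e0960d2d0bb3b45ba2020cfb91d4d03a086aa3f6c00e31a111aa59e506474e4564e32264be53185ab809882384ccf121134c027ab640d70a29300b14d95, nat_lit 0x52a7502018c1604c96321c8633e2c4921d44d2ea5e8b28e81b770786b434963ae42c032c56a9f411049909465978036d8e9c3eccc8f7e889bb2a988903039aca782922784b6751720a820]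
def bs : List ℕ := [nat_lit 0, nat_lit 1, nat_lit 2, nat_lit 5, nat_lit 6, nat_lit 21]

theorem model (F : Type*) [Field F] [Fintype F] (hF : Fintype.card F = 4) :
    ∃ S : TS (Matrix.symplecticGroup (Fin 2) F) 7 85, Mdl S Ls bs 979200 := by
  obtain ⟨C⟩ := FC.table F hF fok
  have hN : Nat.card (Matrix.symplecticGroup (Fin 2) F) = 979200 := by
    rw [Cfsg.Agent.S0245.result hF 2]
    simp [Finset.prod_range_succ]
  obtain ⟨S, h, -⟩ := C.model finSumFinEquiv _ (MonoidHom.id _) (pj := true) (PT := PT) (w := 7)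
    (n := 85) (by norm_num) (by norm_num) (by decide +kernel) (Ps := Ps)
    (fun p hp => C.exists_Sp finSumFinEquiv (m1 := 1) (by decide +kernel) (by decide +kernel) (allL_iff.1 (by decide +kernel : allL (fun p => Nat.beq (mm (opT 4 2 AT) (opT 4 2 MT) 2 4 (mm (opT 4 2 AT) (opT 4 2 MT) 2 4 p.1 J0) (mtr 2 4 p.1)) J0) Ps = true) p hp))
    (allL_iff.1 (by decide +kernel)) hN (pr := [[nat_lit 0, nat_lit 0, nat_lit 1, nat_lit 1],
   [nat_lit 2, nat_lit 0, nat_lit 2],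
   [nat_lit 1, nat_lit 0, nat_lit 2, nat_lit 2, nat_lit 1, nat_lit 0, nat_lit 2],
   [nat_lit 4, nat_lit 1, nat_lit 2, nat_lit 2, nat_lit 3],
   [nat_lit 0, nat_lit 0, nat_lit 1, nat_lit 0, nat_lit 0, nat_lit 0, nat_lit 1, nat_lit 0],
   [nat_lit 2, nat_lit 1, nat_lit 1, nat_lit 1],
   [nat_lit 1, nat_lit 1, nat_lit 1, nat_lit 0, nat_lit 1, nat_lit 0, nat_lit 0],
   [nat_lit 1, nat_lit 2, nat_lit 2, nat_lit 1, nat_lit 2, nat_lit 2, nat_lit 1],
   [nat_lit 2, nat_lit 2, nat_lit 2, nat_lit 2, nat_lit 2, nat_lit 3, nat_lit 2, nat_lit 3],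
   [nat_lit 3, nat_lit 3, nat_lit 3, nat_lit 4],
   [nat_lit 2, nat_lit 1, nat_lit 0],
   [nat_lit 3, nat_lit 1, nat_lit 4, nat_lit 4, nat_lit 3],
   [nat_lit 0, nat_lit 1],
   [nat_lit 1, nat_lit 1, nat_lit 1, nat_lit 2, nat_lit 1]]) (lv := [(nat_lit 0, [nat_lit 14, nat_lit 15]), (nat_lit 1, [nat_lit 11, nat_lit 10]), (nat_lit 2, [nat_lit 8]), (nat_lit 5, [nat_lit 7, nat_lit 6, nat_lit 5]), (nat_lit 6, [nat_lit 3]), (nat_lit 21, [nat_lit 1, nat_lit 0])]) (Ls := Ls) rfl (by decide +kernel)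
    (Or.inl Function.injective_id)
  exact ⟨S, h⟩

end H27.Sp44
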