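import Cfsg.Agent.H27.MG2
import Cfsg.Agent.S0280

/-! `PSU(3,4)` on the 65 isotropic points: `H27.U34.model`. -/

set_option autoImplicit false
set_option maxRecDepth 100000

namespace H27.U34
open H13 H14.PK H14.PK.TS H27.PKx H27.MG Cfsg

def AT : ℕ := nat_lit 0x123456789abcdef1032547698badcfe23016745ab89efcd32107654ba98fedc45670123cdef89ab54761032dcfe98ba67452301efcdab8976543210fedcba9889abcdef0123456798badcfe10325476ab89efcd23016745ba98fedc32107654cdef89ab45670123dcfe98ba54761032efcdab8967452301fedcba9876543210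
def MT : ℕ := nat_lit 0xa5783ce1b4692df05ba48679c23d1fe07ae36bf258c149d0843fd16a2e957bc0386d92c74f1ae5b0c6b1285f394ed7a0e7f6c5d4a3b28190192a7f4cd5e6b380bc5243ad618f9e70428ef93517dbac6063c914be8d27fa509d15ae26fb73c8402147ed8b9afc5630df9b5713eca86420fedcba98765432100000000000000000
theorem fok : fieldOk 16 4 AT MT = true := by decide +kernel

def PT : ℕ := nat_lit 0xf10f01ed1eb1e71e31e21de1d91d61d51d41c10c01be1b91b61b51b41a10a019d19b19719319218108017e17917617517416d16b16716316215d15b15715315214d14b14714314213e13913613513412e12912612512411101010f10c10a1081011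
def Ps : List (ℕ × ℕ) := [(nat_lit 0x71b164d50, nat_lit 0x1a08413835898111542d02846c17b262b8ebb24dd2347ae8729663cb35322968d2700f85028448636adc3e4494e076c78a801850c3f78e4b88), (nat_lit 0x602010306, nat_lit 0xa4a04200040cc1a2e64b096685220448c385184078d1c21fb15cbd930284491526e1b396ed4e1f3674f2a529d42b0d01a265a2d63d74edf3c), (nat_lit 0x709010e07, nat_lit 0x2a0a508922a4cd163260bab4a2838816254ac69016864c9d99c3c7cd9d448d02442e5bb66ae1dbe74f1e8304000845ec973062a1f8c203c68e)]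
def Ls : List ℕ := [nat_lit 0x1a08413835898111542d02846c17b262b8ebb24dd2347ae8729663cb35322968d2700f85028448636adc3e4494e076c78a801850c3f78e4b88, nat_lit 0xa4a04200040cc1a2e64b096685220448c385184078d1c21fb15cbd930284491526e1b396ed4e1f3674f2a529d42b0d01a265a2d63d74edf3c, nat_lit 0x2a0a508922a4cd163260bab4a2838816254ac69016864c9d99c3c7cd9d448d02442e5bb66ae1dbe74f1e8304000845ec973062a1f8c203c68e]
def bs : List ℕ := [nat_lit 0, nat_lit 1, nat_lit 2, nat_lit 5]

theorem model (F : Type*) [Field F] [Fintype F] (hF : Fintype.card F = 16) :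
    ∃ S : TS (PSU 3 F 4) 7 65, Mdl S Ls bs 62400 := by
  obtain ⟨C⟩ := FC.table F hF fok
  have hN : Nat.card (PSU 3 F 4) = 62400 := by
    have := Cfsg.Agent.S0280.result (q := 4) hF 3 (by norm_num)
    simp [Finset.prod_range_succ, Nat.even_iff] at this
    omega
  obtain ⟨S, h, -⟩ := C.model (Equiv.refl _) _ (QuotientGroup.mk' (Subgroup.center (SU 3 F 4))) (pj := true) (PT := PT) (w := 7)
    (n := 65) (by norm_num) (by norm_num) (by decide +kernel) (Ps := Ps)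
    (fun p hp => C.exists_SU (k := 4) (by norm_num) (allL_iff.1 (by decide +kernel : allL (fun p => band (slOk (opT 16 4 AT) (opT 16 4 MT) 4 3 16 4 p.1)
      (Nat.beq (mm (opT 16 4 AT) (opT 16 4 MT) 4 3 (mtr 4 3 (emap (opT 16 4 MT) 4 3 p.1 4)) p.1) (mone 4 3))) Ps = true) p hp))
    (allL_iff.1 (by decide +kernel)) hN (pr := [[nat_lit 0, nat_lit 1, nat_lit 2, nat_lit 1, nat_lit 0, nat_lit 0, nat_lit 2, nat_lit 0, nat_lit 0, nat_lit 0, nat_lit 0],
   [nat_lit 1, nat_lit 3, nat_lit 1, nat_lit 3, nat_lit 1, nat_lit 2, nat_lit 3, nat_lit 3, nat_lit 2, nat_lit 2, nat_lit 3, nat_lit 1, nat_lit 2, nat_lit 3],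
   [nat_lit 4, nat_lit 3, nat_lit 2, nat_lit 2, nat_lit 4, nat_lit 3, nat_lit 2],
   [nat_lit 2, nat_lit 1, nat_lit 0, nat_lit 1, nat_lit 1, nat_lit 0, nat_lit 1, nat_lit 1, nat_lit 0],
   [nat_lit 3, nat_lit 2, nat_lit 1, nat_lit 2, nat_lit 2, nat_lit 3, nat_lit 2, nat_lit 1, nat_lit 1, nat_lit 1],
   [nat_lit 0, nat_lit 0, nat_lit 0]]) (lv := [(nat_lit 0, [nat_lit 6, nat_lit 7, nat_lit 8]), (nat_lit 1, [nat_lit 5, nat_lit 4]), (nat_lit 2, [nat_lit 2]), (nat_lit 5, [nat_lit 0])]) (Ls := Ls) rfl (by decide +kernel)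
    (Or.inr ⟨(QuotientGroup.ker_mk' _).le, [[nat_lit 0, nat_lit 1, nat_lit 2, nat_lit 1, nat_lit 0, nat_lit 0, nat_lit 2, nat_lit 0, nat_lit 0, nat_lit 0, nat_lit 0],
   [nat_lit 1, nat_lit 3, nat_lit 1, nat_lit 3, nat_lit 1, nat_lit 2, nat_lit 3, nat_lit 3, nat_lit 2, nat_lit 2, nat_lit 3, nat_lit 1, nat_lit 2, nat_lit 3],
   [nat_lit 4, nat_lit 3, nat_lit 2, nat_lit 2, nat_lit 4, nat_lit 3, nat_lit 2]], nat_lit 0, [nat_lit 2, nat_lit 1, nat_lit 0], by decide +kernel⟩)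
  exact ⟨S, h⟩

end H27.U34
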